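import Cfsg.Agent.Lib.ONStd.Facts
import Cfsg.Agent.Lib.Layer.StandardRankOne

/-!
A standard copy of the fourfold cover and the action of its normaliser.
-/

set_option autoImplicit false
set_option linter.style.haveILetI false
set_option maxRecDepth 8000

open scoped MatrixGroups

namespace CfsgLib.ONStd

open CfsgLib.ONUnique

universe u

variable {s : Bool}

/-- the central generator in the cover -/
noncomputable def cL (s : Bool) : eL s := ⟨cE s, cE_mem s⟩

/-- the inner involution in the cover -/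
noncomputable def uL (s : Bool) : eL s := ⟨uE s, uE_mem s⟩

theorem cL_pow (l : ℕ) : ((cL s ^ l : eL s) : PE s) = cE s ^ l := SubgroupClass.coe_pow _ _

theorem cL_comm (x : eL s) : cL s * x = x * cL s := Subtype.ext (cE_comm s x.2)

theorem isZ_of_center {x : eL s} (h : ∀ y : eL s, x * y = y * x) : IsZ s (x : PE s) :=
  isZ_of_central s (eL_le s x.2) fun y hy => congrArg Subtype.val (h ⟨y, hy⟩)

theorem center_eq {x : eL s} : x ∈ Subgroup.center (eL s) ↔ IsZ s (x : PE s) := by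
  refine ⟨fun h => isZ_of_center fun y => (Subgroup.mem_center_iff.1 h y).symm, ?_⟩
  rintro ⟨l, -, e⟩
  refine Subgroup.mem_center_iff.2 fun y => Subtype.ext ?_
  rw [Subgroup.coe_mul, Subgroup.coe_mul, e, cE_pow_comm s l y.2]

theorem isZ_comm {z : PE s} (hz : IsZ s z) {x : PE s} (hx : x ∈ eL s) : z * x = x * z := by
  obtain ⟨l, -, rfl⟩ := hz
  exact cE_pow_comm s l hx

theorem uE_sq (s : Bool) : uE s * uE s = 1 := by
  have hl : (eS s).letOK ([0] ++ [0]) = true := letOK18 s (by simp)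
  have h : (eS s).fullEq ([0] ++ [0]) [] = true := by cases s <;> decide +kernel
  have e := Sys.fullEq_spec (sysFacts s).sok hl rfl h
  rwa [Sys.ev_append, Sys.ev_nil] at e

theorem uE_not_isZ (s : Bool) : ¬ IsZ s (uE s) := by
  rintro ⟨l, hl, e⟩
  have e' := ((lstFacts s).ku.2.trans e).trans ((lstFacts s).zc l hl).2.symm
  have := xE_inj s (lstFacts s).ku.1 ((lstFacts s).zc l hl).1 e'
  revert this
  cases s <;> interval_cases l <;> decide

theorem uE_ne_one (s : Bool) : uE s ≠ 1 := fun e =>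
  uE_not_isZ s ⟨0, by norm_num, by rw [e, pow_zero]⟩

/-- The extension acts on the cover: an element conjugates the central generator to itself or its inverse. -/
theorem conj_cE {e : PE s} (he : e ∈ (eS s).G) : e * cE s ^ 2 * e⁻¹ = cE s ^ 2 := by
  have hm := eL_normal s he (cE_mem s)
  obtain ⟨l, hl, el⟩ := isZ_of_central s (eL_le s hm) fun y hy => by
    have hy' : e⁻¹ * y * e ∈ eL s := by
      have := eL_normal s (inv_mem he) hy
      rwa [inv_inv] at this
    calc e * cE s * e⁻¹ * y = e * (cE s * (e⁻¹ * y * e)) * e⁻¹ := by group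
      _ = e * ((e⁻¹ * y * e) * cE s) * e⁻¹ := by rw [cE_comm s hy']
      _ = _ := by group
  have h2 : e * cE s ^ 2 * e⁻¹ = cE s ^ (l + l) := by
    rw [pow_add, ← el, pow_two]; group
  have hne : cE s ^ (l + l) ≠ 1 := fun h => by
    rw [h, conj_eq_one_iff] at h2
    exact cE_pow_ne s (by norm_num) (by norm_num) h2
  interval_cases l
  · simp at hne
  · exact h2
  · exact absurd (show cE s ^ (2 + 2) = 1 from cE_four s) hne
  · rw [h2, show 3 + 3 = 4 + 2 by rfl, pow_add, cE_four, one_mul]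

/-- the situation -/
structure Ctx (G : Type u) [Group G] (s : Bool) where
  /-- the copy of the cover -/
  ι : eL s →* G
  /-- faithful -/
  inj : Function.Injective ι
  /-- standard -/
  std : Cfsg.IsStandardSubgroup ι.range

/-- An automorphism carries standard subgroups to standard subgroups. -/
theorem standard_map {G : Type u} [Group G] {L : Subgroup G} (hL : Cfsg.IsStandardSubgroup L) (φ : G ≃* G) :
    Cfsg.IsStandardSubgroup (L.map φ.toMonoidHom) := by
  obtain ⟨hq, ⟨heven, htight⟩, hcomm, hnorm⟩ := hL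
  have hcen : Subgroup.centralizer ((L.map φ.toMonoidHom : Subgroup G) : Set G) =
      (Subgroup.centralizer (L : Set G)).map φ.toMonoidHom := by
    apply Subgroup.ext
    intro x
    rw [Subgroup.mem_map_equiv, Subgroup.mem_centralizer_iff, Subgroup.mem_centralizer_iff]
    constructor
    · intro h l hl
      exact φ.injective (by simpa using h (φ l) ⟨l, hl, rfl⟩)
    · rintro h _ ⟨l, hl, rfl⟩
      simpa using congrArg φ (h l hl)
  have hcj : ∀ (H : Subgroup G) (g : G), (H.map φ.toMonoidHom).map (MulAut.conj g).toMonoidHom =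
      (H.map (MulAut.conj (φ.symm g)).toMonoidHom).map φ.toMonoidHom := fun H g => by
    rw [Subgroup.map_map, Subgroup.map_map]
    congr 1
    ext x
    simp
  have hN : ∀ H : Subgroup G, Subgroup.normalizer ((H.map φ.toMonoidHom : Subgroup G) : Set G) =
      (Subgroup.normalizer (H : Set G)).map φ.toMonoidHom := fun H =>
    (Subgroup.map_equiv_normalizer_eq H φ).symm
  refine ⟨(Layer.isQuasisimple_congr (L.equivMapOfInjective φ.toMonoidHom φ.injective)).1 hq,
    ⟨?_, fun g hg => ?_⟩, fun g hg => ?_, ?_⟩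
  · rw [hcen, Subgroup.card_map_of_injective φ.injective]; exact heven
  · rw [hcen] at hg ⊢
    rw [hcj, ← Subgroup.map_inf_eq _ _ _ φ.injective, Subgroup.card_map_of_injective φ.injective]
    refine htight _ fun h => hg ?_
    rw [hN]
    exact Subgroup.mem_map_equiv.2 h
  · rw [hcj] at hg ⊢
    rw [← Subgroup.map_commutator]
    exact fun h => hcomm _ (fun e => hg (by rw [e]))
      ((Subgroup.map_eq_bot_iff_of_injective _ φ.injective).1 h)
  · rw [hcen, hN, hN, hnorm]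

namespace Ctx

variable {G : Type u} [Group G] (c : Ctx G s)

/-- the centre generator -/
noncomputable def cc : G := c.ι (cL s)

/-- the central involution -/
noncomputable def z : G := c.ι (cL s ^ 2)

/-- the inner involution -/
noncomputable def u : G := c.ι (uL s)

/-- its centraliser -/
noncomputable def N : Subgroup G := Subgroup.centralizer ({c.z} : Set G)

/-- the centraliser of the copy -/
noncomputable def K : Subgroup G := Subgroup.centralizer (c.ι.range : Set G)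

/-- an element of the extension with the same action on the copy -/
def Acts (n : G) (e : PE s) : Prop :=
  e ∈ (eS s).G ∧ ∀ x x' : eL s, e * (x : PE s) * e⁻¹ = (x' : PE s) → n * c.ι x * n⁻¹ = c.ι x'

theorem mem_K {k : G} : k ∈ c.K ↔ ∀ x : eL s, c.ι x * k = k * c.ι x := by
  rw [K, Subgroup.mem_centralizer_iff]
  exact ⟨fun h x => h _ ⟨x, rfl⟩, fun h _ ⟨x, hx⟩ => hx ▸ h x⟩

theorem mem_N {n : G} : n ∈ c.N ↔ n * c.z = c.z * n := by
  rw [N, Subgroup.mem_centralizer_singleton_iff]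

theorem z_eq : c.z = c.cc * c.cc := by rw [z, cc, pow_two, map_mul]

theorem cc_mem_K : c.cc ∈ c.K := c.mem_K.2 fun x => by rw [cc, ← map_mul, ← map_mul, cL_comm]

theorem z_mem_K : c.z ∈ c.K := c.z_eq ▸ mul_mem c.cc_mem_K c.cc_mem_K

theorem z_ne : c.z ≠ 1 := fun e => by
  have h := congrArg Subtype.val (c.inj (e.trans (map_one c.ι).symm))
  rw [cL_pow] at h
  exact cE_pow_ne s (by norm_num) (by norm_num) h

theorem z_sq : c.z * c.z = 1 := by
  rw [z, ← map_mul, ← pow_add, show cL s ^ (2 + 2) = 1 from Subtype.ext (by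
    rw [cL_pow]; exact cE_four s), map_one]

theorem orderOf_z : orderOf c.z = 2 :=
  orderOf_eq_prime (by rw [pow_two, c.z_sq]) c.z_ne

theorem cc_four : c.cc ^ 4 = 1 := by
  rw [show (4 : ℕ) = 2 + 2 by rfl, pow_add, pow_two, ← c.z_eq, c.z_sq]

theorem iota_comm_z (x : eL s) : c.ι x * c.z = c.z * c.ι x := c.mem_K.1 c.z_mem_K x

theorem iota_mem_N (x : eL s) : c.ι x ∈ c.N := c.mem_N.2 (c.iota_comm_z x)

theorem K_le_N : c.K ≤ c.N := fun k hk => c.mem_N.2 (by rw [z]; exact (c.mem_K.1 hk _).symm)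

theorem u_sq : c.u * c.u = 1 := by
  rw [u, ← map_mul, show uL s * uL s = 1 from Subtype.ext (uE_sq s), map_one]

theorem u_notMem_K : c.u ∉ c.K := fun h => uE_not_isZ s
  (isZ_of_center (x := uL s) fun y => c.inj (by simp only [map_mul]; exact (c.mem_K.1 h y).symm))

theorem u_ne : c.u ≠ 1 := fun h => c.u_notMem_K (h ▸ c.K.one_mem)

theorem acts_apply {n : G} {e : PE s} (h : c.Acts n e) (x : eL s) :
    n * c.ι x * n⁻¹ = c.ι ⟨_, eL_normal s h.1 x.2⟩ := h.2 x ⟨_, eL_normal s h.1 x.2⟩ rfl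

theorem acts_iota (x : eL s) : c.Acts (c.ι x) (x : PE s) :=
  ⟨eL_le s x.2, fun y y' h => by
    rw [← map_inv, ← map_mul, ← map_mul]
    exact congrArg c.ι (Subtype.ext h)⟩

theorem acts_mul {n m : G} {e f : PE s} (h : c.Acts n e) (h' : c.Acts m f) :
    c.Acts (n * m) (e * f) := by
  refine ⟨mul_mem h.1 h'.1, fun x x' hx => ?_⟩
  rw [show n * m * c.ι x * (n * m)⁻¹ = n * (m * c.ι x * m⁻¹) * n⁻¹ by group, c.acts_apply h' x]
  exact h.2 _ _ (by rw [← hx]; group)

theorem acts_K {k : G} (hk : k ∈ c.K) : c.Acts k 1 :=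
  ⟨one_mem _, fun x x' hx => by
    rw [one_mul, inv_one, mul_one] at hx
    rw [← c.mem_K.1 hk x, mul_inv_cancel_right, Subtype.ext hx]⟩

theorem acts_one : c.Acts 1 1 := c.acts_K c.K.one_mem

theorem acts_inv {n : G} {e : PE s} (h : c.Acts n e) : c.Acts n⁻¹ e⁻¹ := by
  refine ⟨inv_mem h.1, fun x x' hx => ?_⟩
  rw [inv_inv] at hx ⊢
  have := h.2 x' x (by rw [← hx]; group)
  rw [← this]
  group

theorem acts_pow {n : G} {e : PE s} (h : c.Acts n e) : ∀ k : ℕ, c.Acts (n ^ k) (e ^ k)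
  | 0 => by rw [pow_zero, pow_zero]; exact c.acts_one
  | k + 1 => by rw [pow_succ, pow_succ]; exact c.acts_mul (acts_pow h k) h

theorem acts_isZ {n : G} {e z : PE s} (h : c.Acts n e) (hz : IsZ s z) : c.Acts n (e * z) :=
  ⟨mul_mem h.1 (eL_le s (isZ_mem s hz)), fun x x' hx => h.2 x x' (by
    rw [← hx, show e * z * (x : PE s) * (e * z)⁻¹ = e * ((z * x) * z⁻¹) * e⁻¹ by group, isZ_comm hz x.2,
      mul_inv_cancel_right])⟩

theorem acts_K_iff {n : G} {e : PE s} (h : c.Acts n e) : n ∈ c.K ↔ IsZ s e := by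
  refine ⟨fun hk => isZ_of_central s h.1 fun y hy => ?_, fun hz => c.mem_K.2 fun x => ?_⟩
  · have h1 := c.acts_apply h ⟨y, hy⟩
    rw [← c.mem_K.1 hk, mul_inv_cancel_right] at h1
    exact (mul_inv_eq_iff_eq_mul.1 (congrArg Subtype.val (c.inj h1)).symm)
  · have h1 := h.2 x x (by rw [isZ_comm hz x.2, mul_inv_cancel_right])
    exact (mul_inv_eq_iff_eq_mul.1 h1).symm

theorem acts_unique {n : G} {e f : PE s} (h : c.Acts n e) (h' : c.Acts n f) : IsZ s (e⁻¹ * f) := by
  have := c.acts_mul (c.acts_inv h) h'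
  rw [inv_mul_cancel] at this
  exact (c.acts_K_iff this).1 c.K.one_mem

theorem acts_mem_N {n : G} {e : PE s} (h : c.Acts n e) : n ∈ c.N := by
  refine c.mem_N.2 (mul_inv_eq_iff_eq_mul.1 ?_)
  exact h.2 _ _ (by rw [cL_pow]; exact conj_cE h.1)

/-- An element commutes with an element of the copy exactly when its action does. -/
theorem acts_comm_iff {n : G} {e : PE s} (h : c.Acts n e) (x : eL s) :
    n * c.ι x = c.ι x * n ↔ e * (x : PE s) = (x : PE s) * e := by
  refine ⟨fun hx => ?_, fun hx => ?_⟩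
  · have h1 := c.acts_apply h x
    rw [hx, mul_inv_cancel_right] at h1
    exact mul_inv_eq_iff_eq_mul.1 (congrArg Subtype.val (c.inj h1)).symm
  · exact mul_inv_eq_iff_eq_mul.1 (h.2 x x (by rw [hx, mul_inv_cancel_right]))

variable [Finite G]

theorem norm_eq : Subgroup.normalizer (c.ι.range : Set G) = c.N := by
  refine le_antisymm (fun n hn => ?_) fun n hn =>
    StandardRankOne.centralizer_involution_le _ c.std c.z_mem_K c.orderOf_z (c.mem_N.1 hn)
  obtain ⟨y, hy⟩ := (Subgroup.mem_normalizer_iff.1 hn c.cc).1 ⟨cL s, rfl⟩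
  have hcen : ∀ w : eL s, y * w = w * y := fun w => c.inj (by
    obtain ⟨w', hw'⟩ := (Subgroup.mem_normalizer_iff''.1 hn (c.ι w)).1 ⟨w, rfl⟩
    have := c.mem_K.1 c.cc_mem_K w'
    rw [map_mul, map_mul, hy]
    calc n * c.cc * n⁻¹ * c.ι w = n * (c.cc * (n⁻¹ * c.ι w * n)) * n⁻¹ := by group
      _ = n * ((n⁻¹ * c.ι w * n) * c.cc) * n⁻¹ := by rw [← hw', this]
      _ = _ := by group)
  obtain ⟨l, hl, el⟩ := isZ_of_center hcen
  have hy' : y = cL s ^ l := Subtype.ext (by rw [cL_pow]; exact el)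
  have hz : n * c.z * n⁻¹ = c.ι (cL s ^ (l + l)) := by
    rw [c.z_eq, show n * (c.cc * c.cc) * n⁻¹ = (n * c.cc * n⁻¹) * (n * c.cc * n⁻¹) by group, ← hy,
      ← map_mul, hy', ← pow_add]
  refine c.mem_N.2 (mul_inv_eq_iff_eq_mul.1 (hz.trans ?_))
  have h4 : cL s ^ 4 = 1 := Subtype.ext (by rw [cL_pow]; exact cE_four s)
  have hne : cL s ^ (l + l) ≠ 1 := fun h => c.z_ne (by
    rw [h, map_one, conj_eq_one_iff] at hz; exact hz)
  interval_cases l
  · simp at hne
  · rfl
  · exact absurd h4 hne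
  · rw [show 3 + 3 = 4 + 2 by rfl, pow_add, h4, one_mul]; rfl

theorem conj_iota {n : G} (hn : n ∈ c.N) (x : eL s) : ∃ x' : eL s, n * c.ι x * n⁻¹ = c.ι x' := by
  rw [← c.norm_eq] at hn
  obtain ⟨x', hx'⟩ := (Subgroup.mem_normalizer_iff.1 hn (c.ι x)).1 ⟨x, rfl⟩
  exact ⟨x', hx'.symm⟩

theorem conj_K {n k : G} (hn : n ∈ c.N) (hk : k ∈ c.K) : n * k * n⁻¹ ∈ c.K := by
  refine c.mem_K.2 fun x => ?_
  obtain ⟨x', hx'⟩ := c.conj_iota (c.N.inv_mem hn) x
  rw [inv_inv] at hx'
  calc c.ι x * (n * k * n⁻¹) = n * ((n⁻¹ * c.ι x * n) * k) * n⁻¹ := by group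
    _ = n * (k * (n⁻¹ * c.ι x * n)) * n⁻¹ := by rw [hx', c.mem_K.1 hk]
    _ = _ := by group

/-- Two conjugate involutions of the centraliser of the copy are conjugate only in the normaliser. -/
theorem mem_N_of_conj {v h : G} (hv : v ∈ c.K) (h2 : orderOf v = 2) (hh : h * v * h⁻¹ ∈ c.K) : h ∈ c.N := by
  rw [← c.norm_eq, c.std.2.2.2]
  by_contra hn
  have hodd := c.std.2.1.2 h hn
  have hm : h * v * h⁻¹ ∈ c.K ⊓ c.K.map (MulAut.conj h).toMonoidHom := ⟨hh, v, hv, rfl⟩
  have h3 := Subgroup.orderOf_dvd_natCard _ hm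
  rw [← MulAut.conj_apply, MulEquiv.orderOf_eq, h2] at h3
  exact (Nat.not_even_iff_odd.2 hodd) (even_iff_two_dvd.2 h3)

/-- The centraliser of an involution of `K` lies in `N`. -/
theorem centralizer_le {v y : G} (hv : v ∈ c.K) (h2 : orderOf v = 2) (hy : y * v = v * y) : y ∈ c.N :=
  c.mem_N_of_conj hv h2 (by rwa [hy, mul_inv_cancel_right])

/-- Every element of the normaliser acts like an element of the extension. -/
theorem exists_act {n : G} (hn : n ∈ c.N) : ∃ e, c.Acts n e := by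
  classical
  letI : Fintype F4 := Fintype.ofFinite F4
  have hF := card_F4
  obtain ⟨code, π, c1, -, hmul, hcb, hπs, hπk, hπx⟩ := exists_piU (F := F4) hF
  obtain ⟨a, ha⟩ := hcb.2 (false, true)
  have ha1 : a ≠ 1 := fun h => by rw [h, c1] at ha; exact absurd ha (by decide)
  have ha0 : a ≠ 0 := by
    rintro rfl
    have h1 := hmul 0 0
    rw [zero_mul, ha] at h1
    exact absurd h1 (by decide)
  set γ : F4ˣ := Units.mk0 a ha0
  obtain ⟨σ, hσ, hσu⟩ := exists_frob hF
  let Φ : U →* eL s := (rhoE s).rangeRestrict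
  have hΦ : Function.Surjective Φ := (rhoE s).rangeRestrict_surjective
  have hΦv : ∀ y, (Φ y : PE s) = rhoE s y := fun y => rfl
  choose θ hθ using c.conj_iota hn
  choose θ' hθ' using c.conj_iota (c.N.inv_mem hn)
  let T : MulAut (eL s) :=
    { toFun := θ
      invFun := θ'
      left_inv := fun x => c.inj (by rw [← hθ', ← hθ]; group)
      right_inv := fun x => c.inj (by rw [← hθ, ← hθ']; group)
      map_mul' := fun x y => c.inj (by rw [map_mul, ← hθ, ← hθ, ← hθ, map_mul]; group) }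
  have hcen : ∀ y, Φ y ∈ Subgroup.center (eL s) ↔ y ∈ Z0 := by
    intro y
    refine ⟨fun h => ?_, fun hy => ?_⟩
    · obtain ⟨l, -, e⟩ := center_eq.1 h
      have hk : (za ^ 0 * zb ^ l)⁻¹ * y ∈ (rhoE s).ker := by
        rw [MonoidHom.mem_ker, map_mul, map_inv, rhoE_z, inv_mul_eq_one, ← hΦv y, e, cE_pow]
        rfl
      have hz : za ^ 0 * zb ^ l ∈ Z0 := by
        rw [← zpow_pair]
        exact ⟨⟨_, Nat.mod_lt _ (by norm_num)⟩, ⟨_, Nat.mod_lt _ (by norm_num)⟩, rfl⟩
      have := Z0.mul_mem hz (rhoE_ker_le s hk)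
      rwa [mul_inv_cancel_left] at this
    · refine Subgroup.mem_center_iff.2 fun x => ?_
      obtain ⟨v, rfl⟩ := hΦ x
      rw [← map_mul, ← map_mul, Subgroup.mem_center_iff.1 (Z0_le_center hy) v]
  have hker : Φ.ker ≤ π.ker := fun y hy => hπk ▸ (hcen y).1 (by
    rw [MonoidHom.mem_ker.1 hy]; exact one_mem _)
  let πb : eL s →* PSL(3, F4) := Φ.liftOfSurjective hΦ ⟨π, hker⟩
  have hπb : ∀ y, πb (Φ y) = π y := fun y => Φ.liftOfRightInverse_comp_apply _ _ ⟨π, hker⟩ y
  have hπbs : Function.Surjective πb := fun p => by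
    obtain ⟨y, rfl⟩ := hπs p
    exact ⟨Φ y, hπb y⟩
  have hπbk : ∀ x, x ∈ πb.ker ↔ x ∈ Subgroup.center (eL s) := fun x => by
    obtain ⟨y, rfl⟩ := hΦ x
    rw [MonoidHom.mem_ker, hπb, hcen, ← hπk, MonoidHom.mem_ker]
  have hTk : πb.ker ≤ (πb.comp T.toMonoidHom).ker := fun x hx => by
    rw [MonoidHom.mem_ker, MonoidHom.comp_apply, ← MonoidHom.mem_ker, hπbk]
    exact (Subgroup.centerCongr T ⟨x, (hπbk x).1 hx⟩).2
  let β₀ : PSL(3, F4) →* PSL(3, F4) := πb.liftOfSurjective hπbs ⟨_, hTk⟩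
  have hβ₀ : ∀ x, β₀ (πb x) = πb (T x) := fun x => πb.liftOfRightInverse_comp_apply _ _ ⟨_, hTk⟩ x
  have hβs : Function.Surjective β₀ := fun p => by
    obtain ⟨x, rfl⟩ := hπbs p
    exact ⟨πb (T.symm x), by rw [hβ₀, MulEquiv.apply_symm_apply]⟩
  obtain ⟨sp, k, i, j, hk, hi, hj, hβ⟩ := exists_word_form hF (c := γ) (show a ≠ 1 from ha1) hσ hσu
    (MulEquiv.ofBijective β₀ ⟨Finite.injective_iff_surjective.2 hβs, hβs⟩)
  set w := nfW ⟨k, hk⟩ ⟨i, hi⟩ ⟨j, hj⟩ with hw
  obtain ⟨us, hus⟩ := hπs sp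
  have hf : T.toMonoidHom.comp Φ = Φ.comp ((MulAut.conj us).toMonoidHom.comp (cW w)) := by
    refine hom_eq_of_perfect commutator_U _ _ fun y => (hπbk _).1 ?_
    rw [MonoidHom.mem_ker, map_mul, map_inv]
    show (πb (Φ (us * cW w y * us⁻¹)))⁻¹ * πb (T (Φ y)) = 1
    rw [← hβ₀, hπb, hπb, show β₀ (π y) = MulEquiv.ofBijective β₀
      ⟨Finite.injective_iff_surjective.2 hβs, hβs⟩ (π y) from rfl, hβ, map_mul, map_mul, map_inv, hus,
      MulAut.mul_apply, MulAut.conj_apply, pi_cW hF c1 hmul hcb hπk hπx (c := γ) ha hσ]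
    exact inv_mul_cancel _
  have hTx : ∀ y : U, T (Φ y) = Φ (us * cW w y * us⁻¹) := fun y => DFunLike.congr_fun hf y
  have hk0 : (⟨k, hk⟩ : Fin 3) = 0 := diag_zero s ⟨k, hk⟩ ⟨i, hi⟩ ⟨j, hj⟩ fun p q hpq => by
    have hb : cond s 2 0 = (bas s).1 ∧ 1 = (bas s).2 := by cases s <;> exact ⟨rfl, rfl⟩
    have h0 : Φ (za ^ (p : ℕ) * zb ^ (q : ℕ)) = 1 := Subtype.ext (by
      rw [hΦv, (rhoE_z_eq_one s p.2 q.2).2 (by rw [hb.1, hb.2]; exact hpq)]; rfl)
    have h1 := hTx (za ^ (p : ℕ) * zb ^ (q : ℕ))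
    rw [h0, map_one, map_mul, map_mul, map_inv, cW_z, ← zpow_pair] at h1
    have h2 : Φ (za ^ (zAct w p q).1 * zb ^ (zAct w p q).2) = 1 := by
      rw [zAct]; exact conj_eq_one_iff.1 h1.symm
    have h3 := (rhoE_z_eq_one s (Nat.mod_lt _ (by norm_num)) (Nat.mod_lt _ (by norm_num))).1
      (congrArg Subtype.val h2)
    rw [hb.1, hb.2] at h3
    exact h3
  have hwL : ∀ L ∈ w, L ≠ 0 := by
    rw [hw, nfW, hk0]
    intro L hL
    simp only [Fin.val_zero, List.replicate_zero, List.nil_append, List.mem_append,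
      List.mem_replicate] at hL
    rcases hL with ⟨-, rfl⟩ | ⟨-, rfl⟩ <;> decide
  have hol : (eS s).letOK (outW w) = true := by
    simp only [Sys.letOK, List.all_eq_true, Nat.blt_eq, (sysFacts s).hn, outW, List.mem_map]
    rintro _ ⟨L, -, rfl⟩
    omega
  refine ⟨rhoE s us * (eS s).ev (outW w), mul_mem (eL_le s ⟨us, rfl⟩) (Sys.ev_mem _ hol),
    fun x x' hx => ?_⟩
  obtain ⟨y, rfl⟩ := hΦ x
  rw [show n * c.ι (Φ y) * n⁻¹ = c.ι (T (Φ y)) from hθ _, hTx]
  congr 1
  refine Subtype.ext ?_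
  rw [hΦv, map_mul, map_mul, map_inv, ← rhoE_conj s hwL y, ← hx, hΦv]
  group

/-- the conjugate copy -/
noncomputable def conj (h : G) : Ctx G s where
  ι := (MulAut.conj h).toMonoidHom.comp c.ι
  inj := (MulAut.conj h).injective.comp c.inj
  std := by
    rw [MonoidHom.range_comp]
    exact standard_map c.std _

omit [Finite G] in
theorem conj_z (h : G) : (c.conj h).z = h * c.z * h⁻¹ := rfl

omit [Finite G] in
theorem conj_cc (h : G) : (c.conj h).cc = h * c.cc * h⁻¹ := rfl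

omit [Finite G] in
theorem conj_u (h : G) : (c.conj h).u = h * c.u * h⁻¹ := rfl

omit [Finite G] in
theorem conj_iota_apply (h : G) (x : eL s) : (c.conj h).ι x = h * c.ι x * h⁻¹ := rfl

end Ctx

end CfsgLib.ONStd
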