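import Cfsg.Agent.Lib.ONStd.Fin

/-!
The centraliser of the cover in the centraliser of the inner involution, other class.
-/

set_option autoImplicit false
set_option maxRecDepth 20000

namespace CfsgLib.ONStd

open CfsgLib.ONUnique

theorem centre_true : ((List.range 512).all fun i =>
    memB i (zcI true) || (List.range 18).any fun g =>
      !((eS true).baseEq (eB true) (g :: (eX true).el i) ((eX true).el i ++ [g]))) = true := by
  decide +kernel

end CfsgLib.ONStd
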