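import Cfsg.Agent.Lib.ONStd.Fin

/-!
The table of products, kernel class 0.
-/

set_option autoImplicit false
set_option maxRecDepth 20000

namespace CfsgLib.ONStd

theorem mul_false_0 : mulPart false 0 = true := by decide +kernel

theorem mul_false_1 : mulPart false 1 = true := by decide +kernel

theorem mul_false_2 : mulPart false 2 = true := by decide +kernel

theorem mul_false_3 : mulPart false 3 = true := by decide +kernel

theorem mul_false_4 : mulPart false 4 = true := by decide +kernel

theorem mul_false_5 : mulPart false 5 = true := by decide +kernel

theorem mul_false_6 : mulPart false 6 = true := by decide +kernel

theorem mul_false_7 : mulPart false 7 = true := by decide +kernel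

theorem mul_false_8 : mulPart false 8 = true := by decide +kernel

theorem mul_false_9 : mulPart false 9 = true := by decide +kernel

theorem mul_false_10 : mulPart false 10 = true := by decide +kernel

theorem mul_false_11 : mulPart false 11 = true := by decide +kernel

theorem mul_false_12 : mulPart false 12 = true := by decide +kernel

theorem mul_false_13 : mulPart false 13 = true := by decide +kernel

theorem mul_false_14 : mulPart false 14 = true := by decide +kernel

theorem mul_false_15 : mulPart false 15 = true := by decide +kernel

theorem mul_false : ∀ b : Fin 16, mulPart false b.val = true := by
  rintro ⟨i, hi⟩
  interval_cases i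
  exacts [mul_false_0, mul_false_1, mul_false_2, mul_false_3, mul_false_4, mul_false_5, mul_false_6, mul_false_7, mul_false_8, mul_false_9, mul_false_10, mul_false_11, mul_false_12, mul_false_13, mul_false_14, mul_false_15]

end CfsgLib.ONStd
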