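import Cfsg.Agent.Lib.ONStd.Fin

/-!
The table of products, kernel class 1.
-/

set_option autoImplicit false
set_option maxRecDepth 20000

namespace CfsgLib.ONStd

theorem mul_true_0 : mulPart true 0 = true := by decide +kernel

theorem mul_true_1 : mulPart true 1 = true := by decide +kernel

theorem mul_true_2 : mulPart true 2 = true := by decide +kernel

theorem mul_true_3 : mulPart true 3 = true := by decide +kernel

theorem mul_true_4 : mulPart true 4 = true := by decide +kernel

theorem mul_true_5 : mulPart true 5 = true := by decide +kernel

theorem mul_true_6 : mulPart true 6 = true := by decide +kernel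

theorem mul_true_7 : mulPart true 7 = true := by decide +kernel

theorem mul_true_8 : mulPart true 8 = true := by decide +kernel

theorem mul_true_9 : mulPart true 9 = true := by decide +kernel

theorem mul_true_10 : mulPart true 10 = true := by decide +kernel

theorem mul_true_11 : mulPart true 11 = true := by decide +kernel

theorem mul_true_12 : mulPart true 12 = true := by decide +kernel

theorem mul_true_13 : mulPart true 13 = true := by decide +kernel

theorem mul_true_14 : mulPart true 14 = true := by decide +kernel

theorem mul_true_15 : mulPart true 15 = true := by decide +kernel

theorem mul_true : ∀ b : Fin 16, mulPart true b.val = true := by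
  rintro ⟨i, hi⟩
  interval_cases i
  exacts [mul_true_0, mul_true_1, mul_true_2, mul_true_3, mul_true_4, mul_true_5, mul_true_6, mul_true_7, mul_true_8, mul_true_9, mul_true_10, mul_true_11, mul_true_12, mul_true_13, mul_true_14, mul_true_15]

end CfsgLib.ONStd
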