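import Cfsg.Agent.Lib.ONStd.Rel
import Cfsg.Agent.Lib.ONStd.ChkE0
import Cfsg.Agent.Lib.ONStd.ChkE1
import Cfsg.Agent.Lib.ONStd.ChkF0
import Cfsg.Agent.Lib.ONStd.ChkF1

/-!
The centraliser of the inner involution in the block, and the inner involutions of the cover.
-/

set_option autoImplicit false
set_option maxRecDepth 8000

namespace CfsgLib.ONStd

open CfsgLib.ONUnique
open CfsgLib.CosetEnum (strict strict_eq)

/-- the table gives the products -/
theorem mu_spec {s : Bool} (XF : (eX s).Facts (eS s)) (hs : (eX s).size = 512) (h : colOKE s = true) :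
    ∀ i < 512, ∀ j < 512, mu s i j < 512 ∧
      (eS s).ev ((eX s).el (mu s i j)) = (eS s).ev ((eX s).el i) * (eS s).ev ((eX s).el j) := by
  simp only [colOKE, Bool.and_eq_true, List.all_eq_true, List.mem_range, strict_eq, Nat.beq_eq] at h
  obtain ⟨⟨hcol, hlen⟩, h1⟩ := h
  have hT : ∀ i < 512, ∀ g < 5, ∀ j < 512, look (rowT s i) j < 512 ∧
      look (rowT s (look ((eCol s).getD g 0) i)) j = look ((eCol s).getD g 0) (look (rowT s i) j) := by
    intro i hi g hg j hj
    have hb : mulPart s (i / 32) = true := by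
      cases s
      exacts [mul_false ⟨i / 32, by omega⟩, mul_true ⟨i / 32, by omega⟩]
    simp only [mulPart, Bool.and_eq_true, List.all_eq_true, List.mem_range, strict_eq, Nat.beq_eq,
      Nat.blt_eq] at hb
    have := hb (i % 32) (by omega) g hg j hj
    rwa [show 32 * (i / 32) + i % 32 = i by omega] at this
  intro i hi
  have hx : (eS s).ev ((eX s).el i) ∈ (eX s).sub (eS s) := (XF.mem_iff _).2 ⟨i, hs ▸ hi, rfl⟩
  have key : ∀ x ∈ Submonoid.closure {x | ∃ w ∈ (eX s).gens, (eS s).ev w = x}, ∃ i < 512,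
      (eS s).ev ((eX s).el i) = x ∧ ∀ j < 512,
        mu s i j < 512 ∧ (eS s).ev ((eX s).el (mu s i j)) = x * (eS s).ev ((eX s).el j) := by
    intro x hx
    induction hx using Submonoid.closure_induction_left with
    | one => exact ⟨(eX s).one, hs ▸ XF.one_lt, XF.one_eq, fun j hj => by
        rw [h1 j hj, one_mul]; exact ⟨hj, rfl⟩⟩
    | mul_left g hg y hy ih =>
      obtain ⟨i, hi, e, hr⟩ := ih
      obtain ⟨w, hw, rfl⟩ := hg
      obtain ⟨g, hg5, rfl⟩ := List.getElem_of_mem hw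
      have hgs : (eS s).ev (eX s).gens[g] = (eS s).ev ((eX s).gens.getD g []) := by
        rw [List.getD_eq_getElem?_getD, List.getElem?_eq_getElem hg5]; rfl
      have hg5' : g < 5 := hlen ▸ hg5
      have hstep := XF.step_eq i (hs ▸ hi) g hg5
      rw [hs] at hstep
      refine ⟨(eX s).step i g, hstep.1, by rw [hstep.2, hgs, e], fun j hj => ?_⟩
      obtain ⟨hk, he⟩ := hT i hi g hg5' j hj
      have hk' : mu s i j < 512 := hk
      have he' : mu s ((eX s).step i g) j = (eX s).step (mu s i j) g := by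
        have e1 : look (rowT s (look ((eCol s).getD g 0) i)) j = look ((eCol s).getD g 0) (mu s i j) := he
        rwa [hcol g hg5' _ hi, hcol g hg5' _ hk'] at e1
      have hst2 := XF.step_eq (mu s i j) (hs ▸ hk') g hg5
      rw [hs] at hst2
      rw [he']
      exact ⟨hst2.1, by rw [hst2.2, (hr j hj).2, hgs, mul_assoc]⟩
  obtain ⟨i', hi', e, hr⟩ := key _ (by rw [← Subgroup.closure_toSubmonoid_of_finite]; exact hx)
  have : i' = i := XF.inj _ (hs ▸ hi') _ (hs ▸ hi) e
  subst this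
  exact fun j hj => hr j hj

theorem okLst_all : ∀ s, okLst s = true
  | false => lst_false
  | true => lst_true

variable (s : Bool)

/-- the inner involution -/
noncomputable def uE : Equiv.Perm (Fin (eS s).N) := (eS s).ev uWd

/-- the generator of the centre -/
noncomputable def cE : Equiv.Perm (Fin (eS s).N) := (eS s).ev (cWd 1)

/-- a power of the generator of the centre -/
def IsZ (x : Equiv.Perm (Fin (eS s).N)) : Prop := ∃ l < 4, x = cE s ^ l

/-- an element of the centraliser -/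
noncomputable def xE (i : ℕ) : Equiv.Perm (Fin (eS s).N) := (eS s).ev ((eX s).el i)

/-- the centraliser of the inner involution -/
noncomputable def XX : Subgroup (Equiv.Perm (Fin (eS s).N)) :=
  (eS s).G ⊓ Subgroup.centralizer {uE s}

/-- its inner part -/
noncomputable def TT : Subgroup (Equiv.Perm (Fin (eS s).N)) := eL s ⊓ Subgroup.centralizer {uE s}

theorem cE_pow (l : ℕ) : cE s ^ l = (eS s).ev (cWd l) := by
  show (eS s).ev (zX 0 1) ^ l = (eS s).ev (zX 0 l)
  rw [← rhoE_z, ← rhoE_z, ← map_pow]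
  congr 1

theorem cE_mem : cE s ∈ eL s := ev_cWd_mem s 1

theorem cE_four : cE s ^ 4 = 1 := by
  rw [cE_pow, cWd, ← rhoE_z, pow_zero, one_mul, zb_pow, map_one]

theorem cE_pow_ne {l : ℕ} (h0 : l ≠ 0) (h4 : l < 4) : cE s ^ l ≠ 1 := by
  rw [cE_pow, cWd, ← rhoE_z, ne_eq, rhoE_z_eq_one s (by norm_num) h4]
  cases s <;> interval_cases l <;> first | exact absurd rfl h0 | decide

theorem cE_comm {x : Equiv.Perm (Fin (eS s).N)} (hx : x ∈ eL s) : cE s * x = x * cE s := by
  obtain ⟨y, rfl⟩ := hx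
  show (eS s).ev (zX 0 1) * rhoE s y = rhoE s y * (eS s).ev (zX 0 1)
  rw [← rhoE_z, ← map_mul, ← map_mul, pow_zero, one_mul, pow_one, zb_comm]

theorem cE_pow_comm (l : ℕ) {x : Equiv.Perm (Fin (eS s).N)} (hx : x ∈ eL s) :
    cE s ^ l * x = x * cE s ^ l :=
  ((show Commute (cE s) x from cE_comm s hx).pow_left l).eq

theorem isZ_pow (l : ℕ) : IsZ s (cE s ^ l) :=
  ⟨l % 4, Nat.mod_lt _ (by norm_num), pow_eq_pow_mod l (cE_four s)⟩

theorem isZ_mem {x : Equiv.Perm (Fin (eS s).N)} (h : IsZ s x) : x ∈ eL s := by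
  obtain ⟨l, -, rfl⟩ := h
  exact pow_mem (cE_mem s) l

theorem isZ_mul {x y : Equiv.Perm (Fin (eS s).N)} (hx : IsZ s x) (hy : IsZ s y) : IsZ s (x * y) := by
  obtain ⟨l, -, rfl⟩ := hx
  obtain ⟨k, -, rfl⟩ := hy
  rw [← pow_add]
  exact isZ_pow s _

theorem isZ_inv {x : Equiv.Perm (Fin (eS s).N)} (hx : IsZ s x) : IsZ s x⁻¹ := by
  obtain ⟨l, hl, rfl⟩ := hx
  rw [show (cE s ^ l)⁻¹ = cE s ^ (4 - l) from inv_eq_of_mul_eq_one_right (by
    rw [← pow_add, show l + (4 - l) = 4 by omega, cE_four])]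
  exact isZ_pow s _

theorem uE_mem : uE s ∈ eL s :=
  ⟨⟨sysU.ev [0], ev_mem_U (by simp)⟩, rhoE_word s (w := [0]) (by simp)⟩

theorem letOK_base : ∀ {v : List ℕ}, (∀ g ∈ v, g < 18) → (eS s).letOK v = true := fun h => letOK18 s h

theorem base_eq {v w : List ℕ} (hv : (eS s).letOK v = true) (hw : (eS s).letOK w = true)
    (h : (eS s).baseEq (eB s) v w = true) : (eS s).ev v = (eS s).ev w :=
  Sys.baseEq_spec (sysFacts s).sok (sysFacts s).hchain
    (by rw [card_eG, (sysFacts s).hsize]) hv hw h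

theorem base_ne {v w : List ℕ} (hv : (eS s).letOK v = true) (hw : (eS s).letOK w = true)
    (h : (eS s).baseEq (eB s) v w = false) : (eS s).ev v ≠ (eS s).ev w :=
  Sys.baseNe_spec (sysFacts s).sok (sysFacts s).hB hv hw h

/-- what the checks on the lists give -/
structure LstFacts : Prop where
  xfacts : (eX s).Facts (eS s)
  xsize : (eX s).size = 512
  xmul : ∀ i < 512, ∀ j < 512, mu s i j < 512 ∧ xE s (mu s i j) = xE s i * xE s j
  xu : ∀ i < 512, xE s i * uE s = uE s * xE s i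
  tp : ∀ i < 512, tpI s i = wT ((eX s).el i)
  tl : tList s = (List.range 512).filter (inT s)
  tcount : (tList s).length = 128
  trep : ∀ t < 4, ∃ i < 512, tpI s i = t
  ku : kuI s < 512 ∧ xE s (kuI s) = uE s
  zc : ∀ l < 4, zc s l < 512 ∧ xE s (zc s l) = cE s ^ l
  orb : 630 ≤ ((Subgroup.centralizer {uE s}).subgroupOf (eL s)).index
  classes : ∀ y ∈ eL s, IsZ s (y * y) → ¬ IsZ s y →
    ∃ v ∈ eL s, ∃ l < 4, y = v * (uE s * cE s ^ l) * v⁻¹

theorem lstFacts : LstFacts s := by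
  classical
  have F := sysFacts s
  have h := okLst_all s
  simp only [okLst, withL, Bool.and_eq_true, List.all_eq_true, List.mem_range, List.any_eq_true,
    Nat.beq_eq, Nat.blt_eq] at h
  obtain ⟨⟨⟨⟨⟨⟨⟨⟨⟨⟨⟨⟨⟨⟨⟨⟨⟨hX, hXs⟩, hXm⟩, hXg⟩, hT⟩, htp⟩, htl⟩, hrep⟩, hku⟩, hku'⟩, hzc⟩, horb⟩, horbn⟩, horbi⟩,
    hP⟩, hPs⟩, hPg⟩, hcls⟩ := h
  have hcard : Nat.card (eS s).G ≤ Sys.chainSize (eChain s) := by rw [card_eG, F.hsize]
  have hB : ∀ b ∈ (eChain s).map Prod.fst, b < (eS s).N := F.hB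
  have XF := Lst.facts F.sok F.hchain hcard hB hX
  have PF := Lst.facts F.sok F.hchain hcard hB hP
  have happ : ∀ {v w}, (eS s).letOK v = true → (eS s).letOK w = true → (eS s).letOK (v ++ w) = true :=
    fun hv hw => Sys.letOK_append.2 ⟨hv, hw⟩
  have hlu : (eS s).letOK uWd = true := letOK18 s (by simp [uWd])
  have hlc : ∀ l, (eS s).letOK (cWd l) = true := fun l => letOK18 s (zX_small 0 l)
  have hxu : ∀ i < 512, xE s i * uE s = uE s * xE s i := by
    intro i hi
    have hm : xE s i ∈ (eX s).sub (eS s) := (XF.mem_iff _).2 ⟨i, by omega, rfl⟩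
    have hle : (eX s).sub (eS s) ≤ Subgroup.centralizer {uE s} := by
      refine (Subgroup.closure_le _).2 ?_
      rintro _ ⟨g, hg, rfl⟩
      have hlg : (eS s).letOK g = true := by
        simp only [Lst.ok, Bool.and_eq_true] at hX
        exact List.all_eq_true.1 hX.1.1.1.1.1 g hg
      refine Subgroup.mem_centralizer_singleton_iff.2 ?_
      have := base_eq s (happ hlg hlu) (happ hlu hlg) (hXg g hg)
      rwa [Sys.ev_append, Sys.ev_append] at this
    exact Subgroup.mem_centralizer_singleton_iff.1 (hle hm)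
  have hidx : 630 ≤ ((Subgroup.centralizer {uE s}).subgroupOf (eL s)).index := by
    have hv : ∀ v ∈ eOrb s, (eS s).ev v ∈ eL s := fun v hv =>
      ⟨⟨sysU.ev v, ev_mem_U fun g hg => horb v hv g hg⟩, rhoE_word s fun g hg => horb v hv g hg⟩
    let f : Fin (eOrb s).length → eL s ⧸ (Subgroup.centralizer {uE s}).subgroupOf (eL s) :=
      fun j => ((⟨_, hv _ (List.get_mem (eOrb s) j)⟩ : eL s) : eL s ⧸ _)
    have hf : Function.Injective f := by
      intro a b hab
      have hm := QuotientGroup.eq.1 hab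
      rw [Subgroup.mem_subgroupOf, Subgroup.mem_centralizer_singleton_iff] at hm
      set A := (eS s).ev ((eOrb s).get a)
      set B := (eS s).ev ((eOrb s).get b)
      change A⁻¹ * B * uE s = uE s * (A⁻¹ * B) at hm
      have e : A * uE s * A⁻¹ = B * uE s * B⁻¹ := by
        calc A * uE s * A⁻¹ = A * (uE s * (A⁻¹ * B)) * B⁻¹ := by group
          _ = A * (A⁻¹ * B * uE s) * B⁻¹ := by rw [hm]
          _ = _ := by group
      have hla : ∀ j, (eS s).letOK ((eOrb s).get j) = true :=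
        fun j => letOK18 s fun g hg => horb _ (List.get_mem ..) g hg
      have hrun : ∀ j : Fin (eOrb s).length,
          (eS s).ev ((eOrb s).get j ++ uWd ++ (eS s).invW ((eOrb s).get j)) =
            (eS s).ev ((eOrb s).get j) * uE s * ((eS s).ev ((eOrb s).get j))⁻¹ := fun j => by
        rw [Sys.ev_append, Sys.ev_append, Sys.ev_invW F.sok (hla j)]; rfl
      apply Fin.ext
      refine ((nodup_of_incB horbi).getElem_inj_iff (hi := by simp) (hj := by simp)).1 ?_
      simp only [List.getElem_map]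
      congr 1
      refine List.map_congr_left fun p hp => ?_
      have e2 := (hrun a).trans (e.trans (hrun b).symm)
      have e3 := congrArg (fun q : Equiv.Perm (Fin (eS s).N) => (q ⟨p, F.hB p hp⟩ : ℕ)) e2
      simp only [Sys.run_eq F.sok (happ (happ (hla a) hlu) (Sys.letOK_invW (hla a))),
        Sys.run_eq F.sok (happ (happ (hla b) hlu) (Sys.letOK_invW (hla b)))] at e3
      simpa using e3
    have := Nat.card_le_card_of_injective f hf
    rwa [Nat.card_fin, horbn] at this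
  refine ⟨XF, hXs, mu_spec XF hXs hXm, hxu, htp, eq_of_beq htl, hT, fun t ht => ?_, ⟨hku, ?_⟩,
    fun l hl => ?_, hidx, ?_⟩
  · obtain ⟨i, hi, e⟩ := hrep t ht
    exact ⟨i, hi, e⟩
  · exact base_eq s (XF.letEl _) hlu hku'
  · exact ⟨(hzc l hl).1, by rw [cE_pow]; exact base_eq s (XF.letEl _) (hlc l) (hzc l hl).2⟩
  · intro y hy hyy hyZ
    haveI : Fact (Nat.Prime 2) := ⟨Nat.prime_two⟩
    have hPle : (eP s).sub (eS s) ≤ eL s := by
      refine (Subgroup.closure_le _).2 ?_
      rintro _ ⟨v, hv, rfl⟩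
      exact ⟨⟨sysU.ev v, ev_mem_U fun g hg => hPg v hv g hg⟩, rhoE_word s fun g hg => hPg v hv g hg⟩
    let P : Sylow 2 (eL s) := Sylow.ofCard (((eP s).sub (eS s)).subgroupOf (eL s)) (by
      rw [Nat.card_congr (Subgroup.subgroupOfEquivOfLe hPle).toEquiv, PF.card, hPs, card_eL,
        show (80640 : ℕ) = 2 ^ 8 * 315 by norm_num, Nat.factorization_mul (by norm_num) (by norm_num),
        Finsupp.add_apply, Nat.Prime.factorization_pow Nat.prime_two, Finsupp.single_eq_same,
        Nat.factorization_eq_zero_of_not_dvd (by norm_num : ¬ 2 ∣ 315)]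
      rfl)
    obtain ⟨l0, hl0, ey⟩ := hyy
    have h8 : (⟨y, hy⟩ : eL s) ^ 8 = 1 := Subtype.ext (by
      rw [SubgroupClass.coe_pow, show 8 = 2 * 4 from rfl, pow_mul, pow_two]
      show (y * y) ^ 4 = 1
      rw [ey, ← pow_mul, mul_comm, pow_mul, cE_four, one_pow])
    have hp : IsPGroup 2 (Subgroup.zpowers (⟨y, hy⟩ : eL s)) := fun g => by
      obtain ⟨g, n, rfl⟩ := g
      refine ⟨3, Subtype.ext ?_⟩
      show ((⟨y, hy⟩ : eL s) ^ n) ^ (2 ^ 3) = 1
      rw [← zpow_natCast, ← zpow_mul, mul_comm, zpow_mul, zpow_natCast]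
      norm_num [h8]
    obtain ⟨Q, hQ⟩ := hp.exists_le_sylow
    obtain ⟨g, hg⟩ := MulAction.exists_smul_eq (eL s) Q P
    have hm : g * ⟨y, hy⟩ * g⁻¹ ∈ (P : Subgroup (eL s)) := by
      rw [← hg, Sylow.coe_subgroup_smul]
      exact ⟨⟨y, hy⟩, hQ (Subgroup.mem_zpowers _), rfl⟩
    rw [Sylow.coe_ofCard, Subgroup.mem_subgroupOf, PF.mem_iff] at hm
    obtain ⟨i, hi, e⟩ := hm
    set y' := (eS s).ev ((eP s).el i) with hy'
    change y' = (g : Equiv.Perm (Fin (eS s).N)) * y * (g : Equiv.Perm (Fin (eS s).N))⁻¹ at e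
    have hy'y : y = (g : Equiv.Perm (Fin (eS s).N))⁻¹ * y' * g := by rw [e]; group
    have hzg : ∀ l, (g : Equiv.Perm (Fin (eS s).N)) * cE s ^ l * (g : Equiv.Perm (Fin (eS s).N))⁻¹ =
        cE s ^ l := fun l => by rw [← cE_pow_comm s l g.2, mul_inv_cancel_right]
    have hle := hcls i (by omega)
    rcases hc : (ePCls s).getD i (0, []) with ⟨_ | j, v⟩
    · rw [hc] at hle
      exfalso
      simp only [Bool.or_eq_true, List.any_eq_true, List.mem_range, Bool.not_eq_true'] at hle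
      rcases hle with ⟨j, hj, hje⟩ | hne
      · refine hyZ ⟨j, hj, ?_⟩
        have e2 := base_eq s (PF.letEl _) (hlc j) hje
        rw [← hy', ← cE_pow] at e2
        rw [hy'y, e2, mul_assoc, cE_pow_comm s j g.2, inv_mul_cancel_left]
      · rw [List.any_eq_false] at hne
        have := hne l0 (List.mem_range.2 hl0)
        refine base_ne s (happ (PF.letEl i) (PF.letEl i)) (hlc l0) (Bool.eq_false_iff.2 this) ?_
        rw [Sys.ev_append, ← hy', ← cE_pow, e,
          show (g : Equiv.Perm (Fin (eS s).N)) * y * (g : Equiv.Perm (Fin (eS s).N))⁻¹ *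
            ((g : Equiv.Perm (Fin (eS s).N)) * y * (g : Equiv.Perm (Fin (eS s).N))⁻¹) =
            g * (y * y) * (g : Equiv.Perm (Fin (eS s).N))⁻¹ by group, ey, hzg]
    · rw [hc] at hle
      simp only [Bool.and_eq_true, List.all_eq_true, Nat.blt_eq] at hle
      obtain ⟨⟨hj, hv⟩, heq⟩ := hle
      have hlv := letOK18 s hv
      have e2 := base_eq s (happ (happ (happ hlv hlu) (hlc j)) (Sys.letOK_invW hlv)) (PF.letEl _) heq
      simp only [Sys.ev_append, Sys.ev_invW F.sok hlv, ← cE_pow, ← hy'] at e2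
      refine ⟨(g : Equiv.Perm (Fin (eS s).N))⁻¹ * (eS s).ev v, mul_mem (inv_mem g.2)
        ⟨⟨sysU.ev v, ev_mem_U hv⟩, rhoE_word s hv⟩, j, hj, ?_⟩
      rw [hy'y, ← e2]
      show _ = _ * (uE s * _) * _
      simp only [uE]
      group

theorem xE_mem (i : ℕ) : xE s i ∈ (eS s).G := Sys.ev_mem _ ((lstFacts s).xfacts.letEl i)

theorem xE_typ {i : ℕ} (hi : i < 512) : typE s (xE s i) = tpI s i :=
  (typE_ev s ((lstFacts s).xfacts.letEl i)).trans ((lstFacts s).tp i hi).symm

theorem mem_tList {i : ℕ} : i ∈ tList s ↔ i < 512 ∧ inT s i = true := by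
  rw [(lstFacts s).tl, List.mem_filter, List.mem_range]

theorem xE_inj {i j : ℕ} (hi : i < 512) (hj : j < 512) (h : xE s i = xE s j) : i = j :=
  (lstFacts s).xfacts.inj i (by rw [(lstFacts s).xsize]; exact hi) j
    (by rw [(lstFacts s).xsize]; exact hj) h

theorem inT_iff {i : ℕ} (hi : i < 512) : inT s i = true ↔ xE s i ∈ eL s := by
  rw [inT, Nat.beq_eq, ← xE_typ s hi, typE_eq_zero s (xE_mem s i)]

theorem card_cent : Nat.card (XX s) = 512 ∧ Nat.card (TT s) = 128 ∧
    ∀ x, x ∈ XX s ↔ ∃ i < 512, xE s i = x := by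
  classical
  have LF := lstFacts s
  have hle : ∀ i < 512, xE s i ∈ XX s := fun i hi =>
    ⟨xE_mem s i, Subgroup.mem_centralizer_singleton_iff.2 (LF.xu i hi)⟩
  have hT : Nat.card (TT s) ≤ 128 := by
    have h := ((Subgroup.centralizer {uE s}).subgroupOf (eL s)).card_mul_index
    rw [card_eL] at h
    have he : Nat.card ((Subgroup.centralizer {uE s}).subgroupOf (eL s)) = Nat.card (TT s) := by
      rw [← Subgroup.card_map_of_injective (eL s).subtype_injective, Subgroup.subgroupOf_map_subtype,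
        TT, inf_comm]
    rw [he] at h
    have := LF.orb
    nlinarith
  -- the outer part bounds the index
  have hXT : Nat.card (XX s) ≤ 4 * Nat.card (TT s) := by
    choose r hr hrt using LF.trep
    let f : Fin 4 × TT s → XX s := fun p => ⟨(p.2 : Equiv.Perm (Fin (eS s).N)) * xE s (r p.1 p.1.2),
      mul_mem ⟨eL_le s p.2.2.1, p.2.2.2⟩ (hle _ (hr _ _))⟩
    have hf : Function.Surjective f := fun x => by
      obtain ⟨ht, -⟩ := typE_spec s x.2.1
      refine ⟨(⟨_, ht⟩, ⟨(x : Equiv.Perm (Fin (eS s).N)) * (xE s (r _ ht))⁻¹, ?_, ?_⟩),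
        Subtype.ext (inv_mul_cancel_right _ _)⟩
      · have hm : (x : Equiv.Perm (Fin (eS s).N)) * (xE s (r _ ht))⁻¹ ∈ (eS s).G :=
          mul_mem x.2.1 (inv_mem (xE_mem s _))
        refine (typE_eq_zero s hm).1 ?_
        have h := typE_mul s hm (xE_mem s (r _ ht))
        rw [inv_mul_cancel_right, xE_typ s (hr _ ht), hrt _ ht] at h
        set a := typE s ((x : Equiv.Perm (Fin (eS s).N)) * (xE s (r _ ht))⁻¹)
        have h' := congrArg (fun n => Nat.xor n (typE s (x : Equiv.Perm (Fin (eS s).N)))) h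
        simp only [show ∀ n, Nat.xor (Nat.xor a n) n = a from fun n => by
          show (a ^^^ n) ^^^ n = a
          rw [Nat.xor_assoc, Nat.xor_self, Nat.xor_zero]] at h'
        exact h'.symm.trans (Nat.xor_self _)
      · exact (Subgroup.centralizer {uE s}).mul_mem x.2.2 ((Subgroup.centralizer {uE s}).inv_mem (hle _ (hr _ _)).2)
    have := Nat.card_le_card_of_surjective f hf
    rwa [Nat.card_prod, Nat.card_fin] at this
  let g : Fin 512 → XX s := fun i => ⟨xE s i, hle i i.2⟩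
  have hg : Function.Injective g := fun i j e => Fin.ext (xE_inj s i.2 j.2 (congrArg Subtype.val e))
  have h512 := Nat.card_le_card_of_injective g hg
  rw [Nat.card_fin] at h512
  have hb := (Nat.bijective_iff_injective_and_card g).2 ⟨hg, by rw [Nat.card_fin]; omega⟩
  refine ⟨by omega, by omega, fun x => ⟨fun hx => ?_, ?_⟩⟩
  · obtain ⟨i, e⟩ := hb.2 ⟨x, hx⟩
    exact ⟨i, i.2, congrArg Subtype.val e⟩
  · rintro ⟨i, hi, rfl⟩; exact hle i hi

theorem mem_XX {x : Equiv.Perm (Fin (eS s).N)} : x ∈ XX s ↔ ∃ i < 512, xE s i = x :=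
  (card_cent s).2.2 x

theorem TT_le : TT s ≤ XX s := fun _ h => ⟨eL_le s h.1, h.2⟩

theorem mem_TT {x : Equiv.Perm (Fin (eS s).N)} : x ∈ TT s ↔ ∃ i ∈ tList s, xE s i = x := by
  refine ⟨fun h => ?_, ?_⟩
  · obtain ⟨i, hi, rfl⟩ := (mem_XX s).1 (TT_le s h)
    exact ⟨i, (mem_tList s).2 ⟨hi, (inT_iff s hi).2 h.1⟩, rfl⟩
  · rintro ⟨i, hi, rfl⟩
    rw [mem_tList] at hi
    exact ⟨(inT_iff s hi.1).1 hi.2, Subgroup.mem_centralizer_singleton_iff.2 ((lstFacts s).xu i hi.1)⟩

theorem centre_check : ((List.range 512).all fun i =>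
    memB i (zcI s) || (List.range 18).any fun g =>
      !((eS s).baseEq (eB s) (g :: (eX s).el i) ((eX s).el i ++ [g]))) = true := by
  cases s
  · exact centre_false
  · exact centre_true

theorem zcI_length : (zcI s).length = 4 := by cases s <;> rfl

theorem zcI_mem {i : ℕ} (h : i ∈ zcI s) : ∃ l < 4, i = zc s l := by
  obtain ⟨l, hl, rfl⟩ := List.getElem_of_mem h
  refine ⟨l, by rw [zcI_length] at hl; exact hl, ?_⟩
  rw [zc, List.getD_eq_getElem _ _ hl]

/-- Only the powers of the central element centralise the cover. -/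
theorem isZ_of_central {x : Equiv.Perm (Fin (eS s).N)} (hx : x ∈ (eS s).G)
    (h : ∀ y ∈ eL s, x * y = y * x) : IsZ s x := by
  have LF := lstFacts s
  obtain ⟨i, hi, rfl⟩ := (mem_XX s).1 (⟨hx, Subgroup.mem_centralizer_singleton_iff.2 (h _ (uE_mem s))⟩ :
    x ∈ XX s)
  have hc := centre_check s
  simp only [List.all_eq_true, List.mem_range, Bool.or_eq_true, memB, List.any_eq_true, Nat.beq_eq,
    Bool.not_eq_true'] at hc
  rcases hc i hi with ⟨q, hq, rfl⟩ | ⟨g, hg, hne⟩
  · obtain ⟨l, hl, e⟩ := zcI_mem s hq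
    exact ⟨l, hl, e ▸ (LF.zc l hl).2⟩
  · exfalso
    have hlg : (eS s).letOK [g] = true := letOK18 s (by simpa using hg)
    refine base_ne s (v := [g] ++ (eX s).el i) (Sys.letOK_append.2 ⟨hlg, LF.xfacts.letEl i⟩)
      (Sys.letOK_append.2 ⟨LF.xfacts.letEl i, hlg⟩) hne ?_
    rw [Sys.ev_append, Sys.ev_append]
    exact (h _ ⟨⟨sysU.ev [g], ev_mem_U (by simpa using hg)⟩, rhoE_word s (w := [g]) (by simpa using hg)⟩).symm

end CfsgLib.ONStd
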