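import Cfsg.Agent.Lib.ONStd.Fin

/-!
The checks on the system of the good class.
-/

set_option autoImplicit false
set_option maxRecDepth 20000

namespace CfsgLib.ONStd

theorem sys_false : okSys false = true := by decide +kernel

theorem lst_false : okLst false = true := by decide +kernel

end CfsgLib.ONStd
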