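import Cfsg.Agent.Lib.ONStd.Fin

/-!
The checks of the good class.
-/

set_option autoImplicit false
set_option maxRecDepth 20000

namespace CfsgLib.ONStd

theorem one_false : okOne false = true := by decide +kernel

theorem two_false : okTwo false = true := by decide +kernel

theorem common_false : okCommon = true := by decide +kernel

end CfsgLib.ONStd
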