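import Cfsg.Agent.Lib.ONStd.Fin

/-!
The joint centralisers.
-/

set_option autoImplicit false
set_option maxRecDepth 20000

namespace CfsgLib.ONStd

theorem three_61 : okThree 61 = true := by decide +kernel

theorem three_82 : okThree 82 = true := by decide +kernel

theorem three_142 : okThree 142 = true := by decide +kernel

theorem three_210 : okThree 210 = true := by decide +kernel

theorem three_255 : okThree 255 = true := by decide +kernel

theorem three_341 : okThree 341 = true := by decide +kernel

theorem three_371 : okThree 371 = true := by decide +kernel

theorem three_447 : okThree 447 = true := by decide +kernel

theorem three_false : ∀ y ∈ candI false, okThree y = true := by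
  simp only [candI, List.mem_cons, List.not_mem_nil, or_false]
  rintro y (rfl | rfl | rfl | rfl | rfl | rfl | rfl | rfl)
  exacts [three_61, three_82, three_142, three_210, three_255, three_341, three_371, three_447]

end CfsgLib.ONStd
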