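import Cfsg.Agent.Lib.ONStd.Fin

/-!
The abelian centraliser of a root of the inner involution, and the elements of the first outer class there.
-/

set_option autoImplicit false
set_option maxRecDepth 20000

namespace CfsgLib.ONStd

/-- the inner centraliser of a root is abelian, and outer elements centralise little of it -/
noncomputable def okAb : Bool :=
  (y0I false).all fun y => withY ((tList false).filter fun a => comE false a y) fun Q =>
    (Q.all fun a => Q.all fun b => comE false a b) &&
      (List.range 512).all fun x => !(Nat.beq (tpI false x) 1) || !(comE false x y) ||
        Nat.ble (Q.filter fun a => comZ false a x).length 16
where
  /-- application to a list -/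
  withY (l : List ℕ) (f : List ℕ → Bool) : Bool := f l

theorem ab_false : okAb = true := by decide +kernel

end CfsgLib.ONStd
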