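import Cfsg.Agent.Lib.ONStd.Fin

/-!
Some involution of the inner centraliser moves a given root of the inner involution.
-/

set_option autoImplicit false
set_option maxRecDepth 20000

namespace CfsgLib.ONStd

/-- an involution moving the root -/
noncomputable def okMove : Bool :=
  (y0I false).all fun y => (tList false).any fun t =>
    !(comE false t y) && Nat.beq (mu false t t) (zc false 0)

theorem move_false : okMove = true := by decide +kernel

end CfsgLib.ONStd
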