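import Cfsg.Agent.Lib.ONStd.Fin

/-!
The inner involution is a square in its inner centraliser.
-/

set_option autoImplicit false
set_option maxRecDepth 20000

namespace CfsgLib.ONStd

/-- a root of the inner involution -/
noncomputable def okRoot (s : Bool) : Bool := (tList s).any fun t => Nat.beq (mu s t t) (kuI s)

theorem root_ok : okRoot false = true ∧ okRoot true = true := by decide +kernel

end CfsgLib.ONStd
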