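import Cfsg.Agent.Lib.ONUnique.Tab

/-!
Distinguished indices in the centraliser of the inner involution.
-/

set_option autoImplicit false

namespace CfsgLib.ONStd

/-- the indices of the powers of the central element -/
def zcI : Bool → List ℕ
  | false => [44, 149, 118, 65]
  | true => [0, 74, 104, 130]

/-- the index of the inner involution -/
def kuI : Bool → ℕ
  | false => 72
  | true => 16

/-- indices of representatives of the four cosets -/
def rpI : Bool → List ℕ
  | false => [44, 124, 476, 417]
  | true => [0, 48, 70, 402]

/-- the possible central elements of the other copy -/
def candI : Bool → List ℕ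
  | false => [61, 82, 142, 210, 255, 341, 371, 447]
  | true => []

/-- those with square the inner involution -/
def y0I : Bool → List ℕ
  | false => [61, 82, 142, 210]
  | true => []

/-- a first bound for the common part -/
def l1I : Bool → List ℕ
  | false => [1, 5, 9, 13, 16, 21, 26, 29, 32, 39, 42, 44, 51, 56, 61, 71, 72, 82, 91, 99, 132, 139, 142, 156, 206, 210, 245, 249, 258, 274, 299, 346, 348, 382, 399, 429, 432, 453]
  | true => [0, 16]

/-- the possible common part -/
def syI : Bool → List ℕ
  | false => [44, 61, 72, 82, 142, 210]
  | true => [0, 16]

/-- the commutators of the inner part -/
def drI : Bool → List ℕ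
  | false => [44, 72, 93, 118, 129, 146, 179, 201]
  | true => [0, 16, 32, 64, 72, 104, 129, 193]

/-- an outer involution inverting the central elements -/
def e0I : ℕ := 54

/-- commuting with it, their commutator is the inner involution -/
def x1W : List ℕ := [14, 5, 12]

/-- the second one -/
def x2W : List ℕ := [14, 5, 12, 0]

/-- moves the inner involution to its product with the central one -/
def xwW : List ℕ := [4]

/-- outer elements and their conjugates by the mover -/
def twI : List (ℕ × ℕ) := [(281, 304), (285, 166), (288, 76), (311, 337), (314, 174), (319, 263), (325, 474), (378, 225), (413, 265), (417, 112), (420, 235), (449, 361), (484, 52), (496, 196), (506, 482), (508, 403)]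

end CfsgLib.ONStd
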