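import Cfsg.Agent.Lib.ONStd.Cent
import Cfsg.Agent.Lib.ONStd.ChkB0
import Cfsg.Agent.Lib.ONStd.ChkB1
import Cfsg.Agent.Lib.ONStd.ChkC
import Cfsg.Agent.Lib.ONStd.ChkD
import Cfsg.Agent.Lib.ONStd.ChkG

/-!
The facts on the centraliser of the inner involution in the block.
-/

set_option autoImplicit false
set_option maxRecDepth 8000

namespace CfsgLib.ONStd

open CfsgLib.ONUnique
open CfsgLib.CosetEnum (strict strict_eq)

/-- permutations of the block -/
abbrev PE (s : Bool) : Type := Equiv.Perm (Fin (eS s).N)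

variable (s : Bool)

/-- commuting modulo the centre -/
def ComZ (a b : PE s) : Prop := ∃ z, IsZ s z ∧ a * b = b * a * z

/-- the possible central elements of the other copy -/
def Cand (y : PE s) : Prop := ∃ i ∈ candI s, xE s i = y

/-- those with square the inner involution -/
def Cand0 (y : PE s) : Prop := ∃ i ∈ y0I s, xE s i = y

/-- the four elements generated by a root of the inner involution -/
def Four (y t : PE s) : Prop := t = 1 ∨ t = uE s ∨ t = y ∨ t = y * uE s

variable {s}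

theorem xE_mu {i j : ℕ} (hi : i < 512) (hj : j < 512) :
    mu s i j < 512 ∧ xE s (mu s i j) = xE s i * xE s j := (lstFacts s).xmul i hi j hj

theorem xE_zc0 : xE s (zc s 0) = 1 := by
  rw [((lstFacts s).zc 0 (by norm_num)).2, pow_zero]

theorem eqZ_iff {i j : ℕ} (hi : i < 512) (hj : j < 512) :
    eqZ s i j = true ↔ ∃ z, IsZ s z ∧ xE s i * z = xE s j := by
  have LF := lstFacts s
  simp only [eqZ, List.any_eq_true, List.mem_range, Nat.beq_eq]
  constructor
  · rintro ⟨l, hl, rfl⟩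
    exact ⟨_, isZ_pow s l, by rw [(xE_mu hi (LF.zc l hl).1).2, (LF.zc l hl).2]⟩
  · rintro ⟨_, ⟨l, hl, rfl⟩, e⟩
    obtain ⟨h1, h2⟩ := xE_mu (s := s) hi (LF.zc l hl).1
    exact ⟨l, hl, xE_inj s h1 hj (by rw [h2, (LF.zc l hl).2, e])⟩

theorem comZ_iff {a b : ℕ} (ha : a < 512) (hb : b < 512) :
    comZ s a b = true ↔ ComZ s (xE s a) (xE s b) := by
  obtain ⟨h1, e1⟩ := xE_mu (s := s) ha hb
  obtain ⟨h2, e2⟩ := xE_mu (s := s) hb ha
  simp only [comZ, strict_eq]
  rw [eqZ_iff h2 h1, e1, e2]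
  exact ⟨fun ⟨z, hz, e⟩ => ⟨z, hz, e.symm⟩, fun ⟨z, hz, e⟩ => ⟨z, hz, e.symm⟩⟩

theorem comE_iff {a b : ℕ} (ha : a < 512) (hb : b < 512) :
    comE s a b = true ↔ xE s a * xE s b = xE s b * xE s a := by
  obtain ⟨h1, e1⟩ := xE_mu (s := s) ha hb
  obtain ⟨h2, e2⟩ := xE_mu (s := s) hb ha
  rw [comE, Nat.beq_eq, ← e1, ← e2]
  exact ⟨fun e => by rw [e], fun e => xE_inj s h1 h2 e⟩

theorem comIn_iff {a b : ℕ} (ha : a < 512) (hb : b < 512) {Q : List ℕ} (hQ : ∀ q ∈ Q, q < 512) :
    comIn s a b Q = true ↔ ∃ q ∈ Q, xE s a * xE s b = xE s q * (xE s b * xE s a) := by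
  obtain ⟨h1, e1⟩ := xE_mu (s := s) ha hb
  obtain ⟨h2, e2⟩ := xE_mu (s := s) hb ha
  simp only [comIn, strict_eq, List.any_eq_true, Nat.beq_eq]
  refine exists_congr fun q => and_congr_right fun hq => ?_
  obtain ⟨h3, e3⟩ := xE_mu (s := s) (hQ q hq) h2
  rw [← e1, ← e2, ← e3]
  exact ⟨fun e => by rw [e], fun e => xE_inj s h1 h3 e⟩

theorem memB_iff {i : ℕ} (hi : i < 512) {Q : List ℕ} (hQ : ∀ q ∈ Q, q < 512) :
    memB i Q = true ↔ ∃ q ∈ Q, xE s i = xE s q := by
  simp only [memB, List.any_eq_true, Nat.beq_eq]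
  exact exists_congr fun q => and_congr_right fun hq =>
    ⟨fun e => by rw [e], fun e => xE_inj s hi (hQ q hq) e⟩

theorem tList_lt {i : ℕ} (h : i ∈ tList s) : i < 512 :=
  ((mem_tList s).1 h).1

/-- A root of the inner involution is not central modulo the centre. -/
theorem one_fact {e : PE s} (he : e ∈ XX s) {z : PE s} (hz : IsZ s z) (h : e * e * z = uE s) :
    ∃ x ∈ XX s, ¬ ComZ s e x := by
  have hc : okOne s = true := by cases s; exacts [one_false, one_true]
  simp only [okOne, List.all_eq_true, List.mem_range, Bool.or_eq_true, Bool.not_eq_true',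
    List.any_eq_true] at hc
  obtain ⟨i, hi, rfl⟩ := (mem_XX s).1 he
  obtain ⟨h2, e2⟩ := xE_mu (s := s) hi hi
  rcases hc i hi with h1 | ⟨x, hx, h1⟩
  · exfalso
    rw [(eqZ_iff h2 (lstFacts s).ku.1).2 ⟨z, hz, by rw [e2, (lstFacts s).ku.2, h]⟩] at h1
    exact absurd h1 (by simp)
  · refine ⟨xE s x, (mem_XX s).2 ⟨x, hx, rfl⟩, fun hn => ?_⟩
    rw [(comZ_iff hi hx).2 hn] at h1
    exact absurd h1 (by simp)

theorem okTwo_all : ∀ s, okTwo s = true
  | false => two_false
  | true => two_true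

theorem cand_lt {i : ℕ} (h : i ∈ candI s) : i < 512 ∧ inT s i = true := by
  have hc := okTwo_all s
  simp only [okTwo, Bool.and_eq_true, List.all_eq_true, Nat.blt_eq] at hc
  exact hc.1.1 i h

theorem cand_mem {y : PE s} (h : Cand s y) : y ∈ TT s := by
  obtain ⟨i, hi, rfl⟩ := h
  exact (mem_TT s).2 ⟨i, (mem_tList s).2 ⟨(cand_lt hi).1, (cand_lt hi).2⟩, rfl⟩

theorem cand0_facts {y : PE s} (h : Cand0 s y) : Cand s y ∧ y * y = uE s := by
  have hc := okTwo_all s
  simp only [okTwo, Bool.and_eq_true, List.all_eq_true, Nat.blt_eq, Nat.beq_eq, memB, List.any_eq_true] at hc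
  obtain ⟨i, hi, rfl⟩ := h
  obtain ⟨⟨h1, h2⟩, ⟨q, hq, rfl⟩⟩ := hc.1.2 i hi
  exact ⟨⟨i, hq, rfl⟩, by rw [← (xE_mu h1 h1).2, h2, (lstFacts s).ku.2]⟩

/-- The possible central elements of the other copy. -/
theorem two_fact {e : PE s} (he : e ∈ XX s) {z : PE s} (hz : IsZ s z) (h : e * e * z = uE s)
    (hc : e * cE s = cE s * e) (ht : ∀ t ∈ TT s, e * t = t * e ∨ e * t = uE s * (t * e)) :
    Cand s e := by
  have LF := lstFacts s
  have hk := okTwo_all s
  simp only [okTwo, Bool.and_eq_true, List.all_eq_true, List.mem_range, Bool.or_eq_true] at hk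
  obtain ⟨i, hi, rfl⟩ := (mem_XX s).1 he
  obtain ⟨h2, e2⟩ := xE_mu (s := s) hi hi
  obtain ⟨hz1, ez1⟩ := LF.zc 1 (by norm_num)
  rw [pow_one] at ez1
  have hQ : ∀ q ∈ [zc s 0, kuI s], q < 512 := by
    simp only [List.mem_cons, List.not_mem_nil, or_false]
    rintro q (rfl | rfl)
    exacts [(LF.zc 0 (by norm_num)).1, LF.ku.1]
  rcases hk.2 i hi with ((h1 | h1) | h1) | h1
  · rw [(eqZ_iff h2 LF.ku.1).2 ⟨z, hz, by rw [e2, LF.ku.2, h]⟩] at h1
    exact absurd h1 (by simp)
  · rw [(comE_iff hi hz1).2 (by rw [ez1, hc])] at h1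
    exact absurd h1 (by simp)
  · exfalso
    simp only [Bool.not_eq_true', List.all_eq_false] at h1
    obtain ⟨t, ht', h3⟩ := h1
    refine h3 ((comIn_iff hi (tList_lt ht') hQ).2 ?_)
    rcases ht _ ((mem_TT s).2 ⟨t, ht', rfl⟩) with h4 | h4
    · exact ⟨zc s 0, by simp, by rw [xE_zc0, one_mul, h4]⟩
    · exact ⟨kuI s, by simp, by rw [LF.ku.2, h4]⟩
  · obtain ⟨q, hq, e⟩ := (memB_iff hi fun q hq => (cand_lt hq).1).1 h1
    exact ⟨q, hq, e.symm⟩

theorem cand_true (y : PE true) : ¬ Cand true y := by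
  rintro ⟨i, hi, -⟩
  simp [candI] at hi

theorem cand0_of {y : PE s} (h : Cand s y) (h2 : y * y = uE s) : Cand0 s y := by
  cases s
  · obtain ⟨i, hi, rfl⟩ := h
    have hl := (cand_lt hi).1
    obtain ⟨h1, e⟩ := xE_mu (s := false) hl hl
    refine ⟨i, ?_, rfl⟩
    have hm : mu false i i = kuI false := xE_inj false h1 (lstFacts false).ku.1
      (by rw [e, h2, (lstFacts false).ku.2])
    have key : ∀ j ∈ candI false, mu false j j = kuI false → j ∈ y0I false := by decide +kernel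
    exact key i hi hm
  · exact absurd h (cand_true y)

/-- The bound on the common part. -/
theorem common_bound {Y : Set (PE false)} (hYT : ∀ t ∈ Y, t ∈ TT false)
    (hmul : ∀ a ∈ Y, ∀ b ∈ Y, a * b ∈ Y) (hinv : ∀ a ∈ Y, a⁻¹ ∈ Y)
    (hz : cE false ^ 2 ∉ Y) (huz : uE false * cE false ^ 2 ∉ Y)
    (hn : ∀ t ∈ Y, ∀ r ∈ TT false, ∃ q ∈ Y, t * r = q * (r * t)) :
    ∀ y ∈ Y, y ≠ 1 → y ≠ uE false → Cand0 false y ∧ ∀ t ∈ Y, Four false y t := by
  have LF := lstFacts false
  have hc := common_false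
  simp only [okCommon, strict_eq, Bool.and_eq_true, List.all_eq_true, Bool.or_eq_true,
    Bool.not_eq_true', Nat.beq_eq] at hc
  obtain ⟨⟨⟨hA, hB⟩, hC⟩, -⟩ := hc
  have hz2 := LF.zc 2 (by norm_num)
  obtain ⟨huzl, euz⟩ := xE_mu (s := false) LF.ku.1 hz2.1
  rw [LF.ku.2, hz2.2] at euz
  have hl1 : ∀ q ∈ l1I false, q < 512 := by decide +kernel
  have hsy : ∀ q ∈ syI false, q < 512 := by decide +kernel
  have idx : ∀ t ∈ Y, ∃ i ∈ tList false, xE false i = t := fun t ht => (mem_TT false).1 (hYT t ht)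
  have s1 : ∀ t ∈ Y, ∃ i ∈ l1I false, xE false i = t := by
    intro t ht
    obtain ⟨i, hi, rfl⟩ := idx t ht
    have hil := tList_lt hi
    obtain ⟨hii, eii⟩ := xE_mu (s := false) hil hil
    rcases hA i hi with (((h | h) | h) | h) | h
    · exact absurd ht (by rw [h, hz2.2]; exact hz)
    · exact absurd ht (by rw [h, euz]; exact huz)
    · obtain ⟨q, hq, e⟩ := (memB_iff hii (by
        simp only [List.mem_cons, List.not_mem_nil, or_false]
        rintro q (rfl | rfl) <;> [exact hz2.1; exact huzl])).1 h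
      rw [eii] at e
      have := hmul _ ht _ ht
      rw [e] at this
      simp only [List.mem_cons, List.not_mem_nil, or_false] at hq
      rcases hq with rfl | rfl
      · exact absurd this (by rw [hz2.2]; exact hz)
      · exact absurd this (by rw [euz]; exact huz)
    · exfalso
      rw [List.all_eq_false] at h
      obtain ⟨r, hr, h⟩ := h
      simp only [Bool.not_eq_true', Bool.not_eq_false] at h
      obtain ⟨q, hq, e⟩ := (comIn_iff hil (tList_lt hr) (by
        simp only [List.mem_cons, List.not_mem_nil, or_false]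
        rintro q (rfl | rfl) <;> [exact hz2.1; exact huzl])).1 h
      obtain ⟨q', hq', e'⟩ := hn _ ht _ ((mem_TT false).2 ⟨r, hr, rfl⟩)
      rw [mul_right_cancel (e'.symm.trans e)] at hq'
      simp only [List.mem_cons, List.not_mem_nil, or_false] at hq
      rcases hq with rfl | rfl
      · rw [hz2.2] at hq'; exact hz hq'
      · rw [euz] at hq'; exact huz hq'
    · obtain ⟨q, hq, e⟩ := (memB_iff hil hl1).1 h
      exact ⟨q, hq, e.symm⟩
  have s2 : ∀ t ∈ Y, ∃ i ∈ syI false, xE false i = t := by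
    intro t ht
    obtain ⟨i, hi, rfl⟩ := s1 t ht
    have hil := hl1 i hi
    obtain ⟨hii, eii⟩ := xE_mu (s := false) hil hil
    rcases hB i hi with (h | h) | h
    · exfalso
      obtain ⟨j, hj, e⟩ := s1 _ (hmul _ ht _ ht)
      rw [(memB_iff hii hl1).2 ⟨j, hj, eii.trans e.symm⟩] at h
      exact absurd h (by simp)
    · exfalso
      rw [List.all_eq_false] at h
      obtain ⟨r, hr, h⟩ := h
      refine h ((comIn_iff hil (tList_lt hr) hl1).2 ?_)
      obtain ⟨q, hq, e⟩ := hn _ ht _ ((mem_TT false).2 ⟨r, hr, rfl⟩)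
      obtain ⟨j, hj, rfl⟩ := s1 q hq
      exact ⟨j, hj, e⟩
    · obtain ⟨q, hq, e⟩ := (memB_iff hil hsy).1 h
      exact ⟨q, hq, e.symm⟩
  intro y hy hy1 hyu
  obtain ⟨i, hi, rfl⟩ := s2 y hy
  have key : ∀ j ∈ syI false, j = zc false 0 ∨ j = kuI false ∨ j ∈ y0I false := by decide +kernel
  have hi0 : i ∈ y0I false := ((key i hi).resolve_left fun e => hy1 (e ▸ xE_zc0)).resolve_left
    fun e => hyu (e ▸ LF.ku.2)
  refine ⟨⟨i, hi0, rfl⟩, fun t ht => ?_⟩
  obtain ⟨j, hj, rfl⟩ := s2 t ht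
  have hil := hsy i hi
  have hjl := hsy j hj
  rcases hC i hi j hj with ((h | h) | h) | h
  · obtain ⟨q, hq, e⟩ := (memB_iff hil (by
      simp only [List.mem_cons, List.not_mem_nil, or_false]
      rintro q (rfl | rfl) <;> [exact (LF.zc 0 (by norm_num)).1; exact LF.ku.1])).1 h
    simp only [List.mem_cons, List.not_mem_nil, or_false] at hq
    rcases hq with rfl | rfl
    · exact absurd (e.trans xE_zc0) hy1
    · exact absurd (e.trans LF.ku.2) hyu
  · obtain ⟨q, hq, e⟩ := (memB_iff hjl (by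
      simp only [List.mem_cons, List.not_mem_nil, or_false]
      rintro q (rfl | rfl) <;> [exact (LF.zc 0 (by norm_num)).1; exact LF.ku.1])).1 h
    simp only [List.mem_cons, List.not_mem_nil, or_false] at hq
    rcases hq with rfl | rfl
    · exact Or.inl (e.trans xE_zc0)
    · exact Or.inr (Or.inl (e.trans LF.ku.2))
  · exfalso
    obtain ⟨q, hq, e⟩ := s2 _ (hmul _ (hinv _ hy) _ ht)
    rw [List.any_eq_false] at h
    refine h q hq ?_
    obtain ⟨h1, e1⟩ := xE_mu (s := false) hil (hsy q hq)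
    rw [Nat.beq_eq]
    exact xE_inj false h1 hjl (by rw [e1, e, mul_inv_cancel_left])
  · obtain ⟨hyl, eyu⟩ := xE_mu (s := false) hil LF.ku.1
    obtain ⟨q, hq, e⟩ := (memB_iff hjl (by
      simp only [List.mem_cons, List.not_mem_nil, or_false]
      rintro q (rfl | rfl) <;> [exact hil; exact hyl])).1 h
    simp only [List.mem_cons, List.not_mem_nil, or_false] at hq
    rcases hq with rfl | rfl
    · exact Or.inr (Or.inr (Or.inl e))
    · exact Or.inr (Or.inr (Or.inr (e.trans (by rw [eyu, LF.ku.2]))))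

/-- The centre modulo the common part. -/
theorem common_centre {y t : PE false} (hy : Cand0 false y) (ht : t ∈ TT false)
    (h : ∀ r ∈ TT false, ∃ q, Four false y q ∧ t * r = q * (r * t)) :
    ∃ z, IsZ false z ∧ ∃ q, Four false y q ∧ t = q * z := by
  have LF := lstFacts false
  have hc := common_false
  simp only [okCommon, strict_eq, Bool.and_eq_true, List.all_eq_true, Bool.or_eq_true,
    Bool.not_eq_true'] at hc
  obtain ⟨-, hD⟩ := hc
  obtain ⟨i, hi, rfl⟩ := hy
  obtain ⟨j, hj, rfl⟩ := (mem_TT false).1 ht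
  have key : ∀ k ∈ y0I false, k ∈ syI false ∧ k < 512 ∧ memB k [zc false 0, kuI false] = false := by
    decide +kernel
  obtain ⟨hisy, hil, hne⟩ := key i hi
  obtain ⟨hyl, eyu⟩ := xE_mu (s := false) hil LF.ku.1
  have hQ : ∀ q ∈ [zc false 0, kuI false, i, mu false i (kuI false)], q < 512 := by
    simp only [List.mem_cons, List.not_mem_nil, or_false]
    rintro q (rfl | rfl | rfl | rfl)
    exacts [(LF.zc 0 (by norm_num)).1, LF.ku.1, hil, hyl]
  have hF : ∀ q ∈ [zc false 0, kuI false, i, mu false i (kuI false)], Four false (xE false i) (xE false q) := by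
    simp only [List.mem_cons, List.not_mem_nil, or_false]
    rintro q (rfl | rfl | rfl | rfl)
    · exact Or.inl xE_zc0
    · exact Or.inr (Or.inl LF.ku.2)
    · exact Or.inr (Or.inr (Or.inl rfl))
    · exact Or.inr (Or.inr (Or.inr (by rw [eyu, LF.ku.2])))
  rcases hD i hisy with h' | h'
  · rw [hne] at h'; exact absurd h' (by simp)
  rcases h' j hj with h' | h'
  · exfalso
    rw [List.all_eq_false] at h'
    obtain ⟨r, hr, h'⟩ := h'
    refine h' ((comIn_iff (tList_lt hj) (tList_lt hr) hQ).2 ?_)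
    obtain ⟨q, hq, e⟩ := h _ ((mem_TT false).2 ⟨r, hr, rfl⟩)
    rcases hq with rfl | rfl | rfl | rfl
    · exact ⟨zc false 0, by simp, by rw [xE_zc0]; exact e⟩
    · exact ⟨kuI false, by simp, by rw [LF.ku.2]; exact e⟩
    · exact ⟨i, by simp, e⟩
    · exact ⟨mu false i (kuI false), by simp, by rw [eyu, LF.ku.2]; exact e⟩
  · rw [List.any_eq_true] at h'
    obtain ⟨q, hq, e⟩ := h'
    obtain ⟨z, hz, e'⟩ := (eqZ_iff (hQ q hq) (tList_lt hj)).1 e
    exact ⟨z, hz, _, hF q hq, e'.symm⟩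

/-- Small joint centralisers. -/
theorem three_fact {y v : PE false} (hy : Cand false y) (hv : v ∈ XX false) (hvy : ComZ false v y)
    (hsq : ∃ z, IsZ false z ∧ (v * v * z = 1 ∨ v * v * z = y ∨ v * v * z = y * (y * y)))
    (hne : ∀ z, IsZ false z → v * z ≠ 1 ∧ v * z ≠ uE false ∧ v * z ≠ y ∧ v * z ≠ y * uE false) :
    Nat.card {x : PE false // x ∈ XX false ∧ ComZ false x y ∧ ComZ false x v} ≤ 128 := by
  classical
  have LF := lstFacts false
  obtain ⟨i, hi, rfl⟩ := hy
  have hc := three_false i hi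
  simp only [okThree, List.all_eq_true, List.mem_range, Bool.or_eq_true, Bool.not_eq_true',
    Nat.ble_eq] at hc
  obtain ⟨j, hj, rfl⟩ := (mem_XX false).1 hv
  have hil := (cand_lt hi).1
  obtain ⟨hjj, ejj⟩ := xE_mu (s := false) hj hj
  obtain ⟨hii, eii⟩ := xE_mu (s := false) hil hil
  obtain ⟨hiii, eiii⟩ := xE_mu (s := false) hil hii
  obtain ⟨hiu, eiu⟩ := xE_mu (s := false) hil LF.ku.1
  obtain ⟨h01, e0⟩ := LF.zc 0 (by norm_num)
  rw [pow_zero] at e0
  have hno : ∀ {k : ℕ}, k < 512 → (∀ z, IsZ false z → xE false j * z ≠ xE false k) →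
      eqZ false j k = true → False := fun hk h he => by
    obtain ⟨z, hz, e⟩ := (eqZ_iff hj hk).1 he
    exact h z hz e
  rcases hc j hj with (((((h | h) | h) | h) | h) | h) | h
  · rw [(comZ_iff hj hil).2 hvy] at h; exact absurd h (by simp)
  · exfalso
    simp only [Bool.or_eq_false_iff] at h
    obtain ⟨z, hz, e⟩ := hsq
    rcases e with e | e | e
    · rw [(eqZ_iff hjj h01).2 ⟨z, hz, by rw [ejj, e0, e]⟩] at h; exact absurd h.1.1 (by simp)
    · rw [(eqZ_iff hjj hil).2 ⟨z, hz, by rw [ejj, e]⟩] at h; exact absurd h.1.2 (by simp)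
    · rw [(eqZ_iff hjj hiii).2 ⟨z, hz, by rw [ejj, eiii, eii, e]⟩] at h; exact absurd h.2 (by simp)
  · exact (hno h01 (fun z hz => e0 ▸ (hne z hz).1) h).elim
  · exact (hno LF.ku.1 (fun z hz => by rw [LF.ku.2]; exact (hne z hz).2.1) h).elim
  · exact (hno hil (fun z hz => (hne z hz).2.2.1) h).elim
  · exact (hno hiu (fun z hz => by rw [eiu, LF.ku.2]; exact (hne z hz).2.2.2) h).elim
  · set Q := (List.range 512).filter fun x => comZ false x i && comZ false x j with hQ
    let f : {x : PE false // x ∈ XX false ∧ ComZ false x (xE false i) ∧ ComZ false x (xE false j)} →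
        {k // k ∈ Q} := fun x => ⟨((mem_XX false).1 x.2.1).choose, by
      obtain ⟨hk, ek⟩ := ((mem_XX false).1 x.2.1).choose_spec
      rw [hQ, List.mem_filter, List.mem_range, Bool.and_eq_true]
      exact ⟨hk, (comZ_iff hk hil).2 (by rw [ek]; exact x.2.2.1), (comZ_iff hk hj).2 (by rw [ek]; exact x.2.2.2)⟩⟩
    have hf : Function.Injective f := fun a b e => by
      have e' := congrArg (fun k : {k // k ∈ Q} => xE false k.1) e
      simp only [f] at e'
      rw [((mem_XX false).1 a.2.1).choose_spec.2, ((mem_XX false).1 b.2.1).choose_spec.2] at e'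
      exact Subtype.ext e'
    haveI : Finite {k // k ∈ Q} := List.finite_toSet Q |>.to_subtype
    refine (Nat.card_le_card_of_injective f hf).trans (le_trans (le_of_eq ?_) h)
    rw [← List.toFinset_card_of_nodup (List.nodup_range.filter _),
      Nat.subtype_card Q.toFinset (fun x => List.mem_toFinset)]

/-- what the checks on the types give -/
structure TypeFacts : Prop where
  nc : ∀ y, Cand false y → ∃ t ∈ TT false, y * t ≠ t * y
  cact : ∀ x ∈ XX false, if Nat.testBit (typE false x) 1 then x * cE false = cE false ^ 2 * (cE false * x)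
    else x * cE false = cE false * x
  cnt : ∀ y, Cand0 false y → ∀ t < 4,
    Nat.card {x : PE false // x ∈ XX false ∧ typE false x = t ∧ x * y = y * x} = 64
  gcomm : ∀ y, Cand0 false y → ∃ a ∈ TT false, ∃ b ∈ XX false, ∃ q ∈ TT false,
    typE false b = 2 ∧ a * y = y * a ∧ b * y = y * b ∧ a * b = q * (b * a) ∧ q * q = cE false ^ 2
  gsq : ∀ y, Cand0 false y → ∀ x ∈ XX false, typE false x = 2 → x * y ≠ y * x → IsZ false (x * x)
  e0 : ∀ y, Cand0 false y → xE false e0I ∈ XX false ∧ typE false (xE false e0I) = 2 ∧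
    xE false e0I * y ≠ y * xE false e0I ∧ xE false e0I * xE false e0I = 1
  fg : ∀ y, Cand0 false y → ∀ x ∈ XX false, typE false x = 3 → IsZ false (x * x) → x * y = y * x ∨
    ∃ w ∈ eL false, w * uE false = uE false * cE false ^ 2 * w ∧
      ∃ x' ∈ XX false, w * x' = x * w ∧ x' * y = y * x'
  tcomm : ∀ a ∈ TT false, ∀ b ∈ TT false, ∃ q ∈ TT false, a * b = q * (b * a) ∧ (q * q = 1 ∨ q * q = cE false ^ 2)
  wit : ∃ x1 ∈ eL false, ∃ x2 ∈ eL false, x1 * xE false e0I = xE false e0I * x1 ∧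
    x2 * xE false e0I = xE false e0I * x2 ∧ x1 * x2 = uE false * (x2 * x1)

theorem typeFacts : TypeFacts := by
  classical
  have LF := lstFacts false
  have hc := types_false
  simp only [okTypes, strict_eq, Bool.and_eq_true, List.all_eq_true, List.mem_range, List.any_eq_true,
    Nat.beq_eq, Nat.blt_eq, Bool.or_eq_true, Bool.not_eq_true'] at hc
  obtain ⟨⟨⟨⟨⟨⟨⟨⟨⟨⟨⟨⟨hnc, hact⟩, hY⟩, hD⟩, hDr⟩, hx1⟩, hx2⟩, he1⟩, he2⟩, he12⟩, hxw⟩, hxwu⟩, htw⟩ := hc
  obtain ⟨h00, e00⟩ := LF.zc 0 (by norm_num)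
  rw [pow_zero] at e00
  obtain ⟨hz1, ez1⟩ := LF.zc 1 (by norm_num)
  rw [pow_one] at ez1
  obtain ⟨hz2, ez2⟩ := LF.zc 2 (by norm_num)
  have happ : ∀ {v w}, eS0.letOK v = true → eS0.letOK w = true → eS0.letOK (v ++ w) = true :=
    fun hv hw => Sys.letOK_append.2 ⟨hv, hw⟩
  have hlx : ∀ {v : List ℕ}, (∀ g ∈ v, g < 18) → eS0.letOK v = true := fun h => letOK18 false h
  have hu18 : ∀ g ∈ uWd, g < 18 := by simp [uWd]
  have hmemL : ∀ {v : List ℕ}, (∀ g ∈ v, g < 18) → eS0.ev v ∈ eL false := fun {v} h =>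
    ⟨⟨sysU.ev v, ev_mem_U h⟩, rhoE_word false h⟩
  refine ⟨?_, ?_, ?_, ?_, ?_, ?_, ?_, ?_, ?_⟩
  · rintro _ ⟨i, hi, rfl⟩
    obtain ⟨t, ht, h⟩ := hnc i hi
    refine ⟨xE false t, (mem_TT false).2 ⟨t, ht, rfl⟩, fun e => ?_⟩
    rw [(comE_iff (cand_lt hi).1 (tList_lt ht)).2 e] at h
    exact absurd h (by simp)
  · intro x hx
    obtain ⟨i, hi, rfl⟩ := (mem_XX false).1 hx
    have h := hact i hi
    rw [xE_typ false hi]
    cases hb : Nat.testBit (tpI false i) 1
    · rw [hb, cond_false, comE_iff hi hz1, ez1] at h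
      simpa using h
    · rw [hb, cond_true] at h
      simp only [comIs, strict_eq, Nat.beq_eq] at h
      obtain ⟨h1, e1⟩ := xE_mu (s := false) hi hz1
      obtain ⟨h2, e2⟩ := xE_mu (s := false) hz1 hi
      obtain ⟨h3, e3⟩ := xE_mu (s := false) hz2 h2
      have e := congrArg (xE false) h
      rw [e1, e3, e2, ez1, ez2] at e
      simpa using e
  · rintro _ ⟨y, hy, rfl⟩ t ht
    obtain ⟨⟨⟨⟨⟨⟨⟨⟨-, hcnt⟩, -⟩, -⟩, -⟩, -⟩, -⟩, -⟩, -⟩ := hY y hy
    have hyl' : y < 512 := (show ∀ k ∈ y0I false, k < 512 by decide +kernel) y hy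
    let Q := (List.range 512).filter fun i => Nat.beq (tpI false i) t && comE false i y
    let f : {k // k ∈ Q} → {x : PE false // x ∈ XX false ∧ typE false x = t ∧ x * xE false y = xE false y * x} :=
      fun k => ⟨xE false k.1, by
        obtain ⟨h1, h2⟩ := List.mem_filter.1 k.2
        rw [Bool.and_eq_true, Nat.beq_eq] at h2
        rw [List.mem_range] at h1
        exact ⟨(mem_XX false).2 ⟨_, h1, rfl⟩, by rw [xE_typ false h1]; exact h2.1, (comE_iff h1 hyl').1 h2.2⟩⟩
    have hf : Function.Bijective f := by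
      refine ⟨fun a b e => Subtype.ext (xE_inj false (List.mem_range.1 (List.mem_filter.1 a.2).1)
        (List.mem_range.1 (List.mem_filter.1 b.2).1) (congrArg Subtype.val e)), fun x => ?_⟩
      obtain ⟨k, hk, e⟩ := (mem_XX false).1 x.2.1
      refine ⟨⟨k, List.mem_filter.2 ⟨List.mem_range.2 hk, ?_⟩⟩, Subtype.ext e⟩
      rw [Bool.and_eq_true, Nat.beq_eq, ← xE_typ false hk, e]
      exact ⟨x.2.2.1, (comE_iff hk hyl').2 (by rw [e]; exact x.2.2.2)⟩
    haveI : Finite {k // k ∈ Q} := List.finite_toSet Q |>.to_subtype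
    rw [← Nat.card_eq_of_bijective f hf, ← hcnt t ht,
      ← List.toFinset_card_of_nodup (List.nodup_range.filter _),
      Nat.subtype_card Q.toFinset (fun x => List.mem_toFinset)]
  · rintro _ ⟨y, hy, rfl⟩
    obtain ⟨⟨⟨⟨⟨⟨⟨-, hg⟩, -⟩, -⟩, -⟩, -⟩, -⟩, -⟩ := hY y hy
    have hyl : y < 512 := (show ∀ k ∈ y0I false, k < 512 by decide +kernel) y hy
    obtain ⟨b, hb, ⟨htb, hby⟩, a, ha, hay, q, hq, he, hqq⟩ := hg
    have hal := tList_lt ha
    have hql := tList_lt hq
    obtain ⟨h1, e1⟩ := xE_mu (s := false) hal hb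
    obtain ⟨h2, e2⟩ := xE_mu (s := false) hb hal
    obtain ⟨h3, e3⟩ := xE_mu (s := false) hql h2
    refine ⟨xE false a, (mem_TT false).2 ⟨a, ha, rfl⟩, xE false b, (mem_XX false).2 ⟨b, hb, rfl⟩, xE false q,
      (mem_TT false).2 ⟨q, hq, rfl⟩, by rw [xE_typ false hb]; exact htb, (comE_iff hal hyl).1 hay,
      (comE_iff hb hyl).1 hby, ?_, ?_⟩
    · rw [← e1, he, e3, e2]
    · rw [← (xE_mu hql hql).2, hqq, ez2]
  · rintro _ ⟨y, hy, rfl⟩ x hx ht hne
    obtain ⟨⟨⟨⟨⟨⟨-, hgs⟩, -⟩, -⟩, -⟩, -⟩, -⟩ := hY y hy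
    have hyl : y < 512 := (show ∀ k ∈ y0I false, k < 512 by decide +kernel) y hy
    obtain ⟨i, hi, rfl⟩ := (mem_XX false).1 hx
    rcases hgs i hi with (h | h) | h
    · rw [xE_typ false hi] at ht
      have h' : Nat.beq (tpI false i) 2 = true := by rw [Nat.beq_eq]; exact ht
      rw [h'] at h; exact absurd h (by simp)
    · exact absurd ((comE_iff hi hyl).1 h) hne
    · obtain ⟨hii, eii⟩ := xE_mu (s := false) hi hi
      obtain ⟨z, hz, e⟩ := (eqZ_iff hii h00).1 h
      rw [eii, e00] at e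
      rw [eq_inv_of_mul_eq_one_left e]
      exact isZ_inv false hz
  · rintro _ ⟨y, hy, rfl⟩
    obtain ⟨⟨⟨⟨⟨-, he0⟩, ht⟩, hne⟩, hsq⟩, -⟩ := hY y hy
    have hyl : y < 512 := (show ∀ k ∈ y0I false, k < 512 by decide +kernel) y hy
    refine ⟨(mem_XX false).2 ⟨_, he0, rfl⟩, by rw [xE_typ false he0]; exact ht, fun e => ?_, ?_⟩
    · rw [(comE_iff he0 hyl).2 e] at hne; exact absurd hne (by simp)
    · rw [← (xE_mu he0 he0).2, hsq, e00]
  · rintro _ ⟨y, hy, rfl⟩ x hx ht hz
    obtain ⟨-, hfg⟩ := hY y hy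
    have hyl : y < 512 := (show ∀ k ∈ y0I false, k < 512 by decide +kernel) y hy
    obtain ⟨i, hi, rfl⟩ := (mem_XX false).1 hx
    rcases hfg i hi with ((h | h) | h) | ⟨p, hp, hpi, hpy⟩
    · rw [xE_typ false hi] at ht
      have h' : Nat.beq (tpI false i) 3 = true := by rw [Nat.beq_eq]; exact ht
      rw [h'] at h; exact absurd h (by simp)
    · obtain ⟨hii, eii⟩ := xE_mu (s := false) hi hi
      rw [(eqZ_iff hii h00).2 ⟨(xE false i * xE false i)⁻¹, isZ_inv false hz, by
        rw [eii, e00, mul_inv_cancel]⟩] at h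
      exact absurd h (by simp)
    · exact Or.inl ((comE_iff hi hyl).1 h)
    · subst hpi
      obtain ⟨⟨hp1, hp2⟩, hpe⟩ := htw p hp
      refine Or.inr ⟨eS0.ev xwW, hmemL hxw, ?_, xE false p.2, (mem_XX false).2 ⟨_, hp2, rfl⟩, ?_,
        (comE_iff hp2 hyl).1 hpy⟩
      · have e := base_eq false (happ (hlx hxw) (hlx hu18))
          (happ (happ (hlx hu18) (hlx (zX_small 0 2))) (hlx hxw)) hxwu
        rw [Sys.ev_append, Sys.ev_append, Sys.ev_append] at e
        rw [cE_pow]
        exact e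
      · have e := base_eq false (happ (hlx hxw) ((lstFacts false).xfacts.letEl _))
          (happ ((lstFacts false).xfacts.letEl _) (hlx hxw)) hpe
        rw [Sys.ev_append, Sys.ev_append] at e
        exact e
  · intro a ha b hb
    obtain ⟨i, hi, rfl⟩ := (mem_TT false).1 ha
    obtain ⟨j, hj, rfl⟩ := (mem_TT false).1 hb
    have hQ : ∀ q ∈ drI false, q < 512 := fun q hq => (hDr q hq).1.1
    obtain ⟨q, hq, e⟩ := (comIn_iff (tList_lt hi) (tList_lt hj) hQ).1 (hD i hi j hj)
    obtain ⟨⟨hql, hqT⟩, hqq⟩ := hDr q hq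
    refine ⟨xE false q, (mem_TT false).2 ⟨q, (mem_tList false).2 ⟨hql, hqT⟩, rfl⟩, e, ?_⟩
    obtain ⟨r, hr, e'⟩ := (memB_iff (xE_mu (s := false) hql hql).1 (by
      simp only [List.mem_cons, List.not_mem_nil, or_false]
      rintro r (rfl | rfl) <;> assumption)).1 hqq
    rw [(xE_mu hql hql).2] at e'
    simp only [List.mem_cons, List.not_mem_nil, or_false] at hr
    rcases hr with rfl | rfl
    · exact Or.inl (e'.trans e00)
    · exact Or.inr (e'.trans ez2)
  · have hle : eS0.letOK (eX0.el e0I) = true := (lstFacts false).xfacts.letEl _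
    refine ⟨eS0.ev x1W, hmemL hx1, eS0.ev x2W, hmemL hx2, ?_, ?_, ?_⟩
    · have e := base_eq false (happ (hlx hx1) hle) (happ hle (hlx hx1)) he1
      rwa [Sys.ev_append, Sys.ev_append] at e
    · have e := base_eq false (happ (hlx hx2) hle) (happ hle (hlx hx2)) he2
      rwa [Sys.ev_append, Sys.ev_append] at e
    · have e := base_eq false (happ (hlx hx1) (hlx hx2)) (happ (happ (hlx hu18) (hlx hx2)) (hlx hx1)) he12
      rw [Sys.ev_append, Sys.ev_append, Sys.ev_append, mul_assoc] at e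
      exact e

/-- The inner centraliser of a root is abelian. -/
theorem cand0_abelian {y a b : PE false} (hy : Cand0 false y) (ha : a ∈ TT false) (hb : b ∈ TT false)
    (hay : a * y = y * a) (hby : b * y = y * b) : a * b = b * a := by
  obtain ⟨k, hk, rfl⟩ := hy
  have hc := ab_false
  simp only [okAb, okAb.withY, List.all_eq_true, Bool.and_eq_true, List.mem_filter] at hc
  obtain ⟨i, hi, rfl⟩ := (mem_TT false).1 ha
  obtain ⟨j, hj, rfl⟩ := (mem_TT false).1 hb
  have key : ∀ k ∈ y0I false, k < 512 := by decide +kernel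
  exact (comE_iff (tList_lt hi) (tList_lt hj)).1 ((hc k hk).1 i
    ⟨hi, (comE_iff (tList_lt hi) (key k hk)).2 hay⟩ j ⟨hj, (comE_iff (tList_lt hj) (key k hk)).2 hby⟩)

/-- An outer element of the first class centralises little of it. -/
theorem cand0_outer {y x : PE false} (hy : Cand0 false y) (hx : x ∈ XX false) (ht : typE false x = 1)
    (hxy : x * y = y * x) :
    Nat.card {a : PE false // a ∈ TT false ∧ a * y = y * a ∧ ComZ false a x} ≤ 16 := by
  classical
  obtain ⟨k, hk, rfl⟩ := hy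
  have key : ∀ k ∈ y0I false, k < 512 := by decide +kernel
  have hkl := key k hk
  have hc := ab_false
  simp only [okAb, okAb.withY, List.all_eq_true, Bool.and_eq_true, List.mem_range, Bool.or_eq_true,
    Bool.not_eq_true', Nat.ble_eq] at hc
  obtain ⟨i, hi, rfl⟩ := (mem_XX false).1 hx
  rcases (hc k hk).2 i hi with (h | h) | h
  · rw [xE_typ false hi] at ht
    have h' : Nat.beq (tpI false i) 1 = true := by rw [Nat.beq_eq]; exact ht
    rw [h'] at h; exact absurd h (by simp)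
  · rw [(comE_iff hi hkl).2 hxy] at h; exact absurd h (by simp)
  · rw [List.filter_filter] at h
    set Q := (tList false).filter fun a => comZ false a i && comE false a k with hQ
    let f : {a : PE false // a ∈ TT false ∧ a * xE false k = xE false k * a ∧ ComZ false a (xE false i)} →
        {j // j ∈ Q} := fun a => ⟨((mem_TT false).1 a.2.1).choose, by
      obtain ⟨hj, ej⟩ := ((mem_TT false).1 a.2.1).choose_spec
      rw [hQ, List.mem_filter, Bool.and_eq_true]
      exact ⟨hj, (comZ_iff (tList_lt hj) hi).2 (by rw [ej]; exact a.2.2.2),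
        (comE_iff (tList_lt hj) hkl).2 (by rw [ej]; exact a.2.2.1)⟩⟩
    have hf : Function.Injective f := fun a b e => by
      have e' := congrArg (fun j : {j // j ∈ Q} => xE false j.1) e
      simp only [f] at e'
      rw [((mem_TT false).1 a.2.1).choose_spec.2, ((mem_TT false).1 b.2.1).choose_spec.2] at e'
      exact Subtype.ext e'
    haveI : Finite {j // j ∈ Q} := List.finite_toSet Q |>.to_subtype
    refine (Nat.card_le_card_of_injective f hf).trans (le_trans (le_of_eq ?_) h)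
    have hnd : Q.Nodup := by
      rw [hQ, (lstFacts false).tl]; exact (List.nodup_range.filter _).filter _
    rw [← List.toFinset_card_of_nodup hnd, Nat.subtype_card Q.toFinset (fun x => List.mem_toFinset)]

end CfsgLib.ONStd
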