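import Cfsg.Agent.Lib.ONStd.DataE0
import Cfsg.Agent.Lib.ONStd.DataE1
import Cfsg.Agent.Lib.ONStd.DataT0
import Cfsg.Agent.Lib.ONStd.DataT1
import Cfsg.Agent.Lib.ONStd.DataI
import Cfsg.Agent.Lib.ONStd.DataC
import Cfsg.Agent.Lib.ONUnique.MData
import Cfsg.Agent.Lib.ONUnique.Universal

/-!
The checks on the extension of the cover and on the centraliser of its inner involution.
-/

set_option autoImplicit false

namespace CfsgLib.ONStd

open CfsgLib.ONUnique
open CfsgLib.CosetEnum (strict strict_eq)

/-- the system of a kernel class -/
def eS : Bool → Sys
  | false => eS0
  | true => eS1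

/-- its chain -/
def eChain : Bool → List (ℕ × List (List ℕ))
  | false => eChain0
  | true => eChain1

/-- its base -/
def eB (s : Bool) : List ℕ := (eChain s).map Prod.fst

/-- conjugators to the inner involutions -/
def eOrb : Bool → List (List ℕ)
  | false => eOrb0
  | true => eOrb1

/-- its Sylow subgroup -/
def eP : Bool → Lst
  | false => eP0
  | true => eP1

/-- classes in it -/
def ePCls : Bool → List (ℕ × List ℕ)
  | false => ePCls0
  | true => ePCls1

/-- the centraliser of the inner involution -/
def eX : Bool → Lst
  | false => eX0
  | true => eX1

/-- its products -/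
def eT : Bool → List (List ℕ)
  | false => eT0
  | true => eT1

/-- the steps by its generators -/
def eCol : Bool → List ℕ
  | false => eCol0
  | true => eCol1

/-- its outer parts -/
def eTp : Bool → ℕ
  | false => eTp0
  | true => eTp1

/-- the first point of the block -/
def off : Bool → ℕ
  | false => 0
  | true => 224

/-- the letter of the large system -/
def bigL (g : ℕ) : ℕ := bif Nat.blt g 18 then g else g + 1

/-- the word of the inner involution -/
def uWd : List ℕ := [0]

/-- the word of the power of the central element -/
def cWd (l : ℕ) : List ℕ := zX 0 l

/-- the outer part of a word: one bit for each of the two outer letters -/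
noncomputable def letT (g : ℕ) : ℕ :=
  bif Nat.beq g 18 then 1 else bif Nat.beq g 38 then 1 else bif Nat.beq g 19 then 2 else
    bif Nat.beq g 39 then 2 else 0

/-- the outer part of a word -/
noncomputable def wT (w : List ℕ) : ℕ := List.rec 0 (fun g _ ih => Nat.xor (letT g) ih) w

/-- the words of the outer representatives -/
def oW (t : ℕ) : List ℕ :=
  (bif Nat.testBit t 0 then [18] else []) ++ (bif Nat.testBit t 1 then [19] else [])

/-- the outer part of an element of the centraliser -/
def tpI (s : Bool) (i : ℕ) : ℕ := look (eTp s) i

/-- the inner part of the centraliser -/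
noncomputable def inT (s : Bool) (i : ℕ) : Bool := Nat.beq (tpI s i) 0

/-- a product in the centraliser -/
def mu (s : Bool) (i j : ℕ) : ℕ :=
  look (((eT s).getD (i / 16) []).getD (i % 16) 0) j

/-- a row of products -/
def rowT (s : Bool) (i : ℕ) : ℕ := ((eT s).getD (i / 16) []).getD (i % 16) 0

/-- the index of a power of the central element -/
def zc (s : Bool) (l : ℕ) : ℕ := (zcI s).getD l 0

/-- equality modulo the centre -/
noncomputable def eqZ (s : Bool) (i j : ℕ) : Bool :=
  (List.range 4).any fun l => Nat.beq (mu s i (zc s l)) j

/-- the inner part, listed -/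
def tList : Bool → List ℕ
  | false => eTl0
  | true => eTl1

/-- the columns agree with the steps -/
noncomputable def colOKE (s : Bool) : Bool :=
  ((List.range 5).all fun g => strict ((eCol s).getD g 0) fun col => (List.range 512).all fun i =>
      Nat.beq (look col i) ((eX s).step i g)) &&
    Nat.beq (eX s).gens.length 5 &&
    (List.range 512).all fun j => Nat.beq (mu s (eX s).one j) j

/-- a part of the table agrees with the products by generators -/
noncomputable def mulPart (s : Bool) (b : ℕ) : Bool :=
  (List.range 32).all fun i' => strict (32 * b + i') fun i => (List.range 5).all fun g =>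
    strict ((eCol s).getD g 0) fun col => strict (rowT s i) fun Ti =>
      strict (rowT s (look col i)) fun Tr => (List.range 512).all fun j =>
        strict (look Ti j) fun k => Nat.blt k 512 && Nat.beq (look Tr j) (look col k)

/-- the commutator is a given element -/
noncomputable def comIs (s : Bool) (a b q : ℕ) : Bool :=
  strict (mu s a b) fun l => strict (mu s b a) fun r => Nat.beq l (mu s q r)

/-- the commutator is among given elements -/
noncomputable def comIn (s : Bool) (a b : ℕ) (Q : List ℕ) : Bool :=
  strict (mu s a b) fun l => strict (mu s b a) fun r => Q.any fun q => Nat.beq l (mu s q r)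

/-- commutation modulo the centre -/
noncomputable def comZ (s : Bool) (a b : ℕ) : Bool :=
  strict (mu s a b) fun l => strict (mu s b a) fun r => eqZ s r l

/-- exact commutation -/
noncomputable def comE (s : Bool) (a b : ℕ) : Bool := Nat.beq (mu s a b) (mu s b a)

/-- membership in a list -/
noncomputable def memB (i : ℕ) (Q : List ℕ) : Bool := Q.any fun q => Nat.beq i q

/-- the checks on the system -/
noncomputable def okSys (s : Bool) : Bool :=
  (eS s).ok && Nat.beq (eS s).N 224 && Nat.beq (eS s).n 20 && (eS s).chainOK (eChain s) [] &&
    Nat.beq (Sys.chainSize (eChain s)) 322560 && ((eB s).all fun b => Nat.blt b 224) &&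
    ((List.range 20).all fun g => (List.range 224).all fun i =>
      strict (look ((eS s).tab g) i) fun j =>
        Nat.beq (look (sysU.tab (bigL g)) (off s + i)) (off s + j)) &&
    ((List.range 16).all fun k =>
      Nat.beq (chi (cond s 2 0) 1 (k / 4) (k % 4)) 0 ==
        (eS s).fullEq (zX (k / 4) (k % 4)) []) &&
    ([18, 19, 38, 39].all fun g => (List.range 4).all fun t => (List.range 4).any fun l =>
      (eS s).fullEq (g :: oW t) (cWd l ++ oW (Nat.xor (letT g) t))) &&
    ((List.range 40).all fun g => Nat.blt (letT g) 4)

/-- the checks on the lists -/
noncomputable def okLst (s : Bool) : Bool :=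
  (eX s).ok (eS s) (eB s) && Nat.beq (eX s).size 512 && colOKE s &&
    ((eX s).gens.all fun g => (eS s).baseEq (eB s) (g ++ uWd) (uWd ++ g)) &&
    Nat.beq (tList s).length 128 &&
    ((List.range 512).all fun i => Nat.beq (tpI s i) (wT ((eX s).el i))) &&
    (tList s == (List.range 512).filter (inT s)) &&
    ((List.range 4).all fun t => (List.range 512).any fun i => Nat.beq (tpI s i) t) &&
    Nat.blt (kuI s) 512 && (eS s).baseEq (eB s) ((eX s).el (kuI s)) uWd &&
    ((List.range 4).all fun l => Nat.blt (zc s l) 512 &&
      (eS s).baseEq (eB s) ((eX s).el (zc s l)) (cWd l)) &&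
    ((eOrb s).all fun v => v.all fun g => Nat.blt g 18) && Nat.beq (eOrb s).length 630 &&
    incB ((eOrb s).map fun v => keyOf ((eB s).map ((eS s).run (v ++ uWd ++ (eS s).invW v)))) &&
    (eP s).ok (eS s) (eB s) && Nat.beq (eP s).size 256 &&
    ((eP s).gens.all fun v => v.all fun g => Nat.blt g 18) &&
    (List.range 256).all fun i => withL ((eP s).el i) fun l =>
      match (ePCls s).getD i (0, []) with
      | (0, _) => ((List.range 4).any fun j => (eS s).baseEq (eB s) l (cWd j)) ||
          !((List.range 4).any fun j => (eS s).baseEq (eB s) (l ++ l) (cWd j))
      | (j + 1, v) => Nat.blt j 4 && (v.all fun g => Nat.blt g 18) &&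
          (eS s).baseEq (eB s) (v ++ uWd ++ cWd j ++ (eS s).invW v) l

/-- an element of the centraliser is not central modulo the centre over the inner involution -/
noncomputable def okOne (s : Bool) : Bool :=
  (List.range 512).all fun e => !(eqZ s (mu s e e) (kuI s)) ||
    (List.range 512).any fun x => !(comZ s e x)

/-- the central elements of the other copy -/
noncomputable def okTwo (s : Bool) : Bool :=
  ((candI s).all fun y => Nat.blt y 512 && inT s y) &&
    ((y0I s).all fun y => Nat.blt y 512 && Nat.beq (mu s y y) (kuI s) && memB y (candI s)) &&
    (List.range 512).all fun e => !(eqZ s (mu s e e) (kuI s)) || !(comE s e (zc s 1)) ||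
      !((tList s).all fun t => comIn s e t [zc s 0, kuI s]) || memB e (candI s)

/-- the checks of the good class on the common part -/
noncomputable def okCommon : Bool :=
  strict (mu false (kuI false) (zc false 2)) fun uz => strict (zc false 2) fun z =>
    ((tList false).all fun t => Nat.beq t z || Nat.beq t uz || memB (mu false t t) [z, uz] ||
      !((tList false).all fun r => !(comIn false t r [z, uz])) || memB t (l1I false)) &&
    ((l1I false).all fun t => !(memB (mu false t t) (l1I false)) ||
      !((tList false).all fun r => comIn false t r (l1I false)) || memB t (syI false)) &&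
    ((syI false).all fun y => (syI false).all fun y' =>
      memB y [zc false 0, kuI false] || memB y' [zc false 0, kuI false] ||
        !((syI false).any fun q => Nat.beq (mu false y q) y') ||
        memB y' [y, mu false y (kuI false)]) &&
    ((syI false).all fun y => memB y [zc false 0, kuI false] || (tList false).all fun t =>
      !((tList false).all fun r => comIn false t r [zc false 0, kuI false, y, mu false y (kuI false)]) ||
        [zc false 0, kuI false, y, mu false y (kuI false)].any fun q => eqZ false q t)

/-- the joint centralisers are small -/
noncomputable def okThree (y : ℕ) : Bool :=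
  (List.range 512).all fun v =>
    !(comZ false v y) ||
      !(eqZ false (mu false v v) (zc false 0) || eqZ false (mu false v v) y ||
        eqZ false (mu false v v) (mu false y (mu false y y))) ||
      eqZ false v (zc false 0) || eqZ false v (kuI false) || eqZ false v y ||
      eqZ false v (mu false y (kuI false)) ||
      Nat.ble ((List.range 512).filter fun x => comZ false x y && comZ false x v).length 128

/-- the checks of the good class on the types -/
noncomputable def okTypes : Bool :=
  ((candI false).all fun y => (tList false).any fun t => !(comE false y t)) &&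
    ((List.range 512).all fun i => bif Nat.testBit (tpI false i) 1
      then comIs false i (zc false 1) (zc false 2) else comE false i (zc false 1)) &&
    ((y0I false).all fun y => Nat.beq ((tList false).filter fun t => comE false t y).length 64 &&
      ((List.range 4).all fun t =>
        Nat.beq ((List.range 512).filter fun i => Nat.beq (tpI false i) t && comE false i y).length 64) &&
      ((List.range 512).any fun b => Nat.beq (tpI false b) 2 && comE false b y &&
        (tList false).any fun a => comE false a y &&
          strict (mu false a b) fun l => strict (mu false b a) fun r =>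
            (tList false).any fun q => Nat.beq l (mu false q r) && Nat.beq (mu false q q) (zc false 2)) &&
      ((List.range 512).all fun i => !(Nat.beq (tpI false i) 2) || comE false i y ||
        eqZ false (mu false i i) (zc false 0)) &&
      Nat.blt e0I 512 && Nat.beq (tpI false e0I) 2 && !(comE false e0I y) &&
        Nat.beq (mu false e0I e0I) (zc false 0) &&
      ((List.range 512).all fun i => !(Nat.beq (tpI false i) 3) || !(eqZ false (mu false i i) (zc false 0)) ||
        comE false i y || twI.any fun p => Nat.beq p.1 i && comE false p.2 y)) &&
    ((tList false).all fun a => (tList false).all fun b => comIn false a b (drI false)) &&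
    ((drI false).all fun q => Nat.blt q 512 && inT false q &&
      memB (mu false q q) [zc false 0, zc false 2]) &&
    (x1W.all fun g => Nat.blt g 18) && (x2W.all fun g => Nat.blt g 18) &&
    eS0.baseEq (eB false) (x1W ++ eX0.el e0I) (eX0.el e0I ++ x1W) &&
    eS0.baseEq (eB false) (x2W ++ eX0.el e0I) (eX0.el e0I ++ x2W) &&
    eS0.baseEq (eB false) (x1W ++ x2W) (uWd ++ x2W ++ x1W) &&
    (xwW.all fun g => Nat.blt g 18) &&
    eS0.baseEq (eB false) (xwW ++ uWd) (uWd ++ cWd 2 ++ xwW) &&
    twI.all fun p => Nat.blt p.1 512 && Nat.blt p.2 512 &&
      eS0.baseEq (eB false) (xwW ++ eX0.el p.2) (eX0.el p.1 ++ xwW)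

end CfsgLib.ONStd
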