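import Cfsg.Agent.Lib.ONStd.Base
import Cfsg.Agent.Lib.ONUnique.Classify

/-!
A standard subgroup which is a cyclic fourfold cover of the linear group gives a context.
-/

set_option autoImplicit false
set_option linter.style.haveILetI false
set_option maxRecDepth 8000

open scoped MatrixGroups

namespace CfsgLib.ONStd

open CfsgLib.ONUnique

universe u v

theorem exists_ctx {G : Type u} [Group G] [Finite G] (L : Subgroup G) (hL : Cfsg.IsStandardSubgroup L)
    {F : Type v} [Field F] [Fintype F] (hF : Fintype.card F = 4)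
    (hZc : IsCyclic (Subgroup.center L)) (hZ4 : Nat.card (Subgroup.center L) = 4)
    (e : L ⧸ Subgroup.center L ≃* Matrix.ProjectiveSpecialLinearGroup (Fin 3) F) :
    ∃ s : Bool, Nonempty (Ctx G s) := by
  classical
  obtain ⟨code, π, -, -, -, -, hπs, hπk, -⟩ := exists_piU hF
  have hperf : commutator L = ⊤ := hL.1.1.commutator_eq_top
  obtain ⟨Φ₀, hΦ₀, hker₀, hcen₀, -, i, j, hij, hchi₀⟩ := exists_cover_hom hF hπs hπk hperf hZc hZ4 e
  obtain ⟨k₀, s, hks⟩ := kernel_orbits i j hij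
  set w₀ := List.replicate k₀.val (0 : Fin 3)
  let Φ : U →* L := Φ₀.comp (cW w₀)
  have hΦ : Function.Surjective Φ := hΦ₀.comp (cW_bijective w₀).2
  have hZw : ∀ w x, cW w x ∈ Z0 ↔ x ∈ Z0 := fun w x => ⟨fun h => by
    let f : Z0 →* Z0 := ((cW w).comp Z0.subtype).codRestrict Z0 fun z => cW_Z0 w z.2
    have hf : Function.Injective f := fun p q e => Subtype.ext (cW_injective w (congrArg Subtype.val e))
    obtain ⟨z, hz⟩ := (Finite.injective_iff_surjective.1 hf) ⟨_, h⟩
    rw [← cW_injective w (congrArg Subtype.val hz : cW w z = cW w x)]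
    exact z.2, cW_Z0 w⟩
  have hcen : ∀ x, Φ x ∈ Subgroup.center L ↔ x ∈ Z0 := fun x => (hcen₀ _).trans (hZw _ _)
  have hchi : ∀ a b : Fin 4, Φ (za ^ (a : ℕ) * zb ^ (b : ℕ)) = 1 ↔ chi (cond s 2 0) 1 a b = 0 := by
    intro a b
    show Φ₀ (cW w₀ _) = 1 ↔ _
    rw [← zpow_pair (a : ℕ) (b : ℕ), cW_z, ← zpow_pair]
    have := hks a b
    rw [← MonoidHom.mem_ker, hchi₀ ⟨_, Nat.mod_lt _ (by norm_num)⟩ ⟨_, Nat.mod_lt _ (by norm_num)⟩]
    simp only [Nat.mod_eq_of_lt a.2, Nat.mod_eq_of_lt b.2] at *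
    refine Iff.trans ?_ (this.trans ?_)
    · simp only [chi, zAct, Nat.add_mod, Nat.mul_mod, Nat.mod_mod]
    · cases s <;> exact Iff.rfl
  have hkereq : (rhoE s).ker = Φ.ker := by
    ext x
    simp only [MonoidHom.mem_ker]
    by_cases hx : x ∈ Z0
    · obtain ⟨a, b, rfl⟩ := hx
      rw [rhoE_z_eq_one s a.2 b.2, hchi]
    · exact iff_of_false (fun h => hx (rhoE_ker_le s (MonoidHom.mem_ker.2 h)))
        (fun h => hx ((hcen x).1 (by rw [h]; exact one_mem _)))
  have hr : Function.Surjective (rhoE s).rangeRestrict := (rhoE s).rangeRestrict_surjective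
  have hk1 : (rhoE s).rangeRestrict.ker ≤ Φ.ker := by rw [MonoidHom.ker_rangeRestrict, hkereq]
  let f : eL s →* L := (rhoE s).rangeRestrict.liftOfSurjective hr ⟨Φ, hk1⟩
  have hf : ∀ x, f ((rhoE s).rangeRestrict x) = Φ x := fun x =>
    (rhoE s).rangeRestrict.liftOfRightInverse_comp_apply _ _ ⟨Φ, hk1⟩ x
  have hfi : Function.Injective f := by
    rw [injective_iff_map_eq_one]
    intro y hy
    obtain ⟨x, rfl⟩ := hr y
    rw [hf, ← MonoidHom.mem_ker, ← hkereq, MonoidHom.mem_ker] at hy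
    exact Subtype.ext hy
  have hfs : Function.Surjective f := fun l => by
    obtain ⟨x, rfl⟩ := hΦ l
    exact ⟨_, hf x⟩
  refine ⟨s, ⟨⟨L.subtype.comp f, L.subtype_injective.comp hfi, ?_⟩⟩⟩
  rwa [MonoidHom.range_comp, MonoidHom.range_eq_top.2 hfs, ← MonoidHom.range_eq_map, Subgroup.range_subtype]

end CfsgLib.ONStd
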