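import Cfsg.Agent.Lib.ONUnique.Elim

/-!
The outer involutions of the models: either the central one is a square in their centraliser, or the
inner one is the product of two commuting conjugates.
-/

set_option autoImplicit false
set_option maxRecDepth 8000

namespace CfsgLib.ONUnique

variable {D : MData} {C : MCert}

theorem sq_fact (CF : CFacts D C) (F : D.Facts) (hsq : C.okSq D = true) {k : ℕ} (hk : k < C.ys.length) :
    ∃ r : D.S.G, r * yG D C k = yG D C k * r ∧ r * r = tG D C := by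
  simp only [MCert.okSq, withL, Bool.and_eq_true, List.all_eq_true, List.mem_range, Nat.beq_eq] at hsq
  obtain ⟨⟨hl, h1⟩, h2⟩ := hsq.2 k hk
  have hlr : D.S.letOK (C.rep (3 + k)) = true := by
    by_contra hn
    exact (CF.y_inv k hk).2 (by rw [yG, MData.g, dif_neg hn])
  have hlt : D.S.letOK C.tW = true := by
    by_contra hn
    exact CF.t_ne (by rw [tG, MData.g, dif_neg hn])
  have happ : ∀ {v w}, D.S.letOK v = true → D.S.letOK w = true → D.S.letOK (v ++ w) = true :=
    fun hv hw => Sys.letOK_append.2 ⟨hv, hw⟩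
  refine ⟨D.g (C.sqW.getD k []), ?_, ?_⟩
  · rw [yG, ← MData.g_append hl hlr, ← MData.g_append hlr hl]
    exact (eqB_iff F CF.card (happ hl hlr) (happ hlr hl)).1 h1
  · rw [tG, ← MData.g_append hl hl]
    exact (eqB_iff F CF.card (happ hl hl) hlt).1 h2

theorem pr_fact (CF : CFacts D C) (F : D.Facts) (hpr : C.okPr D = true) {j : ℕ} (hj : j < C.ys.length) :
    ∃ m h : D.S.G, yG D C j * (m * yG D C j * m⁻¹) = (m * yG D C j * m⁻¹) * yG D C j ∧
      yG D C j * (m * yG D C j * m⁻¹) = h * uG D C * h⁻¹ := by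
  simp only [MCert.okPr, withL, Bool.and_eq_true, List.all_eq_true, List.mem_range, Nat.beq_eq] at hpr
  have hly : D.S.letOK (C.rep (3 + j)) = true := by
    by_contra hn
    exact (CF.y_inv j hj).2 (by rw [yG, MData.g, dif_neg hn])
  have hlu : D.S.letOK C.uW = true := by
    by_contra hn
    exact CF.u_ne (by rw [uG, MData.g, dif_neg hn])
  have happ : ∀ {v w}, D.S.letOK v = true → D.S.letOK w = true → D.S.letOK (v ++ w) = true :=
    fun hv hw => Sys.letOK_append.2 ⟨hv, hw⟩
  have hcj : ∀ {v w}, D.S.letOK v = true → D.S.letOK w = true → D.S.letOK (MCert.cj D v w) = true :=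
    fun hv hw => happ (happ hv hw) (Sys.letOK_invW hv)
  rcases hq : C.prW.getD j ([], [], []) with ⟨z, m, h⟩
  have h' := hpr.2 j hj
  rw [hq] at h'
  simp only [Bool.and_eq_true] at h'
  obtain ⟨⟨⟨⟨⟨-, hm⟩, hh⟩, -⟩, e2⟩, e3⟩ := h'
  refine ⟨D.g m, D.g h, ?_, ?_⟩
  · rw [yG, ← g_cj F hm hly, ← MData.g_append hly (hcj hm hly), ← MData.g_append (hcj hm hly) hly]
    exact (eqB_iff F CF.card (happ hly (hcj hm hly)) (happ (hcj hm hly) hly)).1 e2
  · rw [yG, uG, ← g_cj F hm hly, ← g_cj F hh hlu, ← MData.g_append hly (hcj hm hly)]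
    exact (eqB_iff F CF.card (happ hly (hcj hm hly)) (hcj hh hlu)).1 e3

end CfsgLib.ONUnique
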