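import Cfsg.Agent.Lib.ONStd.StdData
import Cfsg.Agent.Lib.ONStd.ModelFacts
import Cfsg.Agent.Lib.ONStd.ChkR
import Cfsg.Agent.Lib.ONUnique.Elim

/-!
The central involution of a standard copy has a conjugate in the copy times its centraliser.
-/

set_option autoImplicit false
set_option linter.style.haveILetI false
set_option linter.unusedSectionVars false
set_option maxRecDepth 8000

open scoped MatrixGroups

namespace CfsgLib.ONUnique

variable {D : MData} {C : MCert}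

theorem pr_shift (CF : CFacts D C) (F : D.Facts) (hpr : C.okPr D = true) {j : ℕ} (hj : j < C.ys.length) :
    ∃ z : D.S.G, z * yG D C j * z⁻¹ = yG D C j * tG D C := by
  simp only [MCert.okPr, withL, Bool.and_eq_true, List.all_eq_true, List.mem_range, Nat.beq_eq] at hpr
  have hly : D.S.letOK (C.rep (3 + j)) = true := by
    by_contra hn
    exact (CF.y_inv j hj).2 (by rw [yG, MData.g, dif_neg hn])
  have hlt : D.S.letOK C.tW = true := by
    by_contra hn
    exact CF.t_ne (by rw [tG, MData.g, dif_neg hn])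
  have happ : ∀ {v w}, D.S.letOK v = true → D.S.letOK w = true → D.S.letOK (v ++ w) = true :=
    fun hv hw => Sys.letOK_append.2 ⟨hv, hw⟩
  have hcj : ∀ {v w}, D.S.letOK v = true → D.S.letOK w = true → D.S.letOK (MCert.cj D v w) = true :=
    fun hv hw => happ (happ hv hw) (Sys.letOK_invW hv)
  rcases hq : C.prW.getD j ([], [], []) with ⟨z, m, h⟩
  have h' := hpr.2 j hj
  rw [hq] at h'
  simp only [Bool.and_eq_true] at h'
  obtain ⟨⟨⟨⟨⟨hz, -⟩, -⟩, e1⟩, -⟩, -⟩ := h'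
  refine ⟨D.g z, ?_⟩
  rw [yG, tG, ← g_cj F hz hly, ← MData.g_append hly hlt]
  exact (eqB_iff F CF.card (hcj hz hly) (happ hly hlt)).1 e1

end CfsgLib.ONUnique

namespace CfsgLib.ONStd

open CfsgLib.ONUnique

universe u

variable {s : Bool}

theorem exists_root (s : Bool) : ∃ y ∈ eL s, y * y = uE s := by
  have h : okRoot s = true := by cases s <;> [exact root_ok.1; exact root_ok.2]
  simp only [okRoot, List.any_eq_true, Nat.beq_eq] at h
  obtain ⟨t, ht, e⟩ := h
  refine ⟨xE s t, ((mem_TT s).2 ⟨t, ht, rfl⟩).1, ?_⟩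
  rw [← (xE_mu (tList_lt ht) (tList_lt ht)).2, e, (lstFacts s).ku.2]

variable {G : Type u} [Group G] [Finite G]

namespace Ctx

theorem perfect' (c : Ctx G s) : commutator (eL s) = ⊤ := by
  haveI : Group.IsPerfect c.ι.range := c.std.1.1
  haveI := Group.IsPerfect.ofSurjective (f := (MonoidHom.ofInjective c.inj).symm.toMonoidHom)
    (MonoidHom.ofInjective c.inj).symm.surjective
  exact Group.IsPerfect.commutator_eq_top

/-- the copy extended by an involution of its normaliser -/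
noncomputable def ext2 (c : Ctx G s) {v : G} (hv : v ∈ c.N) (h2 : v * v = 1) : Subgroup G where
  carrier := {n | n ∈ c.ι.range ∨ n * v ∈ c.ι.range}
  one_mem' := Or.inl c.ι.range.one_mem
  mul_mem' := by
    have hc : ∀ {a : G}, a ∈ c.ι.range → v * a * v ∈ c.ι.range := by
      rintro _ ⟨x, rfl⟩
      obtain ⟨x', hx⟩ := c.conj_iota hv x
      exact ⟨x', by rw [← hx, inv_eq_of_mul_eq_one_right h2]⟩
    intro a b ha hb
    rcases ha with ha | ha <;> rcases hb with hb | hb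
    · exact Or.inl (mul_mem ha hb)
    · refine Or.inr ?_
      rw [mul_assoc]
      exact mul_mem ha hb
    · refine Or.inr ?_
      have h := mul_mem ha (hc hb)
      rwa [show a * v * (v * b * v) = a * (v * v) * b * v by group, h2, mul_one] at h
    · refine Or.inl ?_
      have h := mul_mem ha (hc hb)
      rwa [show a * v * (v * (b * v) * v) = a * (v * v) * b * (v * v) by group, h2, mul_one, mul_one] at h
  inv_mem' := by
    rintro a (ha | ha)
    · exact Or.inl (inv_mem ha)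
    · refine Or.inr ?_
      obtain ⟨x, hx⟩ := inv_mem ha
      obtain ⟨x', hx'⟩ := c.conj_iota hv x
      refine ⟨x', ?_⟩
      rw [← hx', hx, mul_inv_rev, mul_inv_cancel_left]
      rw [inv_eq_of_mul_eq_one_right h2]

/-- no conjugate of the central involution, other than itself, is inner -/
def NoInner (c : Ctx G s) : Prop :=
  ∀ g : G, ∀ x : eL s, ∀ k ∈ c.K, g * c.z * g⁻¹ = c.ι x * k → g * c.z * g⁻¹ = c.z

theorem noInner_conj {c : Ctx G s} (hno : c.NoInner) (g : G) : (c.conj g).NoInner := by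
  intro g' x k hk e
  have hk' : g⁻¹ * k * g ∈ c.K := c.mem_K.2 fun y => by
    have h := (c.conj g).mem_K.1 hk y
    rw [conj_iota_apply] at h
    calc c.ι y * (g⁻¹ * k * g) = g⁻¹ * ((g * c.ι y * g⁻¹) * k) * g := by group
      _ = g⁻¹ * (k * (g * c.ι y * g⁻¹)) * g := by rw [h]
      _ = _ := by group
  rw [conj_z, conj_iota_apply] at e
  have h := hno (g⁻¹ * g' * g) x _ hk' (by
    calc g⁻¹ * g' * g * c.z * (g⁻¹ * g' * g)⁻¹ = g⁻¹ * (g' * (g * c.z * g⁻¹) * g'⁻¹) * g := by group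
      _ = _ := by rw [e]; group)
  rw [conj_z]
  calc g' * (g * c.z * g⁻¹) * g'⁻¹ = g * (g⁻¹ * g' * g * c.z * (g⁻¹ * g' * g)⁻¹) * g⁻¹ := by group
    _ = _ := by rw [h]

/-- With no inner conjugate, a commuting conjugate is moved to its product with the central involution,
and is the first of two commuting conjugates with inner product. -/
theorem outer_conj (c : Ctx G s) (hno : c.NoInner) (g : G)
    (hw : g * c.z * g⁻¹ * c.z = c.z * (g * c.z * g⁻¹)) (hne : g * c.z * g⁻¹ ≠ c.z) :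
    (∃ x : G, x * (g * c.z * g⁻¹) * x⁻¹ = g * c.z * g⁻¹ * c.z) ∧
      ∃ b : G, b * c.z * b⁻¹ ≠ g * c.z * g⁻¹ ∧
        g * c.z * g⁻¹ * (b * c.z * b⁻¹) = b * c.z * b⁻¹ * (g * c.z * g⁻¹) ∧
        ∃ l : eL s, g * c.z * g⁻¹ * (b * c.z * b⁻¹) = c.ι l ∧ c.ι l ≠ c.z := by
  classical
  set w := g * c.z * g⁻¹ with hwd
  have hwN : w ∈ c.N := c.mem_N.2 hw
  have h2 : w * w = 1 := by
    rw [hwd, show g * c.z * g⁻¹ * (g * c.z * g⁻¹) = g * (c.z * c.z) * g⁻¹ by group, c.z_sq, mul_one,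
      mul_inv_cancel]
  have hout : ∀ (x : eL s), ∀ k ∈ c.K, w ≠ c.ι x * k := fun x k hk e => hne (hno g x k hk e)
  set H := c.ext2 hwN h2 with hH
  let ψ : eL s →* H := c.ι.codRestrict H fun x => Or.inl ⟨x, rfl⟩
  let v' : H := ⟨w, Or.inr (by rw [h2]; exact c.ι.range.one_mem)⟩
  have hHN : ∀ n : H, (n : G) ∈ c.N := fun n => by
    rcases n.2 with ⟨x, hx⟩ | ⟨x, hx⟩
    · rw [← hx]; exact c.iota_mem_N x
    · have : (n : G) = c.ι x * w⁻¹ := by rw [hx, mul_inv_cancel_right]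
      rw [this]; exact mul_mem (c.iota_mem_N x) (inv_mem hwN)
  have hcz : ∀ n : H, n * ψ (cL s ^ 2) = ψ (cL s ^ 2) * n := fun n => Subtype.ext (c.mem_N.1 (hHN n))
  have hvi : v'⁻¹ = v' := inv_eq_of_mul_eq_one_right (Subtype.ext h2)
  have hrange : ∀ n : H, n ∈ ψ.range ↔ (n : G) ∈ c.ι.range := fun n =>
    ⟨fun ⟨x, hx⟩ => ⟨x, congrArg Subtype.val hx⟩, fun ⟨x, hx⟩ => ⟨x, Subtype.ext hx⟩⟩
  have hvout : v' ∉ ψ.range := fun h => by
    obtain ⟨x, hx⟩ := (hrange _).1 h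
    exact hout x 1 c.K.one_mem (by rw [mul_one]; exact hx.symm)
  have hcent : ∀ n : H, n ∈ ψ.range ∨ n * v'⁻¹ ∈ ψ.range := fun n => by
    rcases n.2 with h | h
    · exact Or.inl ((hrange n).2 h)
    · exact Or.inr (by rw [hvi]; exact (hrange _).2 h)
  have S : StdC ψ v' :=
    ⟨fun a b e => c.inj (congrArg Subtype.val e), c.perfect', fun x => by
        obtain ⟨x', hx'⟩ := c.conj_iota hwN x
        exact ⟨x', Subtype.ext hx'.symm⟩,
      hvout, hcz _, fun n _ => hcent n, fun n _ hn => by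
        rcases hcent n with h | h
        · exact h
        · exfalso
          have hK : (n : G) ∈ c.K := c.mem_K.2 fun x => (congrArg Subtype.val (hn x)).symm
          obtain ⟨x, hx⟩ := (hrange _).1 h
          refine hout x _ (inv_mem hK) ?_
          rw [c.mem_K.1 (inv_mem hK) x, hx, hvi, Subgroup.coe_mul, inv_mul_cancel_left]⟩
  letI : Fintype F4 := Fintype.ofFinite F4
  haveI := S.normal
  obtain ⟨e⟩ := S.quot
  obtain ⟨m, CF, ι, R⟩ := exists_model (ψ (cL s ^ 2)) S.order_t (StdC.M ψ) S.index S.hout S.zcyclic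
    S.zcard S.perfect card_F4 e
  have hzc : ((ψ (cL s ^ 2) : H) : G) = c.z := rfl
  have hnrm : ∀ (q n : H), n ∈ ψ.range → q * n * q⁻¹ ∈ ψ.range := fun q n hn => by
    obtain ⟨x, rfl⟩ := hn
    obtain ⟨x', hx'⟩ := c.conj_iota (hHN q) x
    exact ⟨x', Subtype.ext hx'.symm⟩
  set U0 := uG (mdAt m) (mcAt m) with hU0
  have hu0 : ι U0 ∈ ψ.range := by
    obtain ⟨y, hy, hyy⟩ := exists_root s
    have hyy' : (⟨y, hy⟩ : eL s) * ⟨y, hy⟩ = uL s := Subtype.ext hyy
    obtain ⟨x, hx, hcase⟩ := R.invol CF (w := ψ (uL s)) (hcz _)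
      (by rw [← map_mul, show uL s * uL s = 1 from Subtype.ext (uE_sq s), map_one])
      (fun e => c.u_ne (congrArg Subtype.val e))
      (fun e => c.u_notMem_K (by rw [show c.u = c.z from congrArg Subtype.val e]; exact c.z_mem_K))
    rcases hcase with ⟨h, hh⟩ | ⟨k, hk, h, hh⟩
    · have := hnrm (ι h)⁻¹ (ψ (uL s)) ⟨_, rfl⟩
      rwa [← hx, ← hh, map_mul, map_mul, map_inv, inv_inv,
        show (ι h)⁻¹ * (ι h * ι U0 * (ι h)⁻¹) * ι h = ι U0 by group] at this
    · exfalso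
      obtain ⟨r, hr⟩ := R.exists_pre (g := ψ ⟨y, hy⟩) (hcz _)
      refine CF.y_half k hk (h⁻¹ * r * h) (R.inj ?_)
      rw [show h⁻¹ * r * h * (h⁻¹ * r * h) = h⁻¹ * (r * r) * h by group,
        show yG (mdAt m) (mcAt m) k = h⁻¹ * (h * yG (mdAt m) (mcAt m) k * h⁻¹) * h by group, hh,
        map_mul, map_mul, map_mul, map_mul, map_mul, hr, ← map_mul, hyy', hx]
  obtain ⟨k, hk, h, hh⟩ : ∃ k < (mcAt m).ys.length, ∃ h, ι (h * yG (mdAt m) (mcAt m) k * h⁻¹) = v' := by
    obtain ⟨x, hx, hcase⟩ := R.invol CF (w := v') (hcz _) (Subtype.ext h2)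
      (fun e => hout 1 1 c.K.one_mem (by rw [map_one, mul_one]; exact congrArg Subtype.val e))
      (fun e => hne (congrArg Subtype.val e))
    rcases hcase with ⟨h, hh⟩ | ⟨k, hk, h, hh⟩
    · refine absurd ?_ hvout
      rw [← hx, ← hh, map_mul, map_mul, map_inv]
      exact hnrm _ _ hu0
    · exact ⟨k, hk, h, by rw [hh, hx]⟩
  have hnsq : (mcAt m).okSq (mdAt m) ≠ true := by
    intro hsq
    obtain ⟨r, hr1, hr2⟩ := sq_fact CF (MData.facts (mdAt_ok m)) hsq hk
    set R' : G := ((ι (h * r * h⁻¹) : H) : G) with hR'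
    have hcom : R' * w = w * R' := by
      refine congrArg Subtype.val (show ι (h * r * h⁻¹) * v' = v' * ι (h * r * h⁻¹) from ?_)
      rw [← hh, ← map_mul, ← map_mul]
      congr 1
      calc h * r * h⁻¹ * (h * yG (mdAt m) (mcAt m) k * h⁻¹) = h * (r * yG (mdAt m) (mcAt m) k) * h⁻¹ := by group
        _ = h * (yG (mdAt m) (mcAt m) k * r) * h⁻¹ := by rw [hr1]
        _ = _ := by group
    have hsqR : R' * R' = c.z := by
      rw [← hzc, ← R.map_t]
      refine congrArg Subtype.val (show ι (h * r * h⁻¹) * ι (h * r * h⁻¹) = ι (tG (mdAt m) (mcAt m)) from ?_)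
      rw [← map_mul, show h * r * h⁻¹ * (h * r * h⁻¹) = h * (r * r) * h⁻¹ by group, hr2, CF.t_central,
        mul_inv_cancel_right]
    set d' := c.conj g with hd'
    have hz' : d'.z = w := by rw [hd', Ctx.conj_z]
    obtain ⟨x', hx'⟩ := d'.sq_inner (n := R') (d'.mem_N.2 (by rw [hz']; exact hcom))
    rw [hsqR] at hx'
    obtain ⟨x'', k'', hk'', e''⟩ := d'.inner_symm c (x := x') hx' (mul_inv_cancel_left _ _).symm
    exact hout x'' k'' hk'' (by rw [← hz']; exact e'')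
  have hpr : (mcAt m).okPr (mdAt m) = true := by
    by_cases hm : m = 4
    · subst hm; exact mc4_pr
    · exact ((mcAt_elim m hm).2).resolve_left hnsq
  set Y := yG (mdAt m) (mcAt m) k with hY
  obtain ⟨z0, hz0⟩ := pr_shift CF (MData.facts (mdAt_ok m)) hpr hk
  obtain ⟨a, b, hab, hprod⟩ := pr_fact CF (MData.facts (mdAt_ok m)) hpr hk
  refine ⟨⟨((ι (h * z0 * h⁻¹) : H) : G), ?_⟩, ((ι (h * a * h⁻¹) : H) : G) * g, ?_⟩
  · refine congrArg Subtype.val (show ι (h * z0 * h⁻¹) * v' * (ι (h * z0 * h⁻¹))⁻¹ = v' * ψ (cL s ^ 2) from ?_)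
    rw [← hh, ← R.map_t, ← map_inv, ← map_mul, ← map_mul, ← map_mul]
    congr 1
    calc h * z0 * h⁻¹ * (h * Y * h⁻¹) * (h * z0 * h⁻¹)⁻¹ = h * (z0 * Y * z0⁻¹) * h⁻¹ := by group
      _ = h * (Y * tG (mdAt m) (mcAt m)) * h⁻¹ := by rw [hz0]
      _ = h * Y * (tG (mdAt m) (mcAt m) * h⁻¹) := by group
      _ = h * Y * (h⁻¹ * tG (mdAt m) (mcAt m)) := by rw [CF.t_central h⁻¹]
      _ = _ := by group
  set A : G := ((ι (h * a * h⁻¹) : H) : G) with hA
  have hb : A * g * c.z * (A * g)⁻¹ = ((ι (h * (a * Y * a⁻¹) * h⁻¹) : H) : G) := by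
    rw [show A * g * c.z * (A * g)⁻¹ = A * w * A⁻¹ by rw [hwd]; group]
    refine congrArg Subtype.val (show ι (h * a * h⁻¹) * v' * (ι (h * a * h⁻¹))⁻¹ = _ from ?_)
    rw [← hh, ← map_inv, ← map_mul, ← map_mul]
    congr 1
    rw [hY]; group
  rw [hb]
  have hpq : w * ((ι (h * (a * Y * a⁻¹) * h⁻¹) : H) : G) = ((ι (h * (b * U0 * b⁻¹) * h⁻¹) : H) : G) := by
    refine congrArg Subtype.val (show v' * ι (h * (a * Y * a⁻¹) * h⁻¹) = _ from ?_)
    rw [← hh, ← map_mul, ← hprod]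
    congr 1
    rw [hY]; group
  obtain ⟨l, hl⟩ := hnrm (ι (h * b)) _ hu0
  have hl' : ((ι (h * (b * U0 * b⁻¹) * h⁻¹) : H) : G) = c.ι l := by
    refine (congrArg Subtype.val (show ι (h * (b * U0 * b⁻¹) * h⁻¹) = ψ l from ?_))
    rw [hl, ← map_inv, ← map_mul, ← map_mul]
    congr 1
  refine ⟨fun e => CF.u_ne ?_, ?_, l, hpq.trans hl', fun e => CF.u_ne_t ?_⟩
  · rw [e, h2] at hpq
    have h1 : h * (b * U0 * b⁻¹) * h⁻¹ = 1 :=
      R.inj (Subtype.ext (by rw [map_one]; exact hpq.symm))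
    rw [conj_eq_one_iff, conj_eq_one_iff] at h1
    exact h1
  · refine congrArg Subtype.val (show v' * ι (h * (a * Y * a⁻¹) * h⁻¹) = ι (h * (a * Y * a⁻¹) * h⁻¹) * v' from ?_)
    rw [← hh, ← map_mul, ← map_mul]
    congr 1
    calc h * Y * h⁻¹ * (h * (a * Y * a⁻¹) * h⁻¹) = h * (Y * (a * Y * a⁻¹)) * h⁻¹ := by group
      _ = h * (a * Y * a⁻¹ * Y) * h⁻¹ := by rw [hab]
      _ = _ := by group
  · rw [e] at hl'
    have h1 : h * (b * U0 * b⁻¹) * h⁻¹ = tG (mdAt m) (mcAt m) :=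
      R.inj (Subtype.ext (by rw [R.map_t]; exact hl'))
    calc U0 = (h * b)⁻¹ * (h * (b * U0 * b⁻¹) * h⁻¹) * (h * b) := by group
      _ = _ := by rw [h1, CF.t_central, inv_mul_cancel_right]

/-- Some conjugate of the central involution is inner and different from it. -/
theorem exists_inner [IsSimpleGroup G] (c : Ctx G s) : ∃ h : G, ∃ x : eL s, ∃ k ∈ c.K,
    h * c.z * h⁻¹ = c.ι x * k ∧ h * c.z * h⁻¹ ≠ c.z := by
  by_contra hall
  push Not at hall
  have hno : c.NoInner := fun g x k hk e => hall g x k hk e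
  -- the central involution is not isolated
  have hle : c.ι.range ≤ Subgroup.centralizer ({c.z} : Set G) := by
    rintro _ ⟨x, rfl⟩
    exact Subgroup.mem_centralizer_singleton_iff.2 (c.iota_comm_z x)
  haveI : Group.IsPerfect c.ι.range := c.std.1.1
  haveI := Group.IsPerfect.ofSurjective (f := (Subgroup.subgroupOfEquivOfLe hle).symm.toMonoidHom)
    (Subgroup.subgroupOfEquivOfLe hle).symm.surjective
  have hnt : Nontrivial (c.ι.range.subgroupOf (Subgroup.centralizer ({c.z} : Set G))) := by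
    refine ⟨⟨⟨⟨c.z, Subgroup.mem_centralizer_singleton_iff.2 rfl⟩, ⟨cL s ^ 2, rfl⟩⟩, 1, fun e => c.z_ne ?_⟩⟩
    exact congrArg (fun q : c.ι.range.subgroupOf (Subgroup.centralizer ({c.z} : Set G)) =>
      ((q : Subgroup.centralizer ({c.z} : Set G)) : G)) e
  have hiso := not_isolated_of_perfect c.orderOf_z
    (c.ι.range.subgroupOf (Subgroup.centralizer ({c.z} : Set G))) Group.IsPerfect.commutator_eq_top hnt
  obtain ⟨g, hw, hne⟩ : ∃ g : G, g * c.z * g⁻¹ * c.z = c.z * (g * c.z * g⁻¹) ∧ g * c.z * g⁻¹ ≠ c.z := by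
    by_contra hcon
    push Not at hcon
    exact hiso ⟨c.orderOf_z, fun g hg => hcon g hg.eq.symm⟩
  obtain ⟨-, b, hbne, hbc, l, hl, hlz⟩ := c.outer_conj hno g hw hne
  obtain ⟨⟨x, hx⟩, -⟩ := (c.conj g).outer_conj (noInner_conj hno g) (b * g⁻¹)
    (by rw [conj_z]
        rw [show b * g⁻¹ * (g * c.z * g⁻¹) * (b * g⁻¹)⁻¹ = b * c.z * b⁻¹ by group]
        exact hbc.symm)
    (by rw [conj_z, show b * g⁻¹ * (g * c.z * g⁻¹) * (b * g⁻¹)⁻¹ = b * c.z * b⁻¹ by group]; exact hbne)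
  rw [conj_z, show b * g⁻¹ * (g * c.z * g⁻¹) * (b * g⁻¹)⁻¹ = b * c.z * b⁻¹ by group, ← hbc, hl] at hx
  refine hlz ?_
  have h := hno (x * b) l 1 c.K.one_mem (by rw [mul_one, ← hx]; group)
  rw [← hx]
  exact (show x * (b * c.z * b⁻¹) * x⁻¹ = x * b * c.z * (x * b)⁻¹ by group).trans h

end Ctx

end CfsgLib.ONStd
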