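import Cfsg.Agent.Lib.ONStd.Outer3
import Cfsg.Agent.Lib.Transfer.Thompson

/-!
The normaliser of the copy induces only the types `0` and `3`.
-/

set_option autoImplicit false
set_option linter.style.haveILetI false
set_option linter.unusedSectionVars false
set_option maxRecDepth 8000

namespace CfsgLib.ONStd

open CfsgLib.ONUnique

universe u

variable {G : Type u} [Group G] [Finite G]

theorem orderOf_cc (c : Ctx G false) : orderOf c.cc = 4 := by
  rw [Ctx.cc, orderOf_injective c.ι c.inj, orderOf_cL]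

namespace Pair

variable {c d : Ctx G false} (p : Pair c d)

include p

/-- A Sylow subgroup of the normaliser is one of the group. -/
theorem sylow_top (S : Sylow 2 c.N) :
    ∃ P : Sylow 2 G, (P : Subgroup G) = (S : Subgroup c.N).map c.N.subtype := by
  haveI : Fact (Nat.Prime 2) := ⟨Nat.prime_two⟩
  set S' := (S : Subgroup c.N).map c.N.subtype with hS'
  obtain ⟨P, hP⟩ := (S.2.map c.N.subtype).exists_le_sylow
  refine ⟨P, le_antisymm ?_ hP⟩
  by_contra hnle
  have hmax : ∀ q ∈ (P : Subgroup G), q ∈ c.N → q ∈ S' := by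
    intro q hq hN
    have hp2 : IsPGroup 2 ((P : Subgroup G).subgroupOf c.N) := P.2.comap_of_injective _ c.N.subtype_injective
    have e := S.3 hp2 fun s hs => Subgroup.mem_subgroupOf.mpr (hP ⟨s, hs, rfl⟩)
    exact ⟨⟨q, hN⟩, e ▸ (Subgroup.mem_subgroupOf.mpr hq : (⟨q, hN⟩ : c.N) ∈ _), rfl⟩
  have hccN : c.cc ∈ c.N := c.iota_mem_N _
  have hzN : c.z ∈ c.N := c.iota_mem_N _
  have hccS : c.cc ∈ S' := by
    refine ⟨⟨c.cc, hccN⟩, ?_, rfl⟩
    haveI : (Subgroup.zpowers (⟨c.cc, hccN⟩ : c.N)).Normal := ⟨fun n hn m => by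
      obtain ⟨k, rfl⟩ := Subgroup.mem_zpowers_iff.mp hn
      have h1 : m * (⟨c.cc, hccN⟩ : c.N) * m⁻¹ ∈ Subgroup.zpowers (⟨c.cc, hccN⟩ : c.N) := by
        rcases c.cc_conj m.2 with h | h
        · rw [show m * (⟨c.cc, hccN⟩ : c.N) * m⁻¹ = ⟨c.cc, hccN⟩ from Subtype.ext h]
          exact Subgroup.mem_zpowers _
        · rw [show m * (⟨c.cc, hccN⟩ : c.N) * m⁻¹ = (⟨c.cc, hccN⟩ : c.N)⁻¹ from Subtype.ext h]
          exact inv_mem (Subgroup.mem_zpowers _)
      rw [← conj_zpow]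
      exact Subgroup.zpow_mem _ h1 k⟩
    exact (IsPGroup.of_card (p := 2) (n := 2) (show Nat.card (Subgroup.zpowers (⟨c.cc, hccN⟩ : c.N)) = 2 ^ 2 by
      rw [Nat.card_zpowers, ← Subgroup.orderOf_coe, orderOf_cc]; norm_num)).le_sylow_of_normal S
      (Subgroup.mem_zpowers _)
  have hzS : c.z ∈ S' := c.z_eq ▸ mul_mem hccS hccS
  haveI : Group.IsNilpotent (P : Subgroup G) := P.2.isNilpotent
  have hlt := Group.normalizerCondition_of_isNilpotent (G := (P : Subgroup G)) (S'.subgroupOf P)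
    (lt_top_iff_ne_top.mpr fun e => hnle (Subgroup.subgroupOf_eq_top.mp e))
  obtain ⟨q, hq, hq'⟩ := SetLike.exists_of_lt hlt
  have hqN : (q : G) ∉ c.N := fun h => hq' (hmax q q.2 h)
  set z' := (q : G) * c.z * (q : G)⁻¹ with hz'
  have hz'S : z' ∈ S' := (Subgroup.mem_normalizer_iff.mp hq ⟨c.z, hP hzS⟩).1 hzS
  have hz'N : z' ∈ c.N := by
    obtain ⟨n, -, e⟩ := hz'S
    rw [← e]
    exact n.2
  have hne : z' ≠ c.z := fun e => hqN (c.mem_N.mpr (mul_inv_eq_iff_eq_mul.mp e))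
  have hcen : ∀ s ∈ S', s * z' = z' * s := by
    intro s hs
    have hs' : (q : G)⁻¹ * s * q ∈ S' :=
      (Subgroup.mem_normalizer_iff''.mp hq ⟨s, hP hs⟩).1 hs
    obtain ⟨n, -, e⟩ := hs'
    have hsN : (q : G)⁻¹ * s * q ∈ c.N := e ▸ n.2
    calc s * z' = q * ((q : G)⁻¹ * s * q * c.z) * (q : G)⁻¹ := by rw [hz']; group
      _ = q * (c.z * ((q : G)⁻¹ * s * q)) * (q : G)⁻¹ := by rw [c.mem_N.mp hsN]
      _ = _ := by rw [hz']; group
  -- it is inner
  have h0 : c.tau z' = 0 := (c.tau_conj_z (g := (q : G)) (hcen _ hccS)).2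
  have h2 : z' * z' = 1 := by
    rw [hz', show (q : G) * c.z * (q : G)⁻¹ * (q * c.z * (q : G)⁻¹) = q * (c.z * c.z) * (q : G)⁻¹ by group, c.z_sq]
    group
  obtain ⟨x, hx⟩ := (p.inner_cases hz'N h0 h2 fun e => c.z_ne (by
    rw [hz'] at e; exact conj_eq_one_iff.1 e)).resolve_left hne
  -- a Sylow subgroup of the copy
  obtain ⟨Q⟩ : Nonempty (Sylow 2 (eL false)) := inferInstance
  let ι₁ : eL false →* c.N := c.ι.codRestrict c.N c.iota_mem_N
  obtain ⟨S₂, hS₂⟩ := (Q.2.map ι₁).exists_le_sylow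
  obtain ⟨n, hn⟩ := MulAction.exists_smul_eq c.N S₂ S
  have hQ : ∀ r ∈ (Q : Subgroup (eL false)), (n : G) * c.ι r * (n : G)⁻¹ ∈ S' := by
    intro r hr
    refine ⟨n * ι₁ r * n⁻¹, ?_, rfl⟩
    rw [← hn, Sylow.coe_subgroup_smul]
    exact ⟨ι₁ r, hS₂ ⟨r, hr, rfl⟩, rfl⟩
  -- all of it centralises a conjugate of the inner involution
  let f : ↥(Q : Subgroup (eL false)) → TT false := fun r => by
    refine ⟨((x⁻¹ * (⟨_, eL_normal false ((c.exists_act n.2).choose_spec.1) (r : eL false).2⟩ : eL false) * x : eL false) : PE false),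
      ⟨SetLike.coe_mem _, mem_cent_iff.2 ?_⟩⟩
    set b : eL false := ⟨_, eL_normal false ((c.exists_act n.2).choose_spec.1) (r : eL false).2⟩ with hb
    have hn' : c.ι b = (n : G) * c.ι (r : eL false) * (n : G)⁻¹ :=
      (c.acts_apply (c.exists_act n.2).choose_spec (r : eL false)).symm
    have h := hcen _ (hQ _ r.2)
    rw [← hn', hx, Ctx.u, ← map_inv, ← map_mul, ← map_mul, ← map_mul, ← map_mul] at h
    have h' := congrArg (fun w : eL false => x⁻¹ * w * x) (c.inj h)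
    have h'' : x⁻¹ * b * x * uL false = uL false * (x⁻¹ * b * x) := by
      calc x⁻¹ * b * x * uL false = x⁻¹ * (b * (x * uL false * x⁻¹)) * x := by group
        _ = x⁻¹ * (x * uL false * x⁻¹ * b) * x := h'
        _ = _ := by group
    exact congrArg Subtype.val h''
  have hf : Function.Injective f := fun a b e => by
    have e1 := congrArg (fun t : TT false => (t : PE false)) e
    simp only [f, Subgroup.coe_mul, Subgroup.coe_inv] at e1
    exact Subtype.ext (Subtype.ext (mul_left_cancel (mul_right_cancel (mul_left_cancel (mul_right_cancel e1)))))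
  have h256 : 2 ^ 8 ∣ Nat.card (Q : Subgroup (eL false)) :=
    Q.pow_dvd_card_of_pow_dvd_card (by rw [card_eL]; norm_num)
  have h128 := Nat.card_le_card_of_injective f hf
  rw [(card_cent false).2.1] at h128
  have := Nat.le_of_dvd Nat.card_pos h256
  omega

variable [IsSimpleGroup G]

/-- No element of the normaliser has the second type. -/
theorem no_two (hconj : ∃ g : G, g * c.z * g⁻¹ = c.u) {n : G} (hn : n ∈ c.N) : c.tau n ≠ 2 := by
  intro ht
  obtain ⟨y, hy, hC, ey⟩ := p.root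
  obtain ⟨hX, he2, hey, hee⟩ := typeFacts.e0 y hC
  set e0 := xE false e0I with he0
  -- an element acting as the given involution
  obtain ⟨f, hf⟩ := c.exists_act hn
  have hq : f⁻¹ * e0 ∈ eL false := by
    refine (typE_eq_zero false (mul_mem (inv_mem hf.1) hX.1)).1 ?_
    rw [typE_mul false (inv_mem hf.1) hX.1, typE_inv hf.1, ← c.tau_eq hf, ht, he2]
    rfl
  set n1 := n * c.ι ⟨_, hq⟩ with hn1
  have h1 : c.Acts n1 e0 := by
    have h := c.acts_mul hf (c.acts_iota ⟨_, hq⟩)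
    rwa [mul_inv_cancel_left] at h
  obtain ⟨e, m, hm, hord⟩ := Nat.exists_eq_two_pow_mul_odd (n := orderOf n1) (orderOf_pos n1).ne'
  set w := n1 ^ m with hwd
  have hA : c.Acts w e0 := by
    have h := c.acts_pow h1 m
    obtain ⟨j, rfl⟩ := hm
    rwa [pow_succ e0, pow_mul e0, pow_two e0, hee, one_pow, one_mul] at h
  have hwN := c.acts_mem_N hA
  have hwt : c.tau w = 2 := by rw [c.tau_eq hA, he2]
  have hwwK : w * w ∈ c.K := (c.acts_K_iff (c.acts_mul hA hA)).2 ⟨0, by norm_num, by rw [hee, pow_zero]⟩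
  have hww : w * w = 1 ∨ w * w = c.z := by
    obtain ⟨i, hi⟩ := p.K_two e hwwK (by
      rw [← pow_two, ← pow_mul, mul_comm, pow_mul, show w ^ 2 ^ e = 1 by
        rw [hwd, ← pow_mul, mul_comm m, ← hord, pow_orderOf_eq_one], one_pow])
    have hinv := c.cc_act hwN
    rw [hwt, if_pos (by decide)] at hinv
    have h4 : c.cc ^ (i + i) = 1 := by
      have h : w * c.cc ^ i * w⁻¹ = c.cc ^ i := by rw [← hi]; group
      rw [← conj_pow, hinv, inv_pow] at h
      rw [pow_add]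
      conv_lhs => arg 1; rw [← h]
      exact inv_mul_cancel _
    have hdvd := orderOf_dvd_of_pow_eq_one h4
    rw [orderOf_cc] at hdvd
    rcases (show i % 4 = 0 ∨ i % 4 = 2 by omega) with h | h <;> rw [hi, pow_eq_pow_mod i c.cc_four, h]
    · exact Or.inl (pow_zero _)
    · exact Or.inr (by rw [pow_two, c.z_eq])
  have hwu : w * c.u = c.u * w := (c.acts_comm_iff hA (uL false)).2 (mem_cent_iff.1 hX.2)
  have hwd' : w ∈ d.N := d.mem_N.2 (by rw [p.hd]; exact hwu)
  have hwz : w * c.z = c.z * w := c.mem_N.1 hwN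
  have hwy : w * d.cc ≠ d.cc * w := fun e => hey ((c.acts_comm_iff hA ⟨y, hy⟩).1 (by rw [← ey]; exact e))
  -- its type for the other copy
  have htd : d.tau w = 2 := by
    have hlt := d.tau_lt hwd'
    generalize hg : d.tau w = k at hlt ⊢
    interval_cases k
    · rcases p.tau_of_inner hwd' hg hwz with h | h <;> omega
    · exfalso
      have h := d.cc_act hwd'
      rw [hg, if_neg (by decide), mul_inv_eq_iff_eq_mul] at h
      exact hwy h
    · rfl
    · exfalso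
      obtain ⟨t, htT, -, ht3, -⟩ := p.symm.exists_three
      have htN : c.ι ⟨t, htT.1⟩ ∈ d.N := p.tt_mem_N htT
      have h0 : d.tau (w * c.ι ⟨t, htT.1⟩) = 0 := by rw [d.tau_mul hwd' htN, hg, ht3]; rfl
      have hc2 : c.tau (w * c.ι ⟨t, htT.1⟩) = 2 := by
        rw [c.tau_mul hwN (c.iota_mem_N _), hwt, c.tau_iota]; rfl
      rcases p.tau_of_inner (mul_mem hwd' htN) h0
        (c.mem_N.1 (mul_mem hwN (c.iota_mem_N _))) with h | h <;> omega
  have hw2 : w * w = 1 := by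
    refine hww.resolve_right fun hz => ?_
    obtain ⟨f', hf'⟩ := d.exists_act hwd'
    have hf'X : f' ∈ XX false := d.act_XX hf' (by rw [← p.hc]; exact hwz)
    obtain ⟨y2, hy2, hC2, ey2⟩ := p.symm.root
    have hne : f' * y2 ≠ y2 * f' := fun e => by
      have h := (d.acts_comm_iff hf' ⟨y2, hy2⟩).2 e
      rw [← ey2, ← mul_inv_eq_iff_eq_mul] at h
      have h' := c.cc_act hwN
      rw [hwt, if_pos (by decide), h] at h'
      exact c.z_ne (by rw [c.z_eq]; exact mul_eq_one_iff_eq_inv.2 h')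
    have hs := typeFacts.gsq y2 hC2 f' hf'X (by rw [← d.tau_eq hf', htd]) hne
    refine d.u_notMem_K ?_
    rw [← p.hc, ← hz]
    exact (d.acts_K_iff (d.acts_mul hf' hf')).2 hs
  -- it is no conjugate of the central one
  have hnz : ∀ g : G, g * c.z * g⁻¹ ≠ w := by
    intro g hg
    set d' := c.conj g with hd'
    have hz' : d'.z = w := by rw [hd', Ctx.conj_z, hg]
    obtain ⟨x1, hx1, x2, hx2, h1e, h2e, hx⟩ := typeFacts.wit
    have hmem : ∀ {x : PE false} (hx : x ∈ eL false), x * e0 = e0 * x → c.ι ⟨x, hx⟩ ∈ d'.N := fun {x} hx h =>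
      d'.mem_N.2 (by rw [hz']; exact ((c.acts_comm_iff hA ⟨x, hx⟩).2 h.symm).symm)
    have huN : c.u ∈ d'.N := d'.mem_N.2 (by rw [hz']; exact hwu.symm)
    have hN1 := hmem hx1 h1e
    have hN2 := hmem hx2 h2e
    have hu0 : d'.tau c.u = 0 := by
      have e : c.ι ⟨x1, hx1⟩ * c.ι ⟨x2, hx2⟩ = c.u * (c.ι ⟨x2, hx2⟩ * c.ι ⟨x1, hx1⟩) := by
        rw [Ctx.u, ← map_mul, ← map_mul, ← map_mul]
        exact congrArg c.ι (Subtype.ext hx)
      have h := congrArg d'.tau e
      rw [d'.tau_mul hN1 hN2, d'.tau_mul huN (mul_mem hN2 hN1), d'.tau_mul hN2 hN1] at h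
      generalize d'.tau (c.ι ⟨x1, hx1⟩) = a, d'.tau (c.ι ⟨x2, hx2⟩) = b, d'.tau c.u = k at h ⊢
      change a ^^^ b = k ^^^ (b ^^^ a) at h
      have h' := congrArg (fun q => q ^^^ (b ^^^ a)) h
      simp only [Nat.xor_assoc, Nat.xor_self, Nat.xor_zero] at h'
      rw [← h', ← Nat.xor_assoc b b, Nat.xor_self, Nat.zero_xor, Nat.xor_self]
    obtain ⟨x, k, hk, ex⟩ := d'.tau_zero huN hu0
    obtain ⟨x', k', hk', e'⟩ := d'.inner_symm d (x := x) hk (by rw [p.hd]; exact ex)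
    rw [hz'] at e'
    rw [e', d.tau_mul (d.iota_mem_N _) (d.K_le_N hk'), d.tau_iota, d.tau_K hk'] at htd
    exact absurd htd (by decide)
  -- transfer
  haveI : Fact (Nat.Prime 2) := ⟨Nat.prime_two⟩
  have hw1 : w ≠ 1 := fun e => by rw [e, c.tau_K c.K.one_mem] at hwt; exact absurd hwt (by decide)
  obtain ⟨S, hS⟩ := (IsPGroup.of_card (p := 2) (n := 1)
    (show Nat.card (Subgroup.zpowers (⟨w, hwN⟩ : c.N)) = 2 ^ 1 by
      rw [Nat.card_zpowers, ← Subgroup.orderOf_coe, pow_one]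
      exact orderOf_eq_prime (by rw [pow_two, hw2]) hw1)).exists_le_sylow
  obtain ⟨P, hP⟩ := p.sylow_top S
  have hPN : (P : Subgroup G) ≤ c.N := hP ▸ Subgroup.map_subtype_le _
  have hwP : w ∈ (P : Subgroup G) := by
    rw [hP]; exact ⟨⟨w, hwN⟩, hS (Subgroup.mem_zpowers _), rfl⟩
  let Q : Subgroup G :=
    { carrier := {g | g ∈ (P : Subgroup G) ∧ (c.tau g = 0 ∨ c.tau g = 3)}
      one_mem' := ⟨one_mem _, Or.inl (c.tau_K c.K.one_mem)⟩
      mul_mem' := fun {a b} ha hb => ⟨mul_mem ha.1 hb.1, by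
        rw [c.tau_mul (hPN ha.1) (hPN hb.1)]
        rcases ha.2 with h | h <;> rcases hb.2 with h' | h' <;> rw [h, h'] <;> decide⟩
      inv_mem' := fun {a} ha => ⟨inv_mem ha.1, by rw [c.tau_inv (hPN ha.1)]; exact ha.2⟩ }
  have hQi : Q.relIndex (P : Subgroup G) = 2 := by
    rw [Subgroup.relIndex, Subgroup.index_eq_two_iff]
    refine ⟨⟨w, hwP⟩, fun b => ?_⟩
    have hlt := c.tau_lt (hPN b.2)
    have hm := c.tau_mul (hPN b.2) hwN
    rw [hwt] at hm
    have key : ∀ k < 4, Xor (Nat.xor k 2 = 0 ∨ Nat.xor k 2 = 3) (k = 0 ∨ k = 3) := by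
      unfold Xor; decide
    rcases key _ hlt with ⟨h1, h2⟩ | ⟨h1, h2⟩
    · exact Or.inl ⟨⟨mul_mem b.2 hwP, show c.tau ((b : G) * w) = 0 ∨ c.tau ((b : G) * w) = 3 by rw [hm]; exact h1⟩,
        fun h => h2 h.2⟩
    · refine Or.inr ⟨⟨b.2, h1⟩, fun h => h2 ?_⟩
      have := h.2
      change c.tau ((b : G) * w) = 0 ∨ c.tau ((b : G) * w) = 3 at this
      rwa [hm] at this
  have hwQ : w ∉ Q := fun h => by rcases h.2 with h | h <;> omega
  rcases Transfer.thompson_transfer P hQi hw2 hwP hwQ with ⟨M, hMn, hMi, -⟩ | ⟨h, hhP, hhQ⟩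
  · rcases hMn.eq_bot_or_eq_top with e | e <;> rw [e] at hMi
    · rw [Subgroup.index_bot] at hMi
      have := Nat.le_of_dvd (by omega) (hMi ▸ Subgroup.card_dvd_of_injective c.ι c.inj)
      rw [card_eL] at this
      omega
    · rw [Subgroup.index_top] at hMi
      omega
  set v := h * w * h⁻¹ with hv
  have hv2 : v * v = 1 := by
    rw [hv, show h * w * h⁻¹ * (h * w * h⁻¹) = h * (w * w) * h⁻¹ by group, hw2, mul_one, mul_inv_cancel]
  have hv1 : v ≠ 1 := fun e => hw1 (conj_eq_one_iff.1 e)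
  obtain ⟨g, hg⟩ : ∃ g : G, g * c.z * g⁻¹ = v := by
    rcases hhQ.2 with h0 | h3
    · rcases p.inner_cases (hPN hhP) h0 hv2 hv1 with e | ⟨x, e⟩
      · exact ⟨1, by rw [one_mul, inv_one, mul_one, e]⟩
      · obtain ⟨g, hg⟩ := hconj
        exact ⟨c.ι x * g, by rw [e, ← hg]; group⟩
    · obtain ⟨m, -, hm⟩ := p.three_conj (hPN hhP) hv2 h3
      exact ⟨m⁻¹, by rw [← hm]; group⟩
  exact hnz (h⁻¹ * g) (by
    rw [show h⁻¹ * g * c.z * (h⁻¹ * g)⁻¹ = h⁻¹ * (g * c.z * g⁻¹) * h by group, hg, hv]; group)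

/-- The types in the normaliser. -/
theorem types (hconj : ∃ g : G, g * c.z * g⁻¹ = c.u) {n : G} (hn : n ∈ c.N) :
    c.tau n = 0 ∨ c.tau n = 3 := by
  obtain ⟨t, ht, -, h3, -⟩ := p.exists_three
  have hv := p.symm.tt_mem_N ht
  have h := p.no_two hconj (mul_mem hn hv)
  have h' := p.no_two hconj hn
  have hlt := c.tau_lt hn
  rw [c.tau_mul hn hv, h3] at h
  generalize c.tau n = k at h h' hlt ⊢
  interval_cases k
  · exact Or.inl rfl
  · exact absurd rfl h
  · exact absurd rfl h'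
  · exact Or.inr rfl

end Pair

end CfsgLib.ONStd
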