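import Cfsg.Agent.Lib.ONStd.StdData
import Cfsg.Agent.Lib.ONStd.ModelFacts

/-!
Outer involutions inverting the central generator centralise a conjugate of the inner involution,
and are conjugate to the central one.
-/

set_option autoImplicit false
set_option linter.style.haveILetI false
set_option linter.unusedSectionVars false
set_option maxRecDepth 8000

namespace CfsgLib.ONStd

open CfsgLib.ONUnique

universe u

variable {G : Type u} [Group G] [Finite G]

namespace Ctx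

variable (c : Ctx G false)

theorem perfect (c : Ctx G false) : commutator (eL false) = ⊤ := by
  haveI : Group.IsPerfect c.ι.range := c.std.1.1
  haveI := Group.IsPerfect.ofSurjective (f := (MonoidHom.ofInjective c.inj).symm.toMonoidHom)
    (MonoidHom.ofInjective c.inj).symm.surjective
  exact Group.IsPerfect.commutator_eq_top

/-- the copy extended by one element of its normaliser squaring to one -/
noncomputable def ext1 {v : G} (hv : v ∈ c.N) (h2 : v * v = 1) : Subgroup G where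
  carrier := {n | n ∈ c.ι.range ∨ n * v ∈ c.ι.range}
  one_mem' := Or.inl c.ι.range.one_mem
  mul_mem' := by
    have hc : ∀ {a : G}, a ∈ c.ι.range → v * a * v ∈ c.ι.range := by
      rintro _ ⟨x, rfl⟩
      obtain ⟨x', hx⟩ := c.conj_iota hv x
      exact ⟨x', by rw [← hx, inv_eq_of_mul_eq_one_right h2]⟩
    have hvv : ∀ a : G, a * v * v = a := fun a => by rw [mul_assoc, h2, mul_one]
    intro a b ha hb
    rcases ha with ha | ha <;> rcases hb with hb | hb
    · exact Or.inl (mul_mem ha hb)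
    · refine Or.inr ?_
      rw [mul_assoc]
      exact mul_mem ha hb
    · refine Or.inr ?_
      have h := mul_mem ha (hc hb)
      rwa [show a * v * (v * b * v) = a * (v * v) * b * v by group, h2, mul_one] at h
    · refine Or.inl ?_
      have h := mul_mem ha (hc hb)
      rwa [show a * v * (v * (b * v) * v) = a * (v * v) * b * (v * v) by group, h2, mul_one, mul_one] at h
  inv_mem' := by
    rintro a (ha | ha)
    · exact Or.inl (inv_mem ha)
    · refine Or.inr ?_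
      obtain ⟨x, hx⟩ := inv_mem ha
      obtain ⟨x', hx'⟩ := c.conj_iota hv x
      refine ⟨x', ?_⟩
      rw [← hx', hx, mul_inv_rev, mul_inv_cancel_left]
      rw [inv_eq_of_mul_eq_one_right h2]

end Ctx

namespace Pair

variable {c d : Ctx G false} (p : Pair c d)

include p

theorem cc_eq : ∃ y, ∃ hy : y ∈ eL false, Cand0 false y ∧ d.cc = c.ι ⟨y, hy⟩ := p.root

theorem act_mem_img {t : PE false} (ht : t ∈ TT false) {e : PE false} (he : c.Acts (d.ι ⟨t, ht.1⟩) e) :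
    e ∈ d.img c :=
  ⟨(t, e), ⟨ht, c.act_XX he (by rw [← p.hd]; exact d.iota_comm_z _), he⟩, rfl⟩

theorem img_tau {t : PE false} (ht : t ∈ TT false) :
    c.tau (d.ι ⟨t, ht.1⟩) = 0 ∨ c.tau (d.ι ⟨t, ht.1⟩) = 3 := by
  obtain ⟨y, hy, -, -, htyp, -⟩ := p.img_types
  obtain ⟨e, he⟩ := c.exists_act (p.symm.tt_mem_N ht)
  rw [c.tau_eq he]
  exact htyp e (p.act_mem_img ht he)

/-- An element inner for the other copy has type `0` or `3`. -/
theorem tau_of_inner {n : G} (hn : n ∈ d.N) (h0 : d.tau n = 0) (hz : n * c.z = c.z * n) :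
    c.tau n = 0 ∨ c.tau n = 3 := by
  obtain ⟨x, k, hk, e⟩ := d.tau_zero hn h0
  obtain ⟨i, r, hr, hor, rfl⟩ := p.symm.K_decomp hk
  have hx : d.ι x * d.u = d.u * d.ι x := by
    have hku : d.cc ^ i * r * d.u = d.u * (d.cc ^ i * r) := (d.mem_K.1 hk (uL false)).symm
    have h := hz
    rw [p.hc, e, mul_assoc, hku, ← mul_assoc, ← mul_assoc d.u] at h
    exact mul_right_cancel h
  have hxT : (x : PE false) ∈ TT false := ⟨x.2, mem_cent_iff.2 (by
    have h : x * uL false = uL false * x := d.inj (by rw [map_mul, map_mul]; exact hx)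
    exact congrArg Subtype.val h)⟩
  obtain ⟨y, hy, -, ey, -⟩ := p.img_types
  have hrK : r ∈ c.K := ((p.odd_iff).2 ⟨hr, hor⟩).1
  have hxN : d.ι x ∈ c.N := p.symm.tt_mem_N hxT
  have hccN : d.cc ∈ c.N := ey ▸ c.iota_mem_N _
  have h0' : c.tau (d.cc ^ i * r) = 0 := by
    rw [ey, ← map_pow, c.tau_mul (c.iota_mem_N _) (c.K_le_N hrK), c.tau_iota, c.tau_K hrK]
    rfl
  rw [e, c.tau_mul hxN (mul_mem (c.N.pow_mem hccN i) (c.K_le_N hrK)), h0']
  exact (p.img_tau hxT).imp (fun h => by show (c.tau _ ^^^ 0) = 0; rw [Nat.xor_zero]; exact h)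
    (fun h => by show (c.tau _ ^^^ 0) = 3; rw [Nat.xor_zero]; exact h)

/-- an involution of the other copy inverting the central generator -/
theorem exists_three : ∃ t, ∃ ht : t ∈ TT false, d.ι ⟨t, ht.1⟩ * d.ι ⟨t, ht.1⟩ = 1 ∧
    c.tau (d.ι ⟨t, ht.1⟩) = 3 ∧ ∃ m ∈ d.N, m * c.z * m⁻¹ = d.ι ⟨t, ht.1⟩ := by
  obtain ⟨y2, hy2, hC2, ey2⟩ := p.symm.root
  obtain ⟨t, ht, htt, hty⟩ := move_fact hC2
  have hvN := p.symm.tt_mem_N ht
  have h3 : c.tau (d.ι ⟨t, ht.1⟩) = 3 := by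
    rcases p.img_tau ht with h | h
    · exfalso
      have hc := c.cc_act hvN
      rw [h, if_neg (by decide), mul_inv_eq_iff_eq_mul, ey2, ← map_mul, ← map_mul] at hc
      exact hty (congrArg Subtype.val (d.inj hc))
    · exact h
  have h2 : d.ι ⟨t, ht.1⟩ * d.ι ⟨t, ht.1⟩ = 1 := by
    rw [← map_mul, show (⟨t, ht.1⟩ : eL false) * ⟨t, ht.1⟩ = 1 from Subtype.ext htt, map_one]
  refine ⟨t, ht, h2, h3, ?_⟩
  rcases p.symm.inner_cases (d.iota_mem_N _) (d.tau_iota _) h2 (fun e => by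
      rw [e, c.tau_K c.K.one_mem] at h3; exact absurd h3 (by decide)) with e | ⟨x, e⟩
  · rw [e, p.hd, Ctx.u, c.tau_iota] at h3
    · exact absurd h3 (by decide)
  · exact ⟨d.ι x, d.iota_mem_N x, by rw [e, p.hc]⟩

/-- An outer involution inverting the central generator is conjugate, by the odd part, to one of a fixed coset. -/
theorem coset_three {v : G} (hv : v ∈ c.N) (h2 : v * v = 1) (h3 : c.tau v = 3)
    {v0 : G} (hv0 : v0 ∈ c.N) (h02 : v0 * v0 = 1) (h03 : c.tau v0 = 3) :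
    ∃ s ∈ c.N, ∃ l : eL false, (v0 * c.ι l) * (v0 * c.ι l) = 1 ∧ v = s⁻¹ * (v0 * c.ι l) * s := by
  have ht : c.tau (v0 * v) = 0 := by rw [c.tau_mul hv0 hv, h03, h3]; rfl
  obtain ⟨x, k, hk, e⟩ := c.tau_zero (mul_mem hv0 hv) ht
  obtain ⟨i, r, hr, hor, rfl⟩ := p.K_decomp hk
  set l := x * cL false ^ i with hl
  set w := v0 * c.ι l with hw
  have hwN : w ∈ c.N := mul_mem hv0 (c.iota_mem_N _)
  have hvw : v = w * r := by
    calc v = v0 * (v0 * v) := by rw [← mul_assoc, h02, one_mul]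
      _ = w * r := by rw [e, hw, hl, map_mul, map_pow]; simp only [mul_assoc]; rfl
  set r' := w⁻¹ * r * w with hr'
  have hr'K : r' ∈ c.K ∧ Odd (orderOf r') := by
    refine ⟨?_, ?_⟩
    · have := c.conj_K (inv_mem hwN) hr
      rwa [inv_inv] at this
    · rw [hr', show w⁻¹ * r * w = MulAut.conj w⁻¹ r by simp, MulEquiv.orderOf_eq]; exact hor
  have hrr : w * w * (r' * r) = 1 := by rw [← h2, hvw, hr']; group
  obtain ⟨q, hq⟩ : ∃ q : eL false, w * w = c.ι q := by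
    obtain ⟨l', hl'⟩ := c.conj_iota hv0 l
    refine ⟨l' * l, ?_⟩
    rw [map_mul, ← hl', hw, inv_eq_of_mul_eq_one_right h02]
    group
  have hww : w * w = 1 := by
    have hm : w * w ∈ c.K ∧ Odd (orderOf (w * w)) := by
      rw [eq_inv_of_mul_eq_one_left hrr]
      exact ⟨inv_mem (mul_mem hr'K.1 hr), by rw [orderOf_inv]; exact p.odd_mul hr'K.1 hr'K.2 hr hor⟩
    obtain ⟨j, -, ej⟩ := (c.acts_K_iff (c.acts_iota q)).1 (hq ▸ hm.1)
    have h4 : (w * w) ^ (2 ^ 2) = 1 := by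
      rw [hq, ← map_pow, show q ^ (2 ^ 2) = 1 from Subtype.ext (by
        rw [SubgroupClass.coe_pow, ej, ← pow_mul, mul_comm, pow_mul, show (2:ℕ) ^ 2 = 4 from rfl, cE_four,
          one_pow]; rfl), map_one]
    exact orderOf_eq_one_iff.1 (Nat.eq_one_of_dvd_coprimes ((Nat.coprime_two_right.2 hm.2).pow_right 2)
      dvd_rfl (orderOf_dvd_of_pow_eq_one h4))
  obtain ⟨a, ha⟩ := hor
  set s := r ^ (a + 1) with hs
  have hinv : w * r * w⁻¹ = r⁻¹ := by
    refine eq_inv_of_mul_eq_one_left ?_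
    have : v * v = 1 := h2
    rw [hvw] at this
    rw [inv_eq_of_mul_eq_one_right hww]
    simpa [mul_assoc] using this
  have hss : s * s = r := by
    rw [hs, ← pow_add, show a + 1 + (a + 1) = 2 * a + 1 + 1 by ring, pow_succ, ← ha, pow_orderOf_eq_one, one_mul]
  refine ⟨s, c.K_le_N (pow_mem hr _), l, hww, ?_⟩
  have hws : w * s⁻¹ * w⁻¹ = s := by
    rw [hs, ← inv_pow, ← conj_pow, ← MulAut.conj_apply, map_inv, MulAut.conj_apply, hinv, inv_inv]
  calc v = w * r := hvw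
    _ = w * (s * s) := by rw [hss]
    _ = s⁻¹ * (w * s) := by
      have h' : s⁻¹ * w = w * s := by
        calc s⁻¹ * w = s⁻¹ * (w * s⁻¹ * w⁻¹) * w * s := by group
          _ = w * s := by rw [hws, inv_mul_cancel, one_mul]
      rw [← mul_assoc s⁻¹ w s, h', ← mul_assoc]
    _ = _ := (mul_assoc _ _ _).symm

/-- Such an involution centralises a conjugate of the inner one. -/
theorem three_comm_u {v : G} (hv : v ∈ c.N) (h2 : v * v = 1) (h3 : c.tau v = 3) :
    ∃ m ∈ c.N, m * v * m⁻¹ * c.u = c.u * (m * v * m⁻¹) := by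
  obtain ⟨t, ht, h02, h03, m0, -, hm0⟩ := p.exists_three
  set v0 := d.ι ⟨t, ht.1⟩ with hv0d
  have hv0 : v0 ∈ c.N := p.symm.tt_mem_N ht
  obtain ⟨s, hs, l, hw2, ev⟩ := p.coset_three hv h2 h3 hv0 h02 h03
  set w := v0 * c.ι l with hw
  set H := c.ext1 hv0 h02 with hH
  let ψ : eL false →* H := c.ι.codRestrict H fun x => Or.inl ⟨x, rfl⟩
  let v' : H := ⟨v0, Or.inr (by rw [h02]; exact c.ι.range.one_mem)⟩
  have hcz : ∀ n : H, n * ψ (cL false ^ 2) = ψ (cL false ^ 2) * n := fun n => by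
    refine Subtype.ext (c.mem_N.1 ?_)
    rcases n.2 with ⟨x, hx⟩ | ⟨x, hx⟩
    · rw [← hx]; exact c.iota_mem_N x
    · have : (n : G) = c.ι x * v0⁻¹ := by rw [hx, mul_inv_cancel_right]
      rw [this]; exact mul_mem (c.iota_mem_N x) (inv_mem hv0)
  have hrange : ∀ n : H, n ∈ ψ.range ↔ (n : G) ∈ c.ι.range := fun n =>
    ⟨fun ⟨x, hx⟩ => ⟨x, congrArg Subtype.val hx⟩, fun ⟨x, hx⟩ => ⟨x, Subtype.ext hx⟩⟩
  have htau : ∀ n : H, n ∈ ψ.range → c.tau (n : G) = 0 := fun n hn => by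
    obtain ⟨x, hx⟩ := (hrange n).1 hn
    rw [← hx, c.tau_iota]
  have hvi : v'⁻¹ = v' := inv_eq_of_mul_eq_one_right (Subtype.ext h02)
  have hcent : ∀ n : H, n ∈ ψ.range ∨ n * v'⁻¹ ∈ ψ.range := fun n => by
    rcases n.2 with h | h
    · exact Or.inl ((hrange n).2 h)
    · exact Or.inr (by rw [hvi]; exact (hrange _).2 h)
  have hHN : ∀ n : H, (n : G) ∈ c.N := fun n => c.mem_N.2 (congrArg Subtype.val (hcz n))
  have hout : v' ∉ ψ.range := fun h => by
    have := htau _ h; rw [show ((v' : H) : G) = v0 from rfl, h03] at this; exact absurd this (by decide)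
  have S : StdC ψ v' :=
    ⟨fun a b e => c.inj (congrArg Subtype.val e), c.perfect, fun x => by
        obtain ⟨x', hx'⟩ := c.conj_iota hv0 x
        exact ⟨x', Subtype.ext hx'.symm⟩,
      hout, hcz _, fun n _ => hcent n, fun n _ hn => by
        rcases hcent n with h | h
        · exact h
        · exfalso
          have hK : (n : G) ∈ c.K := c.mem_K.2 fun x => (congrArg Subtype.val (hn x)).symm
          have h0 := htau _ h
          rw [hvi, Subgroup.coe_mul, c.tau_mul (hHN n) hv0, c.tau_K hK,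
            h03] at h0
          exact absurd h0 (by decide)⟩
  classical
  letI : Fintype F4 := Fintype.ofFinite F4
  haveI := S.normal
  obtain ⟨e⟩ := S.quot
  obtain ⟨m, CF, ι, R⟩ := exists_model (ψ (cL false ^ 2)) S.order_t (StdC.M ψ) S.index S.hout S.zcyclic
    S.zcard S.perfect card_F4 e
  have hzc : ((ψ (cL false ^ 2) : H) : G) = c.z := rfl
  -- the inner involution is in the class of the inner involution of the model
  obtain ⟨y, hy, hC, ey⟩ := p.root
  have huH : ∀ x : (mdAt m).S.G, ((ι x : H) : G) ∈ c.N := fun x => hHN _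
  have hu0 : c.tau ((ι (uG (mdAt m) (mcAt m)) : H) : G) = 0 := by
    have hyy : (⟨y, hy⟩ : eL false) * ⟨y, hy⟩ = uL false := Subtype.ext (cand0_facts hC).2
    obtain ⟨x, hx, hcase⟩ := R.invol CF (w := ψ (uL false)) (hcz _)
      (by rw [← map_mul, show uL false * uL false = 1 from Subtype.ext (uE_sq false), map_one])
      (fun e => c.u_ne (congrArg Subtype.val e))
      (fun e => c.u_notMem_K (by rw [show c.u = c.z from congrArg Subtype.val e]; exact c.z_mem_K))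
    rcases hcase with ⟨h, hh⟩ | ⟨k, hk, h, hh⟩
    · have : c.tau ((ψ (uL false) : H) : G) = 0 := c.tau_iota _
      rw [← hx, ← hh, map_mul, map_mul, map_inv, Subgroup.coe_mul, Subgroup.coe_mul, Subgroup.coe_inv,
        c.tau_conj (huH _) (huH _)] at this
      exact this
    · exfalso
      obtain ⟨r, hr⟩ := R.exists_pre (g := ψ ⟨y, hy⟩) (hcz _)
      refine CF.y_half k hk (h⁻¹ * r * h) (R.inj ?_)
      rw [show h⁻¹ * r * h * (h⁻¹ * r * h) = h⁻¹ * (r * r) * h by group,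
        show yG (mdAt m) (mcAt m) k = h⁻¹ * (h * yG (mdAt m) (mcAt m) k * h⁻¹) * h by group, hh,
        map_mul, map_mul, map_mul, map_mul, map_mul, hr, ← map_mul, hyy, hx]
  -- outer involutions are outer in the model
  have key : ∀ n : H, n * n = 1 → c.tau (n : G) = 3 →
      ∃ k < (mcAt m).ys.length, ∃ h, ι (h * yG (mdAt m) (mcAt m) k * h⁻¹) = n := by
    intro n hn2 hn3
    obtain ⟨x, hx, hcase⟩ := R.invol CF (w := n) (hcz _) hn2
      (fun e => by rw [e, show ((1 : H) : G) = 1 from rfl, c.tau_K c.K.one_mem] at hn3; exact absurd hn3 (by decide))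
      (fun e => by rw [e, hzc, c.tau_K c.z_mem_K] at hn3; exact absurd hn3 (by decide))
    rcases hcase with ⟨h, hh⟩ | ⟨k, hk, h, hh⟩
    · exfalso
      rw [← hx, ← hh, map_mul, map_mul, map_inv, Subgroup.coe_mul, Subgroup.coe_mul, Subgroup.coe_inv,
        c.tau_conj (huH _) (huH _), hu0] at hn3
      exact absurd hn3 (by decide)
    · exact ⟨k, hk, h, by rw [hh, hx]⟩
  -- the central involution is no square in the centraliser of a conjugate
  have hnsq : (mcAt m).okSq (mdAt m) ≠ true := by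
    intro hsq
    obtain ⟨k, hk, h, hh⟩ := key v' (Subtype.ext h02) h03
    obtain ⟨r, hr1, hr2⟩ := sq_fact CF (MData.facts (mdAt_ok m)) hsq hk
    set R' : G := ((ι (h * r * h⁻¹) : H) : G) with hR'
    have hcom : R' * v0 = v0 * R' := by
      refine congrArg Subtype.val (show ι (h * r * h⁻¹) * v' = v' * ι (h * r * h⁻¹) from ?_)
      rw [← hh, ← map_mul, ← map_mul]
      congr 1
      calc h * r * h⁻¹ * (h * yG (mdAt m) (mcAt m) k * h⁻¹) = h * (r * yG (mdAt m) (mcAt m) k) * h⁻¹ := by group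
        _ = h * (yG (mdAt m) (mcAt m) k * r) * h⁻¹ := by rw [hr1]
        _ = _ := by group
    have hsqR : R' * R' = c.z := by
      rw [← hzc, ← R.map_t]
      refine congrArg Subtype.val (show ι (h * r * h⁻¹) * ι (h * r * h⁻¹) = ι (tG (mdAt m) (mcAt m)) from ?_)
      rw [← map_mul, show h * r * h⁻¹ * (h * r * h⁻¹) = h * (r * r) * h⁻¹ by group, hr2, CF.t_central,
        mul_inv_cancel_right]
    set d' := c.conj m0 with hd'
    have hz' : d'.z = v0 := by rw [hd', Ctx.conj_z, hm0]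
    obtain ⟨x', hx'⟩ := d'.sq_inner (n := R') (d'.mem_N.2 (by rw [hz']; exact hcom))
    rw [hsqR] at hx'
    obtain ⟨x'', k'', hk'', e''⟩ := d'.inner_symm c (x := x') hx' (mul_inv_cancel_left _ _).symm
    rw [← hz', e'', c.tau_mul (c.iota_mem_N _) (c.K_le_N hk''), c.tau_iota, c.tau_K hk''] at h03
    exact absurd h03 (by decide)
  have hpr : (mcAt m).okPr (mdAt m) = true := by
    by_cases hm : m = 4
    · subst hm; exact mc4_pr
    · exact ((mcAt_elim m hm).2).resolve_left hnsq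
  let w' : H := ⟨w, mul_mem v'.2 (ψ l).2⟩
  obtain ⟨k, hk, h, hh⟩ := key w' (Subtype.ext hw2) (by
    show c.tau w = 3
    rw [hw, c.tau_mul hv0 (c.iota_mem_N _), h03, c.tau_iota]; rfl)
  obtain ⟨a, b, hab, hprod⟩ := pr_fact CF (MData.facts (mdAt_ok m)) hpr hk
  set i : G := ((ι (h * b * uG (mdAt m) (mcAt m) * b⁻¹ * h⁻¹) : H) : G) with hi
  have hiw : w * i = i * w := by
    refine congrArg Subtype.val (show w' * ι (h * b * uG (mdAt m) (mcAt m) * b⁻¹ * h⁻¹) =
      ι (h * b * uG (mdAt m) (mcAt m) * b⁻¹ * h⁻¹) * w' from ?_)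
    rw [← hh, ← map_mul, ← map_mul]
    congr 1
    rw [show h * b * uG (mdAt m) (mcAt m) * b⁻¹ * h⁻¹ = h * (b * uG (mdAt m) (mcAt m) * b⁻¹) * h⁻¹ by group,
      ← hprod]
    set Y := yG (mdAt m) (mcAt m) k
    calc h * Y * h⁻¹ * (h * (Y * (a * Y * a⁻¹)) * h⁻¹) = h * (Y * (Y * (a * Y * a⁻¹))) * h⁻¹ := by group
      _ = h * (Y * (a * Y * a⁻¹ * Y)) * h⁻¹ := by rw [hab]
      _ = _ := by group
  have hiN : i ∈ c.N := huH _
  have hi0 : c.tau i = 0 := by
    rw [hi, show h * b * uG (mdAt m) (mcAt m) * b⁻¹ * h⁻¹ = (h * b) * uG (mdAt m) (mcAt m) * (h * b)⁻¹ by group,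
      map_mul, map_mul, map_inv, Subgroup.coe_mul, Subgroup.coe_mul, Subgroup.coe_inv,
      c.tau_conj (huH _) (huH _), hu0]
  set U0 := uG (mdAt m) (mcAt m)
  have hi2 : i * i = 1 := by
    refine congrArg Subtype.val (show ι _ * ι _ = 1 from ?_)
    rw [← map_mul, show h * b * U0 * b⁻¹ * h⁻¹ * (h * b * U0 * b⁻¹ * h⁻¹) = h * b * (U0 * U0) * b⁻¹ * h⁻¹ by group,
      CF.uu]
    simp
  have hine : ∀ j : (mdAt m).S.G, (∀ x, x * j = j * x) → i = ((ι j : H) : G) → U0 = j := by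
    intro j hj e
    have e' := R.inj (Subtype.ext e)
    calc U0 = (h * b)⁻¹ * (h * b * U0 * b⁻¹ * h⁻¹) * (h * b) := by group
      _ = j := by rw [e', mul_assoc, ← hj, inv_mul_cancel_left]
  rcases p.inner_cases hiN hi0 hi2 (fun e => CF.u_ne (hine 1 (fun x => by rw [mul_one, one_mul])
      (by rw [e, map_one]; rfl))) with e | ⟨x, e⟩
  · exact absurd (hine (tG (mdAt m) (mcAt m)) CF.t_central (by rw [e, R.map_t]; rfl)) CF.u_ne_t
  refine ⟨(c.ι x)⁻¹ * s, mul_mem (inv_mem (c.iota_mem_N x)) hs, ?_⟩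
  rw [show (c.ι x)⁻¹ * s * v * ((c.ι x)⁻¹ * s)⁻¹ = (c.ι x)⁻¹ * (s * v * s⁻¹) * c.ι x by group, ev,
    show s * (s⁻¹ * w * s) * s⁻¹ = w by group]
  calc (c.ι x)⁻¹ * w * c.ι x * c.u = (c.ι x)⁻¹ * (w * (c.ι x * c.u * (c.ι x)⁻¹)) * c.ι x := by group
    _ = (c.ι x)⁻¹ * (w * i) * c.ι x := by rw [← e]
    _ = (c.ι x)⁻¹ * (i * w) * c.ι x := by rw [hiw]
    _ = _ := by rw [e]; group

/-- Such an involution is conjugate to the central one. -/
theorem three_conj {v : G} (hv : v ∈ c.N) (h2 : v * v = 1) (h3 : c.tau v = 3) :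
    ∃ m ∈ c.N ⊔ d.N, m * v * m⁻¹ = c.z := by
  obtain ⟨m1, hm1, hcu⟩ := p.three_comm_u hv h2 h3
  obtain ⟨y, hy, hC, ey, -, himg⟩ := p.img_types
  set v1 := m1 * v * m1⁻¹ with hv1
  have hv1N : v1 ∈ c.N := mul_mem (mul_mem hm1 hv) (inv_mem hm1)
  have h12 : v1 * v1 = 1 := by
    rw [hv1, show m1 * v * m1⁻¹ * (m1 * v * m1⁻¹) = m1 * (v * v) * m1⁻¹ by group, h2, mul_one, mul_inv_cancel]
  obtain ⟨e, he⟩ := c.exists_act hv1N
  have heX := c.act_XX he hcu
  have he3 : typE false e = 3 := by rw [← c.tau_eq he, hv1, c.tau_conj hm1 hv, h3]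
  have hez : IsZ false (e * e) := (c.acts_K_iff (c.acts_mul he he)).1 (by rw [h12]; exact c.K.one_mem)
  -- one conjugate acting as the centraliser of the root
  obtain ⟨m2, hm2, e', he'X, he'3, he'y, he'⟩ : ∃ m2 ∈ c.N, ∃ e' ∈ XX false, typE false e' = 3 ∧
      e' * y = y * e' ∧ c.Acts (m2 * v1 * m2⁻¹) e' := by
    rcases typeFacts.fg y hC e heX he3 hez with h | ⟨w, hw, -, x', hx', hwx, hxy⟩
    · exact ⟨1, c.N.one_mem, e, heX, he3, h, by rwa [one_mul, inv_one, mul_one]⟩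
    · have hA : c.Acts ((c.ι ⟨w, hw⟩)⁻¹ * v1 * (c.ι ⟨w, hw⟩)⁻¹⁻¹) x' := by
        have h := c.acts_mul (c.acts_mul (c.acts_inv (c.acts_iota ⟨w, hw⟩)) he)
          (c.acts_inv (c.acts_inv (c.acts_iota ⟨w, hw⟩)))
        rwa [show w⁻¹ * e * w⁻¹⁻¹ = x' by rw [mul_assoc, inv_inv, ← hwx, inv_mul_cancel_left]] at h
      refine ⟨(c.ι ⟨w, hw⟩)⁻¹, inv_mem (c.iota_mem_N _), x', hx', ?_, hxy, hA⟩
      rw [← c.tau_eq hA, c.tau_conj (inv_mem (c.iota_mem_N _)) hv1N, c.tau_eq he, he3]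
  set v2 := m2 * v1 * m2⁻¹ with hv2
  have hv2N : v2 ∈ c.N := mul_mem (mul_mem hm2 hv1N) (inv_mem hm2)
  have h22 : v2 * v2 = 1 := by
    rw [hv2, show m2 * v1 * m2⁻¹ * (m2 * v1 * m2⁻¹) = m2 * (v1 * v1) * m2⁻¹ by group, h12, mul_one, mul_inv_cancel]
  obtain ⟨⟨t, e''⟩, ⟨ht, -, hA'⟩, e0⟩ := himg e' he'X he'y (Or.inr he'3)
  change e'' = e' at e0
  subst e0
  set k := (d.ι ⟨t, ht.1⟩)⁻¹ * v2 with hk
  have hkK : k ∈ c.K := (c.acts_K_iff (c.acts_mul (c.acts_inv hA') he')).2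
    ⟨0, by norm_num, by rw [pow_zero]; exact inv_mul_cancel _⟩
  obtain ⟨i, r, hr, hor, er⟩ := p.K_decomp hkK
  obtain ⟨y2, hy2, -, ey2⟩ := p.symm.root
  have hrd : r ∈ d.K := ((p.odd_iff).1 ⟨hr, hor⟩).1
  have ev2 : v2 = d.ι (⟨t, ht.1⟩ * ⟨y2, hy2⟩ ^ i) * r := by
    rw [map_mul, map_pow, ← ey2, mul_assoc, ← er, hk, mul_inv_cancel_left]
  obtain ⟨q, hq⟩ := p.symm.inner_invol hrd ev2 h22
  have h23 : c.tau v2 = 3 := by rw [c.tau_eq he', he'3]
  rcases p.symm.inner_cases (v := v2) (hq ▸ d.iota_mem_N q) (by rw [hq, d.tau_iota]) h22 (fun e => by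
      rw [e, c.tau_K c.K.one_mem] at h23; exact absurd h23 (by decide)) with e | ⟨x, ex⟩
  · rw [e, p.hd, Ctx.u, c.tau_iota] at h23
    exact absurd h23 (by decide)
  refine ⟨(d.ι x)⁻¹ * m2 * m1, mul_mem (mul_mem (Subgroup.mem_sup_right (inv_mem (d.iota_mem_N x)))
    (Subgroup.mem_sup_left hm2)) (Subgroup.mem_sup_left hm1), ?_⟩
  calc (d.ι x)⁻¹ * m2 * m1 * v * ((d.ι x)⁻¹ * m2 * m1)⁻¹
      = (d.ι x)⁻¹ * v2 * d.ι x := by rw [hv2, hv1]; group
    _ = c.z := by rw [ex, p.hc]; group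

end Pair

end CfsgLib.ONStd
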