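import Cfsg.Agent.Lib.ONStd.Base

/-!
Two copies whose central involutions lie in each other.
-/

set_option autoImplicit false
set_option linter.style.haveILetI false
set_option maxRecDepth 8000

namespace CfsgLib.ONStd

open CfsgLib.ONUnique

universe u

variable {s : Bool}

theorem mem_cent_iff {x : PE s} : x ∈ Subgroup.centralizer {uE s} ↔ x * uE s = uE s * x :=
  Subgroup.mem_centralizer_singleton_iff

theorem conj_cE_cases {e : PE s} (he : e ∈ (eS s).G) :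
    e * cE s * e⁻¹ = cE s ∨ e * cE s * e⁻¹ = cE s ^ 3 := by
  obtain ⟨l, hl, el⟩ := isZ_of_central s (eL_le s (eL_normal s he (cE_mem s))) fun y hy => by
    have hy' : e⁻¹ * y * e ∈ eL s := by
      have := eL_normal s (inv_mem he) hy
      rwa [inv_inv] at this
    calc e * cE s * e⁻¹ * y = e * (cE s * (e⁻¹ * y * e)) * e⁻¹ := by group
      _ = e * ((e⁻¹ * y * e) * cE s) * e⁻¹ := by rw [cE_comm s hy']
      _ = _ := by group
  have h2 : cE s ^ (l + l) = cE s ^ 2 := by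
    rw [← conj_cE he, pow_add, ← el, pow_two]; group
  interval_cases l
  · exact absurd h2.symm (by simpa using cE_pow_ne s (l := 2) (by norm_num) (by norm_num))
  · exact Or.inl (el.trans (pow_one _))
  · rw [cE_four] at h2
    exact absurd h2.symm (cE_pow_ne s (by norm_num) (by norm_num))
  · exact Or.inr el

theorem xor_self_zero (a : ℕ) : Nat.xor a a = 0 := Nat.xor_self a

theorem sq_mem_eL {e : PE s} (he : e ∈ (eS s).G) : e * e ∈ eL s :=
  (typE_eq_zero s (mul_mem he he)).1 (by rw [typE_mul s he he]; exact xor_self_zero _)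

/-- The inner involution is conjugate to its product with the central one. -/
theorem uE_conj : ∃ w ∈ eL s, w * uE s * w⁻¹ = uE s * cE s ^ 2 := by
  have h : (eS s).fullEq ([4] ++ uWd) (uWd ++ cWd 2 ++ [4]) = true := by cases s <;> decide +kernel
  have h4 : ∀ g ∈ [4], g < 18 := by simp
  have hlu : (eS s).letOK uWd = true := letOK18 s (by simp [uWd])
  have hl4 : (eS s).letOK [4] = true := letOK18 s h4
  have e := Sys.fullEq_spec (sysFacts s).sok (Sys.letOK_append.2 ⟨hl4, hlu⟩)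
    (Sys.letOK_append.2 ⟨Sys.letOK_append.2 ⟨hlu, letOK18 s (zX_small 0 2)⟩, hl4⟩) h
  rw [Sys.ev_append, Sys.ev_append, Sys.ev_append] at e
  refine ⟨(eS s).ev [4], ⟨⟨sysU.ev [4], ev_mem_U h4⟩, rhoE_word s h4⟩, ?_⟩
  rw [mul_inv_eq_iff_eq_mul, cE_pow]
  exact e

namespace Ctx

variable {G : Type u} [Group G]

/-- no involution centralises both copies -/
def Link (c d : Ctx G s) : Prop := ∀ v, v ∈ c.K → v ∈ d.K → v * v = 1 → v = 1

theorem link_symm {c d : Ctx G s} (h : Link c d) : Link d c := fun v hd hc h2 => h v hc hd h2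

variable [Finite G]

theorem cc_conj (c : Ctx G s) {n : G} (hn : n ∈ c.N) : n * c.cc * n⁻¹ = c.cc ∨ n * c.cc * n⁻¹ = c.cc⁻¹ := by
  obtain ⟨e, he⟩ := c.exists_act hn
  rcases conj_cE_cases he.1 with h | h
  · exact Or.inl (he.2 (cL s) (cL s) h)
  · refine Or.inr ((he.2 (cL s) (cL s ^ 3) (by rw [cL_pow]; exact h)).trans ?_)
    rw [map_pow]
    exact eq_inv_of_mul_eq_one_left (by rw [show c.ι (cL s) = c.cc from rfl, ← pow_succ, c.cc_four])

/-- A square in the normaliser lies in the copy times its centraliser. -/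
theorem sq_inner (c : Ctx G s) {n : G} (hn : n ∈ c.N) :
    ∃ x : eL s, (c.ι x)⁻¹ * (n * n) ∈ c.K := by
  obtain ⟨e, he⟩ := c.exists_act hn
  refine ⟨⟨e * e, sq_mem_eL he.1⟩, ?_⟩
  refine (c.acts_K_iff (c.acts_mul (c.acts_inv (c.acts_iota _)) (c.acts_mul he he))).2 ?_
  exact ⟨0, by norm_num, by rw [pow_zero]; exact inv_mul_cancel _⟩

/-- The relation between the copies is symmetric. -/
theorem inner_symm (c d : Ctx G s) {x : eL s} {k : G} (hk : k ∈ c.K) (e : d.z = c.ι x * k) :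
    ∃ x' : eL s, ∃ k' ∈ d.K, c.z = d.ι x' * k' := by
  have hn : c.cc ∈ d.N := d.mem_N.2 (by
    rw [e]
    calc c.cc * (c.ι x * k) = (c.cc * c.ι x) * k := by group
      _ = c.ι x * (c.cc * k) := by rw [← c.mem_K.1 c.cc_mem_K x]; group
      _ = c.ι x * (k * c.cc) := by rw [show c.cc * k = k * c.cc from c.mem_K.1 hk (cL s)]
      _ = _ := by group)
  obtain ⟨x', hx'⟩ := d.sq_inner hn
  exact ⟨x', _, hx', by rw [mul_inv_cancel_left, c.z_eq]⟩

/-- The central involution of a linked copy is in the copy up to a conjugate of the inner one. -/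
theorem normal_form (c d : Ctx G s) (hl : Link c d) {x : eL s} {k : G} (hk : k ∈ c.K)
    (e : d.z = c.ι x * k) : ∃ v : eL s, ∃ l : ℕ, (c.ι v)⁻¹ * d.z * c.ι v = c.u * (c.cc ^ l * k) ∧
      (x : PE s) = v * (uE s * cE s ^ l) * (v : PE s)⁻¹ := by
  have hxx : IsZ s ((x : PE s) * x) := by
    refine isZ_of_center (x := x * x) fun y => c.inj ?_
    have h : c.ι (x * x) * (k * k) = 1 := by
      rw [← d.z_sq, e, map_mul]
      calc c.ι x * c.ι x * (k * k) = c.ι x * (c.ι x * k) * k := by group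
        _ = c.ι x * (k * c.ι x) * k := by rw [c.mem_K.1 hk]
        _ = _ := by group
    have hK : c.ι (x * x) ∈ c.K := by
      rw [eq_inv_of_mul_eq_one_left h]; exact inv_mem (mul_mem hk hk)
    rw [map_mul c.ι (x * x), map_mul c.ι y, c.mem_K.1 hK y]
  have hxZ : ¬ IsZ s (x : PE s) := fun hz => d.z_ne (hl d.z (by
    rw [e]
    exact mul_mem ((c.acts_K_iff (c.acts_iota x)).2 hz) hk) d.z_mem_K d.z_sq)
  obtain ⟨v, hv, l, -, ev⟩ := (lstFacts s).classes x x.2 hxx hxZ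
  refine ⟨⟨v, hv⟩, l, ?_, ev⟩
  have hx : x = ⟨v, hv⟩ * (uL s * cL s ^ l) * (⟨v, hv⟩ : eL s)⁻¹ := Subtype.ext (by
    simp only [Subgroup.coe_mul, Subgroup.coe_inv, cL_pow]; exact ev)
  rw [e, hx]
  simp only [map_mul, map_inv, map_pow]
  calc (c.ι ⟨v, hv⟩)⁻¹ * (c.ι ⟨v, hv⟩ * (c.ι (uL s) * c.ι (cL s) ^ l) * (c.ι ⟨v, hv⟩)⁻¹ * k) * c.ι ⟨v, hv⟩
      = c.ι (uL s) * c.ι (cL s) ^ l * ((c.ι ⟨v, hv⟩)⁻¹ * (k * c.ι ⟨v, hv⟩)) := by group
    _ = c.ι (uL s) * c.ι (cL s) ^ l * ((c.ι ⟨v, hv⟩)⁻¹ * (c.ι ⟨v, hv⟩ * k)) := by rw [c.mem_K.1 hk]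
    _ = _ := by rw [inv_mul_cancel_left, mul_assoc]; rfl

theorem link_conj (c d : Ctx G s) (hl : Link c d) {a : G} (ha : a ∈ c.N) : Link c (d.conj a) := by
  intro v hc hd h2
  have hv : a⁻¹ * v * a ∈ c.K := by
    have := c.conj_K (c.N.inv_mem ha) hc
    rwa [inv_inv] at this
  have hv' : a⁻¹ * v * a ∈ d.K := d.mem_K.2 fun x => by
    have := (d.conj a).mem_K.1 hd x
    rw [d.conj_iota_apply] at this
    calc d.ι x * (a⁻¹ * v * a) = a⁻¹ * ((a * d.ι x * a⁻¹) * v) * a := by group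
      _ = a⁻¹ * (v * (a * d.ι x * a⁻¹)) * a := by rw [this]
      _ = _ := by group
  have := hl _ hv hv' (by rw [show a⁻¹ * v * a * (a⁻¹ * v * a) = a⁻¹ * (v * v) * a by group, h2]; group)
  calc v = a * (a⁻¹ * v * a) * a⁻¹ := by group
    _ = 1 := by rw [this]; group

/-- A conjugate copy is linked. -/
theorem link_of_conj (c : Ctx G s) {h : G} (hne : h * c.z * h⁻¹ ≠ c.z) : Link c (c.conj h) := by
  intro v hc hd h2
  by_contra h1
  have ho : orderOf v = 2 := orderOf_eq_prime (by rw [pow_two, h2]) h1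
  have hv : h⁻¹ * v * h ∈ c.K := c.mem_K.2 fun x => by
    have := (c.conj h).mem_K.1 hd x
    rw [c.conj_iota_apply] at this
    calc c.ι x * (h⁻¹ * v * h) = h⁻¹ * ((h * c.ι x * h⁻¹) * v) * h := by group
      _ = h⁻¹ * (v * (h * c.ι x * h⁻¹)) * h := by rw [this]
      _ = _ := by group
  have hN := c.mem_N_of_conj hv (h := h) (by
    rw [show h⁻¹ * v * h = MulAut.conj h⁻¹ v by simp, MulEquiv.orderOf_eq, ho]) (by
    rwa [show h * (h⁻¹ * v * h) * h⁻¹ = v by group])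
  exact hne (by rw [c.mem_N.1 hN, mul_inv_cancel_right])

omit [Finite G] in
theorem conj_K_mem (d : Ctx G s) {a v : G} (hv : v ∈ d.K) : a * v * a⁻¹ ∈ (d.conj a).K :=
  (d.conj a).mem_K.2 fun x => by
    rw [d.conj_iota_apply]
    calc a * d.ι x * a⁻¹ * (a * v * a⁻¹) = a * (d.ι x * v) * a⁻¹ := by group
      _ = a * (v * d.ι x) * a⁻¹ := by rw [d.mem_K.1 hv]
      _ = _ := by group

/-- The central involution of a linked copy, once inner, lies in the copy. -/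
theorem mem_copy (c d : Ctx G s) (hl : Link c d) {x : eL s} {k : G} (hk : k ∈ c.K)
    (e : d.z = c.ι x * k) : ∃ y : eL s, d.z = c.ι y := by
  obtain ⟨v, l, hv, -⟩ := c.normal_form d hl hk e
  set a := (c.ι v)⁻¹ with ha
  set d' := d.conj a with hd'
  have hdz : d'.z = c.u * (c.cc ^ l * k) := by
    rw [hd', d.conj_z, ← hv, ha, inv_inv]
  set k0 := c.cc ^ l * k
  have hk0 : k0 ∈ c.K := mul_mem (pow_mem c.cc_mem_K l) hk
  suffices h : ∃ w : eL s, d'.z = c.ι w by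
    obtain ⟨w, hw⟩ := h
    refine ⟨v * w * v⁻¹, ?_⟩
    rw [map_mul, map_mul, map_inv, ← hw, hd', d.conj_z, ha]
    group
  obtain ⟨x', k', hk', ez⟩ := c.inner_symm d' hk0 (x := uL s) hdz
  -- the central element of the other copy acts on this one
  have hc' : d'.cc ∈ c.N := c.mem_N.2 (by
    rw [ez]
    calc d'.cc * (d'.ι x' * k') = (d'.cc * d'.ι x') * k' := by group
      _ = d'.ι x' * (d'.cc * k') := by rw [← d'.mem_K.1 d'.cc_mem_K x']; group
      _ = d'.ι x' * (k' * d'.cc) := by rw [show d'.cc * k' = k' * d'.cc from d'.mem_K.1 hk' (cL s)]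
      _ = _ := by group)
  obtain ⟨f, hf⟩ := c.exists_act hc'
  have hf2 : ∃ z, IsZ s z ∧ f * f * z = uE s := by
    have h1 : c.Acts d'.z (f * f) := d'.z_eq ▸ c.acts_mul hf hf
    have h2 : c.Acts d'.z (uE s) := by
      rw [hdz, show uE s = uE s * 1 from (mul_one _).symm]
      exact c.acts_mul (c.acts_iota (uL s)) (c.acts_K hk0)
    exact ⟨_, c.acts_unique h1 h2, mul_inv_cancel_left _ _⟩
  by_cases hall : ∀ t ∈ TT s, f * t = t * f
  · exfalso
    have hfu : f * uE s = uE s * f := hall _ ⟨uE_mem s, mem_cent_iff.2 rfl⟩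
    have hfX : f ∈ XX s := ⟨hf.1, mem_cent_iff.2 hfu⟩
    have hfc : f * cE s = cE s * f :=
      hall _ ⟨cE_mem s, mem_cent_iff.2 (cE_comm s (uE_mem s))⟩
    obtain ⟨z, hz, hsq⟩ := hf2
    have hC := two_fact hfX hz hsq hfc fun t ht => Or.inl (hall t ht)
    cases s
    · obtain ⟨t, ht, hne⟩ := typeFacts.nc f hC
      exact hne (hall t ht)
    · exact cand_true f hC
  push Not at hall
  obtain ⟨t, ht, hne⟩ := hall
  have htN : c.ι ⟨t, ht.1⟩ ∈ d'.N := d'.mem_N.2 (by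
    rw [hdz]
    calc c.ι ⟨t, ht.1⟩ * (c.u * k0) = (c.ι ⟨t, ht.1⟩ * c.u) * k0 := by group
      _ = (c.u * c.ι ⟨t, ht.1⟩) * k0 := by
        rw [u, ← map_mul, ← map_mul]
        exact congrArg (fun w => c.ι w * k0) (Subtype.ext (mem_cent_iff.1 ht.2))
      _ = c.u * (k0 * c.ι ⟨t, ht.1⟩) := by rw [← c.mem_K.1 hk0]; group
      _ = _ := by group)
  rcases d'.cc_conj htN with h | h
  · exact absurd ((c.acts_comm_iff hf ⟨t, ht.1⟩).1 (mul_inv_eq_iff_eq_mul.1 h).symm) hne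
  · have happ := c.acts_apply hf ⟨t, ht.1⟩
    refine ⟨⟨_, eL_normal s hf.1 ht.1⟩ * (⟨t, ht.1⟩ : eL s)⁻¹, ?_⟩
    rw [map_mul, map_inv, ← happ, d'.z_eq]
    calc d'.cc * d'.cc = d'.cc * (d'.cc⁻¹)⁻¹ := by rw [inv_inv]
      _ = d'.cc * (c.ι ⟨t, ht.1⟩ * d'.cc * (c.ι ⟨t, ht.1⟩)⁻¹)⁻¹ := by rw [h]
      _ = _ := by group

/-- The copy can be moved so that the other central involution is the inner one. -/
theorem exists_move (c d : Ctx G s) (hl : Link c d) {x : eL s} (e : d.z = c.ι x) :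
    ∃ v : eL s, (c.ι v)⁻¹ * d.z * c.ι v = c.u := by
  obtain ⟨v, l, hv, ev⟩ := c.normal_form d hl c.K.one_mem (x := x) (by rw [mul_one, e])
  rw [mul_one] at hv
  set w := (c.ι v)⁻¹ * d.z * c.ι v with hw
  have hw2 : w * w = 1 := by
    rw [hw, show (c.ι v)⁻¹ * d.z * c.ι v * ((c.ι v)⁻¹ * d.z * c.ι v) = (c.ι v)⁻¹ * (d.z * d.z) * c.ι v by group,
      d.z_sq]
    group
  have h2 : c.cc ^ (l + l) = 1 := by
    have hcu : c.cc ^ l * c.u = c.u * c.cc ^ l := (c.mem_K.1 (pow_mem c.cc_mem_K l) (uL s)).symm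
    calc c.cc ^ (l + l) = c.u * c.u * (c.cc ^ l * c.cc ^ l) := by rw [c.u_sq, one_mul, pow_add]
      _ = c.u * (c.u * c.cc ^ l) * c.cc ^ l := by group
      _ = c.u * (c.cc ^ l * c.u) * c.cc ^ l := by rw [hcu]
      _ = (c.u * c.cc ^ l) * (c.u * c.cc ^ l) := by group
      _ = 1 := by rw [← hv, hw2]
  have h4 : c.cc ^ l = c.cc ^ (l % 4) := pow_eq_pow_mod l c.cc_four
  rw [pow_eq_pow_mod (l + l) c.cc_four] at h2
  rcases (show l % 4 = 0 ∨ l % 4 = 2 ∨ (l + l) % 4 = 2 by omega) with h | h | h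
  · exact ⟨v, hv.trans (by rw [h4, h, pow_zero, mul_one])⟩
  · obtain ⟨q, hq, eq'⟩ := uE_conj (s := s)
    refine ⟨v * ⟨q, hq⟩, ?_⟩
    have e2 : c.ι ⟨q, hq⟩ * c.u * (c.ι ⟨q, hq⟩)⁻¹ = c.u * c.cc ^ l := by
      rw [h4, h, u, cc, ← map_pow, ← map_mul, ← map_inv, ← map_mul, ← map_mul]
      exact congrArg c.ι (Subtype.ext (by simp only [Subgroup.coe_mul, cL_pow, InvMemClass.coe_inv]; exact eq'))
    calc (c.ι (v * ⟨q, hq⟩))⁻¹ * d.z * c.ι (v * ⟨q, hq⟩)
        = (c.ι ⟨q, hq⟩)⁻¹ * w * c.ι ⟨q, hq⟩ := by rw [map_mul, hw]; group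
      _ = c.u := by rw [hv, ← e2]; group
  · rw [h, pow_two, ← c.z_eq] at h2
    exact absurd h2 c.z_ne

end Ctx

/-- normalised copies -/
structure Pair {G : Type u} [Group G] (c d : Ctx G s) : Prop where
  hd : d.z = c.u
  hc : c.z = d.u
  link : Ctx.Link c d

theorem Pair.symm {G : Type u} [Group G] {c d : Ctx G s} (p : Pair c d) : Pair d c :=
  ⟨p.hc, p.hd, Ctx.link_symm p.link⟩

/-- An inner linked copy can be normalised. -/
theorem exists_pair {G : Type u} [Group G] [Finite G] (c d : Ctx G s) (hl : Ctx.Link c d) {x : eL s} {k : G}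
    (hk : k ∈ c.K) (e : d.z = c.ι x * k) : ∃ a : G, Pair c (d.conj a) := by
  obtain ⟨y, hy⟩ := c.mem_copy d hl hk e
  obtain ⟨v, hv⟩ := c.exists_move d hl hy
  set d1 := d.conj (c.ι v)⁻¹ with hd1
  have hz1 : d1.z = c.u := by rw [hd1, d.conj_z, inv_inv, hv]
  have hl1 : Ctx.Link c d1 := c.link_conj d hl (c.N.inv_mem (c.iota_mem_N v))
  obtain ⟨x', k', hk', e'⟩ := c.inner_symm d1 c.K.one_mem (x := uL s) (by rw [mul_one]; exact hz1)
  obtain ⟨y', hy'⟩ := d1.mem_copy c (Ctx.link_symm hl1) hk' e'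
  obtain ⟨w, hw⟩ := d1.exists_move c (Ctx.link_symm hl1) hy'
  refine ⟨d1.ι w * (c.ι v)⁻¹, ?_, ?_, ?_⟩
  · rw [d.conj_z, ← hz1, hd1, d.conj_z]
    have := d1.iota_comm_z w
    rw [hd1, d.conj_z] at this
    calc _ = (d.conj (c.ι v)⁻¹).ι w * ((c.ι v)⁻¹ * d.z * (c.ι v)⁻¹⁻¹) *
          ((d.conj (c.ι v)⁻¹).ι w)⁻¹ := by group
      _ = _ := by rw [this, mul_inv_cancel_right]
  · rw [d.conj_u]
    have e1 : d1.u = (c.ι v)⁻¹ * d.u * (c.ι v)⁻¹⁻¹ := rfl
    calc c.z = d1.ι w * d1.u * (d1.ι w)⁻¹ := by rw [← hw]; group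
      _ = _ := by rw [e1]; group
  · intro q hq hq' h2
    refine hl1 q hq ?_ h2
    have hwN : (d1.ι w)⁻¹ ∈ d1.N := d1.N.inv_mem (d1.iota_mem_N w)
    have hmem : q ∈ (d1.conj (d1.ι w)).K := (d1.conj (d1.ι w)).mem_K.2 fun x => by
      have := (d.conj (d1.ι w * (c.ι v)⁻¹)).mem_K.1 hq' x
      rw [d.conj_iota_apply] at this
      rw [d1.conj_iota_apply, show d1.ι x = (c.ι v)⁻¹ * d.ι x * (c.ι v)⁻¹⁻¹ from rfl]
      calc _ = d1.ι w * (c.ι v)⁻¹ * d.ι x * (d1.ι w * (c.ι v)⁻¹)⁻¹ * q := by group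
        _ = q * (d1.ι w * (c.ι v)⁻¹ * d.ι x * (d1.ι w * (c.ι v)⁻¹)⁻¹) := this
        _ = _ := by group
    refine d1.mem_K.2 fun x => ?_
    have := (d1.conj (d1.ι w)).mem_K.1 hmem ((w⁻¹ * x * w : eL s))
    rw [d1.conj_iota_apply, ← map_inv, ← map_mul, ← map_mul] at this
    rwa [show w * (w⁻¹ * x * w) * w⁻¹ = x by group] at this

end CfsgLib.ONStd
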