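import Cfsg.Agent.Lib.ONStd.Outer
import Cfsg.Agent.Lib.Invol.StronglyEmbedded

/-!
The normaliser of the odd part modulo it, and the fusion in it.
-/

set_option autoImplicit false
set_option linter.style.haveILetI false
set_option linter.unusedSectionVars false
set_option maxRecDepth 8000

namespace CfsgLib.ONStd

open CfsgLib.ONUnique

universe u

variable {G : Type u} [Group G] [Finite G]

namespace Pair

variable {c d : Ctx G false} (p : Pair c d)

include p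

theorem odd_conj {n k : G} (hn : n ∈ c.N) (hk : k ∈ p.oddPart) : n * k * n⁻¹ ∈ p.oddPart :=
  ⟨c.conj_K hn hk.1, by rw [← MulAut.conj_apply, MulEquiv.orderOf_eq]; exact hk.2⟩

theorem N_le : c.N ≤ Subgroup.normalizer (p.oddPart : Set G) := fun n hn =>
  Subgroup.mem_normalizer_iff.mpr fun k => ⟨fun hk => p.odd_conj hn hk, fun hk => by
    have h := p.odd_conj (c.N.inv_mem hn) hk
    rwa [show n⁻¹ * (n * k * n⁻¹) * n⁻¹⁻¹ = k by group] at h⟩

theorem dN_le : d.N ≤ Subgroup.normalizer (p.oddPart : Set G) := by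
  rw [p.oddPart_symm]
  exact p.symm.N_le

theorem odd_iota {x : eL false} (h : c.ι x ∈ p.oddPart) : x = 1 := by
  obtain ⟨l, -, el⟩ := (c.acts_K_iff (c.acts_iota x)).1 h.1
  have h4 : x ^ (2 ^ 2) = 1 := Subtype.ext (by
    rw [SubgroupClass.coe_pow, el, ← pow_mul, mul_comm, pow_mul, show (2 : ℕ) ^ 2 = 4 from rfl, cE_four, one_pow]
    rfl)
  have ho : Odd (orderOf x) := by rw [← orderOf_injective c.ι c.inj]; exact h.2
  exact orderOf_eq_one_iff.1 (Nat.eq_one_of_dvd_coprimes ((Nat.coprime_two_right.2 ho).pow_right 2)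
    dvd_rfl (orderOf_dvd_of_pow_eq_one h4))

variable [IsSimpleGroup G] (hconj : ∃ g : G, g * c.z * g⁻¹ = c.u)

include hconj

/-- The normaliser is the copy, extended by one outer involution, times the odd part. -/
theorem decomp {v0 : G} (hv0 : v0 ∈ c.N) (h3 : c.tau v0 = 3) {n : G} (hn : n ∈ c.N) :
    ∃ x : eL false, ∃ r ∈ p.oddPart, n = c.ι x * r ∨ n = c.ι x * r * v0 := by
  have h0 : ∀ {m : G}, m ∈ c.N → c.tau m = 0 → ∃ x : eL false, ∃ r ∈ p.oddPart, m = c.ι x * r := by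
    intro m hm h
    obtain ⟨x, k, hk, e⟩ := c.tau_zero hm h
    obtain ⟨i, r, hr, hor, rfl⟩ := p.K_decomp hk
    exact ⟨x * cL false ^ i, r, ⟨hr, hor⟩, by rw [e, map_mul, map_pow, mul_assoc]; rfl⟩
  rcases p.types hconj hn with h | h
  · obtain ⟨x, r, hr, e⟩ := h0 hn h
    exact ⟨x, r, hr, Or.inl e⟩
  · obtain ⟨x, r, hr, e⟩ := h0 (mul_mem hn (inv_mem hv0)) (by
      rw [c.tau_mul hn (inv_mem hv0), c.tau_inv hv0, h, h3]; rfl)
    exact ⟨x, r, hr, Or.inr (by rw [← e, inv_mul_cancel_right])⟩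

/-- An involution of the normaliser of the odd part is conjugate there to the central one. -/
theorem invol_conj (hg : ∃ g ∈ Subgroup.normalizer (p.oddPart : Set G), g * c.z * g⁻¹ = c.u)
    {v : G} (hv : v ∈ Subgroup.normalizer (p.oddPart : Set G)) (h2 : orderOf v = 2) :
    ∃ k ∈ Subgroup.normalizer (p.oddPart : Set G), k * v * k⁻¹ = c.z := by
  haveI : Fact (Nat.Prime 2) := ⟨Nat.prime_two⟩
  set M := Subgroup.normalizer (p.oddPart : Set G) with hM
  obtain ⟨S⟩ : Nonempty (Sylow 2 c.N) := inferInstance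
  obtain ⟨P, hP⟩ := p.sylow_top S
  have hPN : (P : Subgroup G) ≤ c.N := hP ▸ Subgroup.map_subtype_le _
  have hPM : (P : Subgroup G) ≤ M := hPN.trans p.N_le
  obtain ⟨S₂, hS₂⟩ := (IsPGroup.of_card (p := 2) (n := 1)
    (show Nat.card (Subgroup.zpowers (⟨v, hv⟩ : M)) = 2 ^ 1 by
      rw [Nat.card_zpowers, ← Subgroup.orderOf_coe, h2, pow_one])).exists_le_sylow
  obtain ⟨m, hm⟩ := MulAction.exists_smul_eq M S₂ (P.subtype hPM)
  have hmv : (m : G) * v * (m : G)⁻¹ ∈ (P : Subgroup G) := by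
    have h : m * (⟨v, hv⟩ : M) * m⁻¹ ∈ ((m • S₂ : Sylow 2 M) : Subgroup M) := by
      rw [Sylow.coe_subgroup_smul]
      exact ⟨⟨v, hv⟩, hS₂ (Subgroup.mem_zpowers _), rfl⟩
    rw [hm] at h
    exact h
  set v' := (m : G) * v * (m : G)⁻¹ with hv'
  have hv'2 : orderOf v' = 2 := by rw [hv', ← MulAut.conj_apply, MulEquiv.orderOf_eq, h2]
  have hvv : v' * v' = 1 := by rw [← pow_two, ← hv'2, pow_orderOf_eq_one]
  have hv1 : v' ≠ 1 := fun e => by rw [e, orderOf_one] at hv'2; omega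
  obtain ⟨g, hgM, hgv⟩ : ∃ g ∈ M, g * v' * g⁻¹ = c.z := by
    rcases p.types hconj (hPN hmv) with h | h
    · rcases p.inner_cases (hPN hmv) h hvv hv1 with e | ⟨x, e⟩
      · exact ⟨1, M.one_mem, by rw [one_mul, inv_one, mul_one, e]⟩
      · obtain ⟨g, hgM, hgu⟩ := hg
        exact ⟨g⁻¹ * (c.ι x)⁻¹, M.mul_mem (M.inv_mem hgM) (M.inv_mem (p.N_le (c.iota_mem_N x))),
          by rw [e, ← hgu]; group⟩
    · obtain ⟨k, hk, hkv⟩ := p.three_conj (hPN hmv) hvv h
      exact ⟨k, (sup_le p.N_le p.dN_le) hk, hkv⟩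
  exact ⟨g * m, M.mul_mem hgM m.2, by rw [← hgv, hv']; group⟩

/-- The quotient by the odd part has the shape asked for by the models. -/
theorem stdC_of {M : Subgroup G} (hNM : c.N ≤ M) {H : Type u} [Group H] (π : M →* H) (hs : Function.Surjective π)
    (hker : ∀ m : M, π m = 1 ↔ (m : G) ∈ p.oddPart) :
    ∃ v : H, StdC (π.comp (c.ι.codRestrict M fun x => hNM (c.iota_mem_N x))) v := by
  obtain ⟨t, ht, -, h3, -⟩ := p.exists_three
  set v0 := d.ι ⟨t, ht.1⟩ with hv0d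
  have hv0 : v0 ∈ c.N := p.symm.tt_mem_N ht
  set ψ := π.comp (c.ι.codRestrict M fun x => hNM (c.iota_mem_N x)) with hψ
  have hψx : ∀ x, ψ x = π ⟨c.ι x, hNM (c.iota_mem_N x)⟩ := fun x => rfl
  have hinj : Function.Injective ψ := by
    rw [injective_iff_map_eq_one]
    intro x hx
    exact p.odd_iota ((hker ⟨c.ι x, hNM (c.iota_mem_N x)⟩).1 hx)
  have hzz : ψ (cL false ^ 2) = π ⟨c.z, hNM (c.iota_mem_N _)⟩ := rfl
  have hcent : ∀ n : H, n * ψ (cL false ^ 2) = ψ (cL false ^ 2) * n → ∃ m : M, π m = n ∧ (m : G) ∈ c.N := by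
    intro n hn
    obtain ⟨m, rfl⟩ := hs n
    refine ⟨m, rfl, ?_⟩
    rw [hzz, ← map_mul, ← map_mul] at hn
    set zM : M := ⟨c.z, hNM (c.iota_mem_N _)⟩ with hzM
    have hd := (hker ((m * zM)⁻¹ * (zM * m))).1 (by rw [map_mul, map_inv, hn, inv_mul_cancel])
    set k := (((m * zM)⁻¹ * (zM * m) : M) : G) with hk
    have hdz : k * c.z = c.z * k := c.mem_N.mp (c.K_le_N hd.1)
    have e : k = c.z⁻¹ * ((m : G)⁻¹ * c.z * m) := by
      rw [hk, Subgroup.coe_mul, Subgroup.coe_inv, Subgroup.coe_mul, Subgroup.coe_mul, mul_inv_rev]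
      show c.z⁻¹ * (m : G)⁻¹ * (c.z * (m : G)) = _
      group
    have hd2 : k * k = 1 := by
      calc k * k = (c.z * c.z) * (k * k) := by rw [c.z_sq, one_mul]
        _ = c.z * (c.z * k) * k := by group
        _ = c.z * (k * c.z) * k := by rw [hdz]
        _ = (c.z * k) * (c.z * k) := by group
        _ = 1 := by
          rw [e, mul_inv_cancel_left,
            show (m : G)⁻¹ * c.z * m * ((m : G)⁻¹ * c.z * m) = (m : G)⁻¹ * (c.z * c.z) * m by group, c.z_sq]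
          group
    have hd1 : k = 1 := orderOf_eq_one_iff.mp (Nat.eq_one_of_dvd_coprimes
      (Nat.coprime_two_left.mpr hd.2) (orderOf_dvd_of_pow_eq_one (by rw [pow_two, hd2]))
      dvd_rfl)
    refine c.mem_N.mpr ?_
    rw [e, inv_mul_eq_one] at hd1
    calc (m : G) * c.z = m * ((m : G)⁻¹ * c.z * m) := by rw [← hd1]
      _ = _ := by group
  have hdec : ∀ m : M, (m : G) ∈ c.N → ∃ x, π m = ψ x ∨ π m = ψ x * π ⟨v0, hNM hv0⟩ := by
    intro m hm
    obtain ⟨x, r, hr, e⟩ := p.decomp hconj hv0 h3 hm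
    have hrM : r ∈ M := hNM (c.K_le_N hr.1)
    have hπr : π ⟨r, hrM⟩ = 1 := (hker _).2 hr
    refine ⟨x, e.imp (fun e => ?_) fun e => ?_⟩
    · rw [show m = ⟨c.ι x, hNM (c.iota_mem_N x)⟩ * ⟨r, hrM⟩ from Subtype.ext e, map_mul, hπr, mul_one, hψx]
    · rw [show m = ⟨c.ι x, hNM (c.iota_mem_N x)⟩ * ⟨r, hrM⟩ * ⟨v0, hNM hv0⟩ from Subtype.ext e, map_mul,
        map_mul, hπr, mul_one, hψx]
  refine ⟨π ⟨v0, hNM hv0⟩, hinj, c.perfect, fun x => ?_, ?_, ?_, fun n hn => ?_, fun n hn hall => ?_⟩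
  · obtain ⟨x', hx'⟩ := c.conj_iota hv0 x
    refine ⟨x', ?_⟩
    rw [hψx, hψx, ← map_inv, ← map_mul, ← map_mul]
    exact congrArg π (Subtype.ext hx'.symm)
  · rintro ⟨x, hx⟩
    have hd := (hker (⟨c.ι x, hNM (c.iota_mem_N x)⟩⁻¹ * ⟨v0, hNM hv0⟩)).1 (by
      rw [map_mul, map_inv, ← hψx, hx, inv_mul_cancel])
    change (c.ι x)⁻¹ * v0 ∈ p.oddPart at hd
    have := c.tau_mul (inv_mem (c.iota_mem_N x)) hv0
    rw [c.tau_K hd.1, c.tau_inv (c.iota_mem_N x), c.tau_iota, h3] at this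
    exact absurd this (by decide)
  · rw [hzz, ← map_mul, ← map_mul]
    exact congrArg π (Subtype.ext (c.mem_N.1 hv0))
  · obtain ⟨m, rfl, hm⟩ := hcent n hn
    obtain ⟨x, e | e⟩ := hdec m hm
    · exact Or.inl ⟨x, e.symm⟩
    · exact Or.inr ⟨x, by rw [e, mul_inv_cancel_right]⟩
  · obtain ⟨m, rfl, hm⟩ := hcent n hn
    obtain ⟨x, e | e⟩ := hdec m hm
    · exact ⟨x, e.symm⟩
    exfalso
    have hv := c.cc_act hv0
    rw [h3, if_pos (by decide)] at hv
    have h1 : π ⟨v0, hNM hv0⟩ * ψ (cL false) * (π ⟨v0, hNM hv0⟩)⁻¹ = (ψ (cL false))⁻¹ := by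
      rw [hψx, ← map_inv, ← map_mul, ← map_mul, ← map_inv]
      exact congrArg π (Subtype.ext hv)
    have h2 : ψ (cL false) = ψ ((cL false)⁻¹) := by
      calc ψ (cL false) = π m * ψ (cL false) * (π m)⁻¹ := by rw [hall, mul_inv_cancel_right]
        _ = ψ x * (π ⟨v0, hNM hv0⟩ * ψ (cL false) * (π ⟨v0, hNM hv0⟩)⁻¹) * (ψ x)⁻¹ := by rw [e]; group
        _ = ψ (x * (cL false)⁻¹ * x⁻¹) := by rw [h1]; simp only [map_mul, map_inv]
        _ = _ := by
          have hc : x * (cL false)⁻¹ = (cL false)⁻¹ * x :=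
            ((show Commute (cL false) x from cL_comm x).inv_left).eq.symm
          rw [hc, mul_inv_cancel_right]
    have h4 : orderOf (cL false) ∣ 2 := orderOf_dvd_of_pow_eq_one (by
      rw [pow_two]; exact mul_eq_one_iff_eq_inv.2 (hinj h2))
    rw [orderOf_cL] at h4
    omega

end Pair

end CfsgLib.ONStd
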