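import Cfsg.Agent.Lib.ONUnique.Top

/-!
A group with the centraliser and fusion of the O'Nan group is an image of it, and a strongly embedded
subgroup has no such quotient.
-/

set_option autoImplicit false
set_option linter.style.haveILetI false
set_option maxRecDepth 20000

namespace CfsgLib.ONStd

open CfsgLib.ONUnique
open scoped MatrixGroups

universe u

/-- A group with the centraliser and the fusion of the O'Nan group is an image of it. -/
theorem exists_onto {G : Type u} [Group G] [Finite G] (t : G) (ht : orderOf t = 2)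
    (M : Subgroup (Subgroup.centralizer ({t} : Set G))) [M.Normal] (hM : M.index = 2)
    (hout : Subgroup.centralizer (M : Set (Subgroup.centralizer ({t} : Set G))) ≤ M)
    (hZc : IsCyclic (Subgroup.center M)) (hZ4 : Nat.card (Subgroup.center M) = 4)
    (hperf : commutator M = ⊤) {F : Type} [Field F] [Fintype F] (hF : Fintype.card F = 4)
    (e : M ⧸ Subgroup.center M ≃* PSL(3, F))
    (hfus : ∃ w : Subgroup.centralizer ({t} : Set G), w ∈ M ∧ ((w : G) * w) * ((w : G) * w) = 1 ∧
      (w : G) * w ≠ 1 ∧ (w : G) * w ≠ t ∧ ∃ g : G, g * ((w : G) * w) * g⁻¹ = t) :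
    ∃ f : Cfsg.Spor.ON →* G, Function.Bijective f := by
  obtain ⟨m, CF, ι, R⟩ := exists_model t ht M hM hout hZc hZ4 hperf hF e
  obtain ⟨w, -, hw2, hw1, hwt, g₁, hg₁⟩ := hfus
  have hwc : (w : G) * t = t * w := Subgroup.mem_centralizer_singleton_iff.1 w.2
  obtain ⟨x, hx, hcase⟩ := R.invol CF (w := (w : G) * w)
    (by rw [mul_assoc, hwc, ← mul_assoc, hwc, mul_assoc]) hw2 hw1 hwt
  obtain ⟨c, hc⟩ : ∃ c, c * uG (mdAt m) (mcAt m) * c⁻¹ = x := by
    rcases hcase with h | ⟨k, hk, h, hh⟩
    · exact h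
    exfalso
    obtain ⟨r, hr⟩ := R.exists_pre hwc
    refine CF.y_half k hk (h⁻¹ * r * h) (R.inj ?_)
    rw [show h⁻¹ * r * h * (h⁻¹ * r * h) = h⁻¹ * (r * r) * h by group,
      show yG (mdAt m) (mcAt m) k = h⁻¹ * (h * yG (mdAt m) (mcAt m) k * h⁻¹) * h by group, hh,
      map_mul, map_mul, map_mul, map_mul, map_mul, hr, hx]
  have hu : (g₁ * ι c) * ι (uG (mdAt m) (mcAt m)) * (g₁ * ι c)⁻¹ = t := by
    rw [← hg₁, ← hx, ← hc, map_mul, map_mul, map_inv]
    group
  by_cases hm : m = 4
  · subst hm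
    obtain ⟨g₀, h1, h2⟩ := exists_swap R CF hu
    have S : Setting t ι := ⟨R, CF⟩
    obtain ⟨r, hr, g, e1, e2, hφ⟩ := S.exists_phi h1 h2
    have hC : Nat.card (Subgroup.centralizer ({t} : Set G)) = 161280 := by
      rw [← R.range, ← Nat.card_congr (MonoidHom.ofInjective R.inj).toEquiv, CF.card]
    have fin : ∀ {D : GoodData} {rep : List ℕ}, GCase t ι g D rep →
        ∃ f : Cfsg.Spor.ON →* G, Function.Bijective f := fun C => by
      obtain ⟨f, I⟩ := C.exists_embedding
      exact ⟨f, I.inj, MonoidHom.range_eq_top.1 (eq_top_of_img ht hC I)⟩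
    interval_cases r
    · exact fin ⟨S, good0_ok, e1, e2, hφ⟩
    · exact fin ⟨S, good1_ok, e1, e2, hφ⟩
    · exact (S.bad_absurd bad_ok.1 hφ).elim
    · exact (S.bad_absurd bad_ok.2 hφ).elim
  · exact absurd hu (not_fused R CF (mcAt_elim m hm).1 _)

/-- A strongly embedded subgroup has no quotient like the O'Nan group. -/
theorem strongly_absurd {G : Type u} [Group G] [Finite G] {M : Subgroup G} (hse : Cfsg.IsStronglyEmbedded M)
    (E : Subgroup M) [E.Normal] {z : G} (hz : orderOf z = 2) (hzM : z ∈ M)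
    (f : Cfsg.Spor.ON →* M ⧸ E) (hf : Function.Bijective f)
    (hC : Nat.card (Subgroup.centralizer ({QuotientGroup.mk' E ⟨z, hzM⟩} : Set (M ⧸ E))) = 161280) : False := by
  classical
  obtain ⟨u, hu2, huM⟩ := CfsgLib.Invol.strongly_exists_invol_not_mem hse
  set D0 := M ⊓ M.map (MulAut.conj u).toMonoidHom with hD0
  have hodd : Odd (Nat.card D0) := hse.2.2 u huM
  set π := QuotientGroup.mk' E with hπ
  set D := (D0.subgroupOf M).map π with hD
  have hDodd : Odd (Nat.card D) := by
    refine hodd.of_dvd_nat ?_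
    rw [← Nat.card_congr (Subgroup.subgroupOfEquivOfLe (inf_le_left : D0 ≤ M)).toEquiv]
    exact Subgroup.card_map_dvd _ _
  set tb : M ⧸ E := QuotientGroup.mk' E ⟨z, hzM⟩ with htb
  have hcardM : Nat.card (M ⧸ E) = 460815505920 := by
    rw [← Nat.card_congr (Equiv.ofBijective f hf)]; exact ONPres.card_faithful.1
  have hcount : Nat.card (MulAction.orbit (ConjAct (M ⧸ E)) tb) = 2857239 := by
    have h1 := Subgroup.card_eq_card_quotient_mul_card_subgroup (MulAction.stabilizer (ConjAct (M ⧸ E)) tb)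
    rw [← Nat.card_congr (MulAction.orbitEquivQuotientStabilizer (ConjAct (M ⧸ E)) tb)] at h1
    have h2 : Nat.card (MulAction.stabilizer (ConjAct (M ⧸ E)) tb) = 161280 := by
      rw [← hC]
      refine Nat.card_congr
        { toFun := fun c => ⟨ConjAct.ofConjAct (c : ConjAct (M ⧸ E)), ?_⟩
          invFun := fun c => ⟨ConjAct.toConjAct (c : M ⧸ E), ?_⟩
          left_inv := fun c => rfl
          right_inv := fun c => rfl }
      · refine Subgroup.mem_centralizer_singleton_iff.2 ?_
        have hc : (c : ConjAct (M ⧸ E)) • tb = tb := c.2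
        rw [ConjAct.smul_def] at hc
        exact mul_inv_eq_iff_eq_mul.1 hc
      · rw [MulAction.mem_stabilizer_iff, ConjAct.smul_def, ConjAct.ofConjAct_toConjAct]
        exact mul_inv_eq_iff_eq_mul.2 (Subgroup.mem_centralizer_singleton_iff.1 c.2)
    rw [h2, show Nat.card (ConjAct (M ⧸ E)) = 460815505920 from hcardM] at h1
    omega
  have hdiv : 2857239 ∣ Nat.card D := by
    let DC : Subgroup (ConjAct (M ⧸ E)) := D.map ConjAct.toConjAct.toMonoidHom
    have hDC : Nat.card DC = Nat.card D := Subgroup.card_map_of_injective ConjAct.toConjAct.injective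
    have horb : MulAction.orbit DC tb = MulAction.orbit (ConjAct (M ⧸ E)) tb := by
      refine Set.Subset.antisymm ?_ ?_
      · rintro _ ⟨g, rfl⟩; exact ⟨(g : ConjAct (M ⧸ E)), rfl⟩
      · rintro w ⟨g, rfl⟩
        obtain ⟨m, hm⟩ := QuotientGroup.mk'_surjective E (ConjAct.ofConjAct g)
        have hmz : orderOf ((m : G) * z * (m : G)⁻¹) = 2 := by
          rw [← MulAut.conj_apply, MulEquiv.orderOf_eq, hz]
        obtain ⟨d, hd, ed⟩ := CfsgLib.Invol.strongly_inter_transitive hse hu2 huM hz hzM hmz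
          (M.mul_mem (M.mul_mem m.2 hzM) (M.inv_mem m.2))
        have hdM : d ∈ M := hd.1
        refine ⟨⟨ConjAct.toConjAct (π ⟨d, hdM⟩), ⟨π ⟨d, hdM⟩, ⟨⟨d, hdM⟩, hd, rfl⟩, rfl⟩⟩, ?_⟩
        show ConjAct.toConjAct (π ⟨d, hdM⟩) • tb = g • tb
        rw [ConjAct.toConjAct_smul, ConjAct.smul_def, ← hm, ← hπ, ← map_inv, ← map_inv, ← map_mul,
          ← map_mul, ← map_mul, ← map_mul]
        exact congrArg π (Subtype.ext ed)
    have h1 := Subgroup.card_eq_card_quotient_mul_card_subgroup (MulAction.stabilizer DC tb)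
    rw [← Nat.card_congr (MulAction.orbitEquivQuotientStabilizer DC tb), horb, hcount, hDC] at h1
    exact ⟨_, h1⟩
  have hDd : Nat.card D ∣ 460815505920 := hcardM ▸ Subgroup.card_subgroup_dvd_card D
  have hod : Nat.card D ∣ 900030285 := by
    have hc : Nat.Coprime (Nat.card D) (2 ^ 9) := (Nat.coprime_two_right.2 hDodd).pow_right 9
    refine hc.dvd_of_dvd_mul_left ?_
    norm_num
    exact hDd
  obtain ⟨q, hq⟩ := hdiv
  have hq' : q ∣ 315 := Nat.dvd_of_mul_dvd_mul_left (by norm_num : 0 < 2857239)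
    (by rw [← hq]; norm_num; exact hod)
  haveI : Group.IsSolvable D := CfsgLib.OddOrder.solvable_of_odd (Nat.card D) D rfl hDodd
  have hmn : Nat.card D = 589 * (4851 * q) := by rw [hq]; ring
  have hcop : Nat.Coprime 589 (4851 * q) :=
    (show Nat.Coprime 589 (4851 * 315) by norm_num).coprime_dvd_right (Nat.mul_dvd_mul_left _ hq')
  obtain ⟨K, hK⟩ := CfsgLib.Hall.exists_hall hmn hcop
  obtain ⟨x, y, hx, hy, hxy⟩ := card_589 hK
  let j : K →* Cfsg.Spor.ON :=
    (MulEquiv.ofBijective f hf).symm.toMonoidHom.comp (D.subtype.comp K.subtype)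
  have hj : Function.Injective j :=
    (MulEquiv.ofBijective f hf).symm.injective.comp (D.subtype_injective.comp K.subtype_injective)
  exact no_commute_19_31 (by rw [orderOf_injective j hj, hx]) (by rw [orderOf_injective j hj, hy])
    (by rw [← map_mul, ← map_mul, hxy])

end CfsgLib.ONStd
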