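import Cfsg.Agent.Lib.ONStd.ChkA0
import Cfsg.Agent.Lib.ONStd.ChkA1
import Cfsg.Agent.Lib.ONUnique.Classify
import Mathlib.FieldTheory.Finite.GaloisField

/-!
The cover of a kernel class inside its extension by the outer automorphisms.
-/

set_option autoImplicit false
set_option maxRecDepth 8000

namespace CfsgLib.ONStd

open CfsgLib.ONUnique
open CfsgLib.CosetEnum (strict strict_eq)
open scoped MatrixGroups

/-- what the checks on the system give -/
structure SysFacts (s : Bool) : Prop where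
  sok : (eS s).ok = true
  hN : (eS s).N = 224
  hn : (eS s).n = 20
  hchain : (eS s).chainOK (eChain s) [] = true
  hsize : Sys.chainSize (eChain s) = 322560
  hB : ∀ b ∈ eB s, b < (eS s).N
  rel : ∀ g < 20, ∀ i < 224, look (sysU.tab (bigL g)) (off s + i) = off s + look ((eS s).tab g) i
  ker : ∀ a < 4, ∀ b < 4, (chi (cond s 2 0) 1 a b = 0 ↔ (eS s).fullEq (zX a b) [] = true)
  step : ∀ g ∈ [18, 19, 38, 39], ∀ t < 4, ∃ l < 4,
    (eS s).fullEq (g :: oW t) (cWd l ++ oW (Nat.xor (letT g) t)) = true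
  letT_lt : ∀ g < 40, letT g < 4

theorem okSys_all : ∀ s, okSys s = true
  | false => sys_false
  | true => sys_true

theorem sysFacts (s : Bool) : SysFacts s := by
  have h := okSys_all s
  simp only [okSys, Bool.and_eq_true, List.all_eq_true, List.mem_range, Nat.beq_eq, Nat.blt_eq,
    strict_eq, List.any_eq_true] at h
  obtain ⟨⟨⟨⟨⟨⟨⟨⟨⟨h1, h2⟩, h3⟩, h4⟩, h5⟩, h6⟩, h7⟩, h8⟩, h9⟩, h10⟩ := h
  refine ⟨h1, h2, h3, h4, h5, fun b hb => by rw [h2]; exact h6 b hb, h7, fun a ha b hb => ?_,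
    fun g hg t ht => h9 g hg t ht, h10⟩
  have := h8 (4 * a + b) (by omega)
  rw [show (4 * a + b) / 4 = a by omega, show (4 * a + b) % 4 = b by omega] at this
  rw [← eq_of_beq this, Nat.beq_eq]

variable (s : Bool)

/-- the relation between the large system and the block -/
def relE : Subgroup (Equiv.Perm (Fin sysU.N) × Equiv.Perm (Fin (eS s).N)) where
  carrier := {p | ∀ (i : Fin (eS s).N) (q : Fin sysU.N), (q : ℕ) = off s + i →
    (p.1 q : ℕ) = off s + (p.2 i : ℕ)}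
  one_mem' := fun i q hq => hq
  mul_mem' := fun {a b} ha hb i q hq => ha (b.2 i) (b.1 q) (hb i q hq)
  inv_mem' := fun {a} ha i q hq => by
    have hlt : off s + (a.2⁻¹ i : ℕ) < sysU.N := by
      have h1 : sysU.N = 1344 := by decide +kernel
      have h2 : (a.2⁻¹ i : ℕ) < 224 := lt_of_lt_of_eq (a.2⁻¹ i).2 (sysFacts s).hN
      have h3 : off s ≤ 224 := by cases s <;> simp [off]
      omega
    have e1 := ha (a.2⁻¹ i) ⟨_, hlt⟩ rfl
    rw [show a.2 (a.2⁻¹ i) = i by rw [Equiv.Perm.inv_def, Equiv.apply_symm_apply]] at e1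
    have e3 : a.1 ⟨_, hlt⟩ = q := Fin.ext (e1.trans hq.symm)
    show ((a.1⁻¹) q : ℕ) = _
    rw [← e3, Equiv.Perm.inv_def, Equiv.symm_apply_apply]
    rfl

theorem relE_unique {a : Equiv.Perm (Fin sysU.N)} {b c : Equiv.Perm (Fin (eS s).N)}
    (hb : (a, b) ∈ relE s) (hc : (a, c) ∈ relE s) : b = c := by
  refine Equiv.ext fun i => ?_
  have h1 : sysU.N = 1344 := by decide +kernel
  have hlt : off s + (i : ℕ) < sysU.N := by
    have h2 : (i : ℕ) < 224 := lt_of_lt_of_eq i.2 (sysFacts s).hN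
    have h3 : off s ≤ 224 := by cases s <;> simp [off]
    omega
  have e1 := hb i ⟨_, hlt⟩ rfl
  have e2 := hc i ⟨_, hlt⟩ rfl
  exact Fin.ext (by simpa using e1.symm.trans e2)

theorem rel_gen (g : ℕ) (hg : g < 20) : (sysU.gp (bigL g), (eS s).gp g) ∈ relE s := by
  intro i q hq
  have F := sysFacts s
  have hb : bigL g < 2 * sysU.n := by
    rw [sysU_n, bigL]
    cases Nat.blt g 18 <;> simp <;> omega
  rw [Sys.gp_apply sysU_ok hb, Sys.gp_apply F.sok (by rw [F.hn]; omega), hq]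
  exact F.rel g hg i (lt_of_lt_of_eq i.2 F.hN)

theorem rel_word : ∀ w : List ℕ, (∀ g ∈ w, g < 20) → (sysU.ev (w.map bigL), (eS s).ev w) ∈ relE s
  | [], _ => (relE s).one_mem
  | g :: w, hw => by
    rw [List.map_cons, Sys.ev_cons, Sys.ev_cons]
    exact (relE s).mul_mem (rel_gen s g (hw g (List.mem_cons_self ..)))
      (rel_word w fun r hr => hw r (List.mem_cons_of_mem _ hr))

theorem map_bigL {w : List ℕ} (hw : ∀ g ∈ w, g < 18) : w.map bigL = w := by
  conv_rhs => rw [← List.map_id w]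
  refine List.map_congr_left fun g hg => ?_
  rw [bigL, show Nat.blt g 18 = true from Nat.blt_eq.mpr (hw g hg)]
  rfl

theorem exists_rhoE : ∃ ρ : U →* Equiv.Perm (Fin (eS s).N),
    ∀ x : U, ((x : Equiv.Perm (Fin sysU.N)), ρ x) ∈ relE s := by
  have hex : ∀ x : U, ∃ b, ((x : Equiv.Perm (Fin sysU.N)), b) ∈ relE s := by
    intro x
    have hle : U ≤ (relE s).map (MonoidHom.fst _ _) := (Subgroup.closure_le _).2 (by
      rintro _ ⟨g, hg, rfl⟩
      refine ⟨(sysU.gp g, (eS s).gp g), ?_, rfl⟩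
      have h := rel_gen s g (by omega)
      rwa [bigL, show Nat.blt g 18 = true from Nat.blt_eq.mpr hg, cond_true] at h)
    obtain ⟨⟨a, b⟩, hab, e⟩ := hle x.2
    exact ⟨b, by rw [← e]; exact hab⟩
  choose f hf using hex
  exact ⟨
    { toFun := f
      map_one' := relE_unique s (hf 1) (relE s).one_mem
      map_mul' := fun x y => relE_unique s (hf (x * y)) ((relE s).mul_mem (hf x) (hf y)) }, hf⟩

/-- the map of the cover to the block -/
noncomputable def rhoE : U →* Equiv.Perm (Fin (eS s).N) := (exists_rhoE s).choose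

theorem rhoE_rel (x : U) : ((x : Equiv.Perm (Fin sysU.N)), rhoE s x) ∈ relE s :=
  (exists_rhoE s).choose_spec x

theorem rhoE_word {w : List ℕ} (hw : ∀ g ∈ w, g < 18) :
    rhoE s ⟨sysU.ev w, ev_mem_U hw⟩ = (eS s).ev w := by
  refine relE_unique s (rhoE_rel s _) ?_
  have h := rel_word s w fun g hg => by have := hw g hg; omega
  rwa [map_bigL hw] at h

theorem rhoE_z (a b : ℕ) : rhoE s (za ^ a * zb ^ b) = (eS s).ev (zX a b) := by
  rw [← rhoE_word s (zX_small a b)]
  exact congrArg (rhoE s) (Subtype.ext (ev_zX a b).symm)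

/-- the outer letters of a word of automorphisms -/
def outW (w : List (Fin 3)) : List ℕ := w.map fun L => 17 + L.val

theorem rhoE_conj {w : List (Fin 3)} (hw : ∀ L ∈ w, L ≠ 0) (x : U) :
    (eS s).ev (outW w) * rhoE s x * ((eS s).ev (outW w))⁻¹ = rhoE s (cW w x) := by
  refine (relE_unique s (rhoE_rel s (cW w x)) ?_).symm
  have h := rel_word s (outW w) fun g hg => by
    obtain ⟨L, -, rfl⟩ := List.mem_map.1 hg
    omega
  have hm : (outW w).map bigL = w.map fun L => 18 + L.val := by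
    rw [outW, List.map_map]
    refine List.map_congr_left fun L hL => ?_
    have h0 : 0 < L.val := Nat.pos_of_ne_zero fun e => hw L hL (Fin.ext e)
    show bigL (17 + L.val) = _
    rw [bigL, show Nat.blt (17 + L.val) 18 = false from Bool.eq_false_iff.2 fun e => by
      rw [Nat.blt_eq] at e; omega]
    simp only [cond_false]
    omega
  rw [hm] at h
  rw [ev_map_cW]
  exact (relE s).mul_mem ((relE s).mul_mem h (rhoE_rel s x)) ((relE s).inv_mem h)

/-- the cover in the block -/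
noncomputable def eL : Subgroup (Equiv.Perm (Fin (eS s).N)) := (rhoE s).range

theorem fullNe {v w : List ℕ} (hv : (eS s).letOK v = true) (hw : (eS s).letOK w = true)
    (he : (eS s).fullEq v w ≠ true) : (eS s).ev v ≠ (eS s).ev w := by
  intro e
  refine he ?_
  simp only [Sys.fullEq, List.all_eq_true, List.mem_range, Nat.beq_eq]
  intro p hp
  have h := congrArg (fun x : Equiv.Perm (Fin (eS s).N) => (x ⟨p, hp⟩ : ℕ)) e
  simpa [Sys.run_eq (sysFacts s).sok hv, Sys.run_eq (sysFacts s).sok hw] using h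

theorem letOK18 {w : List ℕ} (hw : ∀ g ∈ w, g < 18) : (eS s).letOK w = true := by
  simp only [Sys.letOK, List.all_eq_true, Nat.blt_eq, (sysFacts s).hn]
  exact fun g hg => by have := hw g hg; omega

theorem rhoE_z_eq_one {a b : ℕ} (ha : a < 4) (hb : b < 4) :
    rhoE s (za ^ a * zb ^ b) = 1 ↔ chi (cond s 2 0) 1 a b = 0 := by
  rw [rhoE_z, (sysFacts s).ker a ha b hb]
  refine ⟨fun h => ?_, fun h => by
    rw [Sys.fullEq_spec (sysFacts s).sok (letOK18 s (zX_small a b)) rfl h, Sys.ev_nil]⟩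
  by_contra hne
  exact fullNe s (letOK18 s (zX_small a b)) rfl hne (h.trans (Sys.ev_nil (eS s)).symm)

theorem letOK_oW (t : ℕ) : (eS s).letOK (oW t) = true := by
  simp only [Sys.letOK, oW, List.all_eq_true, List.mem_append, Nat.blt_eq, (sysFacts s).hn]
  intro g hg
  rcases hg with hg | hg
  · cases h : Nat.testBit t 0 <;> simp [h] at hg
    omega
  · cases h : Nat.testBit t 1 <;> simp [h] at hg
    omega

/-- the representative of an outer class -/
noncomputable def oE (t : ℕ) : Equiv.Perm (Fin (eS s).N) := (eS s).ev (oW t)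

theorem ev_cWd_mem (l : ℕ) : (eS s).ev (cWd l) ∈ eL s :=
  ⟨za ^ 0 * zb ^ l, rhoE_z s 0 l⟩

theorem letter_conj {g : ℕ} (hg : g ∈ [18, 19, 38, 39]) {x : Equiv.Perm (Fin (eS s).N)}
    (hx : x ∈ eL s) : (eS s).gp g * x * ((eS s).gp g)⁻¹ ∈ eL s := by
  have hf : ∀ L : Fin 3, L ≠ 0 → ∀ y ∈ eL s,
      (eS s).gp (17 + L.val) * y * ((eS s).gp (17 + L.val))⁻¹ ∈ eL s := by
    rintro L hL _ ⟨y, rfl⟩
    refine ⟨cW [L] y, ?_⟩
    rw [← rhoE_conj s (w := [L]) (fun M hM => by rw [List.mem_singleton] at hM; exact hM ▸ hL) y]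
    simp [outW, Sys.ev]
  have hi : ∀ L : Fin 3, L ≠ 0 → ∀ y ∈ eL s,
      ((eS s).gp (17 + L.val))⁻¹ * y * (eS s).gp (17 + L.val) ∈ eL s := by
    rintro L hL _ ⟨y, rfl⟩
    obtain ⟨y', rfl⟩ := (cW_bijective [L]).2 y
    refine ⟨y', ?_⟩
    rw [← rhoE_conj s (w := [L]) (fun M hM => by rw [List.mem_singleton] at hM; exact hM ▸ hL) y']
    simp [outW, Sys.ev, mul_assoc]
  have hinv : ∀ k < 20, (eS s).gp (k + 20) = ((eS s).gp k)⁻¹ := fun k hk => by
    have h := Sys.gp_invL (sysFacts s).sok (g := k) (by rw [(sysFacts s).hn]; omega)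
    rwa [Sys.invL, (sysFacts s).hn, show Nat.blt k 20 = true from Nat.blt_eq.mpr hk, cond_true] at h
  simp only [List.mem_cons, List.not_mem_nil, or_false] at hg
  rcases hg with rfl | rfl | rfl | rfl
  · exact hf 1 (by decide) x hx
  · exact hf 2 (by decide) x hx
  · rw [hinv 18 (by norm_num), inv_inv]; exact hi 1 (by decide) x hx
  · rw [hinv 19 (by norm_num), inv_inv]; exact hi 2 (by decide) x hx

theorem letter_cases : ∀ g < 40, g < 18 ∨ g ∈ [18, 19, 38, 39] ∨ (20 ≤ g ∧ g < 38) := by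
  intro g hg
  simp only [List.mem_cons, List.not_mem_nil, or_false]
  omega

theorem letT_zero : ∀ g < 40, g < 18 ∨ (20 ≤ g ∧ g < 38) → letT g = 0 := by decide +kernel

theorem word_decomp : ∀ {w : List ℕ}, (eS s).letOK w = true →
    wT w < 4 ∧ ∃ y ∈ eL s, (eS s).ev w = y * oE s (wT w)
  | [], _ => ⟨by decide, 1, one_mem _, by rw [one_mul]; rfl⟩
  | g :: w, hw => by
    have F := sysFacts s
    simp only [Sys.letOK, List.all_cons, Bool.and_eq_true, Nat.blt_eq, F.hn] at hw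
    have hw' : (eS s).letOK w = true := by rw [Sys.letOK, F.hn]; exact hw.2
    obtain ⟨ht, y, hy, e⟩ := word_decomp hw'
    have hT : wT (g :: w) = Nat.xor (letT g) (wT w) := rfl
    refine ⟨by rw [hT]; exact Nat.xor_lt_two_pow (n := 2) (F.letT_lt g hw.1) ht, ?_⟩
    rw [hT, Sys.ev_cons, e]
    rcases letter_cases g hw.1 with h | h | h
    · rw [letT_zero g hw.1 (Or.inl h), show Nat.xor 0 (wT w) = wT w from Nat.zero_xor _]
      refine ⟨(eS s).gp g * y, mul_mem ⟨⟨sysU.ev [g], ev_mem_U (by simpa using h)⟩, ?_⟩ hy,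
        (mul_assoc _ _ _).symm⟩
      rw [rhoE_word s (w := [g]) (by simpa using h), Sys.ev_single]
    · obtain ⟨l, -, hl⟩ := F.step g h _ ht
      have hlet : (eS s).letOK [g] = true := by simp [Sys.letOK, F.hn, Nat.blt_eq, hw.1]
      have e2 : (eS s).gp g * oE s (wT w) = (eS s).ev (cWd l) * oE s (Nat.xor (letT g) (wT w)) := by
        have h3 := Sys.fullEq_spec F.sok
          (show (eS s).letOK ([g] ++ oW (wT w)) = true from Sys.letOK_append.2 ⟨hlet, letOK_oW s _⟩)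
          (Sys.letOK_append.2 ⟨letOK18 s (zX_small 0 l), letOK_oW s _⟩) hl
        rwa [Sys.ev_append, Sys.ev_append, Sys.ev_single] at h3
      refine ⟨(eS s).gp g * y * ((eS s).gp g)⁻¹ * (eS s).ev (cWd l),
        mul_mem (letter_conj s h hy) (ev_cWd_mem s l), ?_⟩
      rw [mul_assoc _ ((eS s).ev (cWd l)), ← e2]
      group
    · rw [letT_zero g hw.1 (Or.inr h), show Nat.xor 0 (wT w) = wT w from Nat.zero_xor _]
      refine ⟨(eS s).gp g * y, mul_mem ?_ hy, (mul_assoc _ _ _).symm⟩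
      have hi : (eS s).gp g = ((eS s).gp (g - 20))⁻¹ := by
        have h := Sys.gp_invL F.sok (g := g - 20) (by rw [F.hn]; omega)
        rwa [Sys.invL, F.hn, show Nat.blt (g - 20) 20 = true from Nat.blt_eq.mpr (by omega), cond_true,
          show g - 20 + 20 = g by omega] at h
      rw [hi]
      refine inv_mem ⟨⟨sysU.ev [g - 20], ev_mem_U (by simp; omega)⟩, ?_⟩
      rw [rhoE_word s (w := [g - 20]) (by simp; omega), Sys.ev_single]

theorem eL_le : eL s ≤ (eS s).G := by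
  rintro _ ⟨x, rfl⟩
  have hle : U ≤ (relE s ⊓ (⊤ : Subgroup (Equiv.Perm (Fin sysU.N))).prod (eS s).G).map
      (MonoidHom.fst _ _) := (Subgroup.closure_le _).2 (by
    rintro _ ⟨g, hg, rfl⟩
    refine ⟨(sysU.gp g, (eS s).gp g), ⟨?_, Subgroup.mem_prod.2 ⟨trivial, Subgroup.subset_closure
      ⟨g, by rw [(sysFacts s).hn]; omega, rfl⟩⟩⟩, rfl⟩
    have h := rel_gen s g (by omega)
    rwa [bigL, show Nat.blt g 18 = true from Nat.blt_eq.mpr hg, cond_true] at h)
  obtain ⟨⟨a, b⟩, ⟨hab, hb⟩, e⟩ := hle x.2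
  change a = (x : Equiv.Perm (Fin sysU.N)) at e
  subst e
  rw [relE_unique s (rhoE_rel s x) hab]
  exact (Subgroup.mem_prod.1 hb).2

theorem oE_mem (t : ℕ) : oE s t ∈ (eS s).G := Sys.ev_mem _ (letOK_oW s t)

/-- the field of four elements -/
abbrev F4 : Type := GaloisField 2 2

theorem card_F4 [Fintype F4] : Fintype.card F4 = 4 := by
  rw [← Nat.card_eq_fintype_card, GaloisField.card 2 2 (by norm_num)]
  rfl

theorem card_U_eq : Nat.card U = 322560 := by
  classical
  letI : Fintype F4 := Fintype.ofFinite F4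
  rw [card_U (F := F4) card_F4, CfsgLib.Schur.LThreeFour.card_PSL_three_four card_F4]

theorem ker_facts : (rhoE s).ker ≤ Z0 ∧ Nat.card (eL s) = 80640 ∧ Nat.card (eS s).G = 322560 ∧
    ∀ t < 4, ∀ t' < 4, ∀ y ∈ eL s, ∀ y' ∈ eL s, y * oE s t = y' * oE s t' → t = t' ∧ y = y' := by
  classical
  have F := sysFacts s
  let f : Fin 4 → (rhoE s).ker := fun a => ⟨za ^ (a : ℕ) * zb ^ ((cond s 2 0 * (a : ℕ)) % 4), by
    rw [MonoidHom.mem_ker, rhoE_z_eq_one s a.2 (Nat.mod_lt _ (by norm_num))]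
    cases s <;> revert a <;> decide⟩
  have hZinj : ∀ p q : Fin 4 × Fin 4, za ^ (p.1 : ℕ) * zb ^ (p.2 : ℕ) = za ^ (q.1 : ℕ) * zb ^ (q.2 : ℕ) → p = q := by
    let g : Fin 4 × Fin 4 → Z0 := fun q => ⟨za ^ (q.1 : ℕ) * zb ^ (q.2 : ℕ), q.1, q.2, rfl⟩
    have hs : Function.Surjective g := fun x => by
      obtain ⟨a, b, e⟩ := x.2
      exact ⟨(a, b), Subtype.ext e⟩
    have hb := hs.bijective_of_nat_card_le (by rw [card_Z0, Nat.card_prod, Nat.card_fin])
    exact fun p q e => hb.1 (Subtype.ext e)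
  have hf : Function.Injective f := fun a b e => by
    have := hZinj (a, ⟨_, Nat.mod_lt _ (by norm_num)⟩) (b, ⟨_, Nat.mod_lt _ (by norm_num)⟩)
      (congrArg Subtype.val e)
    exact (Prod.mk.injEq _ _ _ _ ▸ this).1
  let m : Fin 4 × eL s → (eS s).G := fun p =>
    ⟨p.2.1 * oE s p.1, mul_mem (eL_le s p.2.2) (oE_mem s _)⟩
  have hm : Function.Surjective m := fun x => by
    obtain ⟨w, hw, e⟩ := Sys.exists_word F.sok x.2
    obtain ⟨ht, y, hy, e'⟩ := word_decomp s hw
    exact ⟨(⟨_, ht⟩, ⟨y, hy⟩), Subtype.ext (e'.symm.trans e)⟩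
  have hG : 322560 ≤ Nat.card (eS s).G := F.hsize ▸ Sys.chainSize_le F.sok F.hchain
  have h4 := Nat.card_le_card_of_surjective m hm
  rw [Nat.card_prod, Nat.card_fin] at h4
  have hk : Nat.card (eL s) * Nat.card (rhoE s).ker = 322560 := by
    have h := (rhoE s).ker.card_mul_index
    rw [Subgroup.index_ker, card_U_eq] at h
    rw [mul_comm]; exact h
  have hk4 : 4 ≤ Nat.card (rhoE s).ker := by
    simpa using Nat.card_le_card_of_injective f hf
  have hL : Nat.card (eL s) = 80640 := by nlinarith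
  have hG' : Nat.card (eS s).G = 322560 := by omega
  refine ⟨fun x hx => ?_, hL, hG', ?_⟩
  · have hb := (Nat.bijective_iff_injective_and_card f).2 ⟨hf, by rw [Nat.card_fin]; rw [hL] at hk; omega⟩
    obtain ⟨a, ha⟩ := hb.2 ⟨x, hx⟩
    exact ⟨a, ⟨(cond s 2 0 * (a : ℕ)) % 4, Nat.mod_lt _ (by norm_num)⟩, (congrArg Subtype.val ha)⟩
  · intro t ht t' ht' y hy y' hy' e
    have hb := hm.bijective_of_nat_card_le (by rw [Nat.card_prod, Nat.card_fin, hL, hG'])
    have h := hb.1 (a₁ := (⟨t, ht⟩, ⟨y, hy⟩)) (a₂ := (⟨t', ht'⟩, ⟨y', hy'⟩)) (Subtype.ext e)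
    simpa using h

theorem rhoE_ker_le : (rhoE s).ker ≤ Z0 := (ker_facts s).1

theorem card_eL : Nat.card (eL s) = 80640 := (ker_facts s).2.1

theorem card_eG : Nat.card (eS s).G = 322560 := (ker_facts s).2.2.1

/-- the outer part of an element of the block -/
noncomputable def typE (x : Equiv.Perm (Fin (eS s).N)) : ℕ :=
  Classical.epsilon fun t => t < 4 ∧ ∃ y ∈ eL s, x = y * oE s t

theorem typE_spec {x : Equiv.Perm (Fin (eS s).N)} (hx : x ∈ (eS s).G) :
    typE s x < 4 ∧ ∃ y ∈ eL s, x = y * oE s (typE s x) := by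
  obtain ⟨w, hw, e⟩ := Sys.exists_word (sysFacts s).sok hx
  obtain ⟨ht, y, hy, e'⟩ := word_decomp s hw
  exact Classical.epsilon_spec (p := fun t => t < 4 ∧ ∃ y ∈ eL s, x = y * oE s t)
    ⟨_, ht, y, hy, e.symm.trans e'⟩

theorem typE_eq {x : Equiv.Perm (Fin (eS s).N)} {t : ℕ} (ht : t < 4) {y : Equiv.Perm (Fin (eS s).N)}
    (hy : y ∈ eL s) (e : x = y * oE s t) : typE s x = t := by
  have hx : x ∈ (eS s).G := e ▸ mul_mem (eL_le s hy) (oE_mem s t)
  obtain ⟨ht', y', hy', e'⟩ := typE_spec s hx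
  exact ((ker_facts s).2.2.2 _ ht' _ ht y' hy' y hy (e'.symm.trans e)).1

theorem typE_ev {w : List ℕ} (hw : (eS s).letOK w = true) : typE s ((eS s).ev w) = wT w := by
  obtain ⟨ht, y, hy, e⟩ := word_decomp s hw
  exact typE_eq s ht hy e

theorem wT_append : ∀ v w : List ℕ, wT (v ++ w) = Nat.xor (wT v) (wT w)
  | [], w => (Nat.zero_xor _).symm
  | g :: v, w => by
    show Nat.xor (letT g) (wT (v ++ w)) = Nat.xor (Nat.xor (letT g) (wT v)) (wT w)
    rw [wT_append v w]
    exact (Nat.xor_assoc _ _ _).symm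

theorem typE_mul {x y : Equiv.Perm (Fin (eS s).N)} (hx : x ∈ (eS s).G) (hy : y ∈ (eS s).G) :
    typE s (x * y) = Nat.xor (typE s x) (typE s y) := by
  obtain ⟨v, hv, rfl⟩ := Sys.exists_word (sysFacts s).sok hx
  obtain ⟨w, hw, rfl⟩ := Sys.exists_word (sysFacts s).sok hy
  rw [← Sys.ev_append, typE_ev s hv, typE_ev s hw, typE_ev s (Sys.letOK_append.2 ⟨hv, hw⟩),
    wT_append]

theorem typE_eq_zero {x : Equiv.Perm (Fin (eS s).N)} (hx : x ∈ (eS s).G) :
    typE s x = 0 ↔ x ∈ eL s := by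
  have h1 : oE s 0 = 1 := rfl
  refine ⟨fun h => ?_, fun h => typE_eq s (by norm_num) h (by rw [h1, mul_one])⟩
  obtain ⟨-, y, hy, e⟩ := typE_spec s hx
  rw [h, h1, mul_one] at e
  exact e ▸ hy

theorem eL_normal {x y : Equiv.Perm (Fin (eS s).N)} (hx : x ∈ (eS s).G) (hy : y ∈ eL s) :
    x * y * x⁻¹ ∈ eL s := by
  have hyG := eL_le s hy
  refine (typE_eq_zero s (mul_mem (mul_mem hx hyG) (inv_mem hx))).1 ?_
  have h1 : typE s 1 = 0 := typE_eq s (by norm_num) (one_mem (eL s)) (by rw [one_mul]; rfl)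
  have h2 : Nat.xor (typE s x) (typE s x⁻¹) = 0 := by
    rw [← typE_mul s hx (inv_mem hx), mul_inv_cancel, h1]
  rw [typE_mul s (mul_mem hx hyG) (inv_mem hx), typE_mul s hx hyG, (typE_eq_zero s hyG).2 hy,
    show Nat.xor (typE s x) 0 = typE s x from Nat.xor_zero _, h2]

end CfsgLib.ONStd
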