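import Cfsg.Agent.Lib.ONStd.Pair

/-!
In a normalised pair the central element of each copy is a root of the inner involution of the other,
and the centraliser of a copy has one involution.
-/

set_option autoImplicit false
set_option linter.style.haveILetI false
set_option linter.unusedSectionVars false
set_option maxRecDepth 8000

namespace CfsgLib.ONStd

open CfsgLib.ONUnique

universe u

variable {s : Bool}

theorem four_pow_sq {z : PE s} (hz : IsZ s z) {x : PE s} (hx : x ∈ eL s) :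
    x * z * (x * z) = x * x * (z * z) := by
  calc x * z * (x * z) = x * (z * x) * z := by group
    _ = x * (x * z) * z := by rw [isZ_comm hz hx]
    _ = _ := by group

theorem cand_key : ∀ i ∈ candI false,
    mu false i i = kuI false ∨ mu false i i = mu false (kuI false) (zc false 2) := by decide +kernel

theorem cand_sq {y : PE false} (h : Cand false y) :
    y * y = uE false ∨ y * y = uE false * cE false ^ 2 := by
  obtain ⟨i, hi, rfl⟩ := h
  have hl := (cand_lt hi).1
  rw [← (xE_mu hl hl).2]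
  rcases cand_key i hi with e | e <;> rw [e]
  · exact Or.inl (lstFacts false).ku.2
  · refine Or.inr ?_
    rw [(xE_mu (lstFacts false).ku.1 ((lstFacts false).zc 2 (by norm_num)).1).2, (lstFacts false).ku.2,
      ((lstFacts false).zc 2 (by norm_num)).2]

theorem cand0_four_notZ {y : PE false} (h : Cand0 false y) : ¬ IsZ false y ∧ ∀ z, IsZ false z → y * z ≠ uE false := by
  obtain ⟨hC, hyy⟩ := cand0_facts h
  have hy := (cand_mem hC).1
  obtain ⟨t, ht, hne⟩ := typeFacts.nc y hC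
  refine ⟨fun hz => hne (isZ_comm hz ht.1), fun z hz e => ?_⟩
  refine uE_not_isZ false ?_
  have h2 := four_pow_sq hz hy
  rw [e, uE_sq, hyy] at h2
  rw [eq_inv_of_mul_eq_one_left h2.symm]
  exact isZ_inv false (isZ_mul false hz hz)

namespace Ctx

variable {G : Type u} [Group G] (c : Ctx G s)

/-- Commuting elements act commuting modulo the centre. -/
theorem comZ_of_comm {n m : G} {e f : PE s} (hn : c.Acts n e) (hm : c.Acts m f) (h : n * m = m * n) :
    ComZ s e f :=
  ⟨(f * e)⁻¹ * (e * f), c.acts_unique (c.acts_mul hm hn) (h ▸ c.acts_mul hn hm), by group⟩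

theorem act_XX {n : G} {e : PE s} (h : c.Acts n e) (hu : n * c.u = c.u * n) : e ∈ XX s :=
  ⟨h.1, mem_cent_iff.2 ((c.acts_comm_iff h (uL s)).1 hu)⟩

/-- the inner elements centralising the inner involution that centralise another copy -/
noncomputable def common (d : Ctx G s) : Subgroup (PE s) where
  carrier := {t | ∃ ht : t ∈ TT s, c.ι ⟨t, ht.1⟩ ∈ d.K}
  one_mem' := ⟨one_mem _, by
    rw [show (⟨1, (one_mem (TT s)).1⟩ : eL s) = 1 from rfl, map_one]; exact one_mem _⟩
  mul_mem' := fun {a b} ha hb => ⟨mul_mem ha.1 hb.1, by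
    rw [show (⟨a * b, (mul_mem ha.1 hb.1).1⟩ : eL s) = ⟨a, ha.1.1⟩ * ⟨b, hb.1.1⟩ from rfl, map_mul]
    exact mul_mem ha.2 hb.2⟩
  inv_mem' := fun {a} ha => ⟨inv_mem ha.1, by
    rw [show (⟨a⁻¹, (inv_mem ha.1).1⟩ : eL s) = (⟨a, ha.1.1⟩ : eL s)⁻¹ from rfl, map_inv]
    exact inv_mem ha.2⟩

/-- the pairs of an inner element and its action on another copy -/
noncomputable def relA (d : Ctx G s) : Subgroup (PE s × PE s) where
  carrier := {q | ∃ ht : q.1 ∈ TT s, q.2 ∈ XX s ∧ d.Acts (c.ι ⟨q.1, ht.1⟩) q.2}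
  one_mem' := ⟨one_mem _, one_mem _, by
    show d.Acts (c.ι ⟨1, _⟩) 1
    rw [show (⟨1, (one_mem (TT s)).1⟩ : eL s) = 1 from rfl, map_one]; exact d.acts_one⟩
  mul_mem' := fun {a b} ha hb => ⟨mul_mem ha.1 hb.1, mul_mem ha.2.1 hb.2.1, by
    show d.Acts (c.ι ⟨a.1 * b.1, _⟩) (a.2 * b.2)
    rw [show (⟨a.1 * b.1, (mul_mem ha.1 hb.1).1⟩ : eL s) = ⟨a.1, ha.1.1⟩ * ⟨b.1, hb.1.1⟩ from rfl, map_mul]
    exact d.acts_mul ha.2.2 hb.2.2⟩
  inv_mem' := fun {a} ha => ⟨inv_mem ha.1, inv_mem ha.2.1, by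
    show d.Acts (c.ι ⟨a.1⁻¹, _⟩) a.2⁻¹
    rw [show (⟨a.1⁻¹, (inv_mem ha.1).1⟩ : eL s) = (⟨a.1, ha.1.1⟩ : eL s)⁻¹ from rfl, map_inv]
    exact d.acts_inv ha.2.2⟩

/-- the actions of the inner elements on another copy -/
noncomputable def img (d : Ctx G s) : Subgroup (PE s) := (c.relA d).map (MonoidHom.snd _ _)

end Ctx

namespace Pair

variable {G : Type u} [Group G] {c d : Ctx G s} (p : Pair c d)

include p

theorem cc_mem : c.cc ∈ d.N :=
  d.mem_N.2 (by rw [p.hd]; exact (c.mem_K.1 c.cc_mem_K (uL s)).symm)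

variable [Finite G]

theorem cc_comm : c.cc * d.cc = d.cc * c.cc := by
  rcases d.cc_conj p.cc_mem with h | h
  · exact mul_inv_eq_iff_eq_mul.1 h
  rcases c.cc_conj p.symm.cc_mem with h' | h'
  · exact (mul_inv_eq_iff_eq_mul.1 h').symm
  exfalso
  have e1 : c.cc * d.cc * c.cc⁻¹ * d.cc⁻¹ = (d.z)⁻¹ := by
    rw [h, d.z_eq, mul_inv_rev]
  have e2 : c.cc * d.cc * c.cc⁻¹ * d.cc⁻¹ = c.z := by
    calc c.cc * d.cc * c.cc⁻¹ * d.cc⁻¹ = c.cc * (d.cc * c.cc * d.cc⁻¹)⁻¹ := by group
      _ = c.z := by rw [h', inv_inv, c.z_eq]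
  refine c.u_notMem_K ?_
  rw [← p.hd, ← inv_inv d.z, ← e1, e2]
  exact inv_mem c.z_mem_K

theorem tt_mem_N {t : PE s} (ht : t ∈ TT s) : c.ι ⟨t, ht.1⟩ ∈ d.N := d.mem_N.2 (by
  rw [p.hd, Ctx.u, ← map_mul, ← map_mul]
  exact congrArg c.ι (Subtype.ext (mem_cent_iff.1 ht.2)))

theorem cand_of_act {f : PE s} (hf : c.Acts d.cc f) : Cand s f := by
  have hfX : f ∈ XX s := c.act_XX hf (by rw [← p.hd]; exact d.iota_comm_z (cL s))
  have hfc : f * cE s = cE s * f := (c.acts_comm_iff hf (cL s)).1 p.cc_comm.symm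
  have h1 : c.Acts d.z (f * f) := d.z_eq ▸ c.acts_mul hf hf
  have h2 : c.Acts d.z (uE s) := by rw [p.hd]; exact c.acts_iota (uL s)
  refine two_fact hfX (c.acts_unique h1 h2) (mul_inv_cancel_left _ _) hfc fun t ht => ?_
  rcases d.cc_conj (p.tt_mem_N ht) with h | h
  · exact Or.inl ((c.acts_comm_iff hf ⟨t, ht.1⟩).1 (mul_inv_eq_iff_eq_mul.1 h).symm)
  · refine Or.inr ?_
    have happ := c.acts_apply hf ⟨t, ht.1⟩
    have e : c.ι ⟨_, eL_normal s hf.1 ht.1⟩ = c.ι (uL s * ⟨t, ht.1⟩) := by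
      rw [← happ, map_mul, show c.ι (uL s) = d.z from p.hd.symm, d.z_eq]
      have : d.cc * c.ι ⟨t, ht.1⟩ * d.cc⁻¹ = d.cc * d.cc * c.ι ⟨t, ht.1⟩ := by
        have h' := mul_inv_eq_iff_eq_mul.1 h
        calc d.cc * c.ι ⟨t, ht.1⟩ * d.cc⁻¹ = d.cc * (c.ι ⟨t, ht.1⟩ * d.cc⁻¹) := by group
          _ = d.cc * (d.cc * c.ι ⟨t, ht.1⟩) := by
            congr 1
            rw [mul_inv_eq_iff_eq_mul]
            calc c.ι ⟨t, ht.1⟩ = d.cc * (d.cc⁻¹ * c.ι ⟨t, ht.1⟩) := by group
              _ = _ := by rw [← h']; group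
          _ = _ := by group
      exact this
    have e' : f * t * f⁻¹ = uE s * t := congrArg Subtype.val (c.inj e)
    rw [← mul_assoc]
    exact mul_inv_eq_iff_eq_mul.1 e'

theorem cls_false : s = false := by
  obtain ⟨f, hf⟩ := c.exists_act (n := d.cc) (c.mem_N.2 (by rw [p.hc]; exact (d.mem_K.1 d.cc_mem_K (uL s)).symm))
  cases s
  · rfl
  · exact absurd (p.cand_of_act hf) (cand_true f)

end Pair

namespace Pair

variable {G : Type u} [Group G] [Finite G] {c d : Ctx G false} (p : Pair c d)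

include p

theorem root_weak : ∃ y, ∃ hy : y ∈ eL false, ∃ k ∈ c.K,
    Cand0 false y ∧ d.cc = c.ι ⟨y, hy⟩ * k ∧ k * k = 1 := by
  obtain ⟨f, hf⟩ := c.exists_act p.symm.cc_mem
  have hC := p.cand_of_act hf
  obtain ⟨y, hy0, hyf⟩ : ∃ y, Cand0 false y ∧ c.Acts d.cc y := by
    rcases cand_sq hC with e | e
    · exact ⟨f, cand0_of hC e, hf⟩
    · have hz : IsZ false (cE false) := by simpa using isZ_pow false 1
      have hA := c.acts_isZ hf hz
      refine ⟨f * cE false, cand0_of (p.cand_of_act hA) ?_, hA⟩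
      rw [four_pow_sq hz (cand_mem hC).1, e, mul_assoc, ← pow_two, ← pow_add, cE_four, mul_one]
  obtain ⟨hCy, hyy⟩ := cand0_facts hy0
  have hym := (cand_mem hCy).1
  set k := (c.ι ⟨y, hym⟩)⁻¹ * d.cc with hk
  have hkK : k ∈ c.K := (c.acts_K_iff (c.acts_mul (c.acts_inv (c.acts_iota ⟨y, hym⟩)) hyf)).2
    ⟨0, by norm_num, by rw [pow_zero]; exact inv_mul_cancel _⟩
  refine ⟨y, hym, k, hkK, hy0, by rw [hk, mul_inv_cancel_left], ?_⟩
  have h1 : d.cc * d.cc = c.ι ⟨y, hym⟩ * c.ι ⟨y, hym⟩ * (k * k) := by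
    calc d.cc * d.cc = c.ι ⟨y, hym⟩ * (k * c.ι ⟨y, hym⟩) * k := by rw [hk]; group
      _ = c.ι ⟨y, hym⟩ * (c.ι ⟨y, hym⟩ * k) * k := by rw [c.mem_K.1 hkK]
      _ = _ := by group
  rw [← d.z_eq, p.hd, ← map_mul,
    show (⟨y, hym⟩ : eL false) * ⟨y, hym⟩ = uL false from Subtype.ext hyy] at h1
  exact (mul_eq_left.1 h1.symm)

theorem u_mem_common : uE false ∈ c.common d :=
  ⟨⟨uE_mem false, mem_cent_iff.2 rfl⟩, by
    show c.u ∈ d.K
    rw [← p.hd]; exact d.z_mem_K⟩

theorem z_notMem_common : cE false ^ 2 ∉ c.common d := by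
  rintro ⟨ht, h⟩
  refine d.u_notMem_K ?_
  rw [← p.hc]
  rwa [show (⟨cE false ^ 2, ht.1⟩ : eL false) = cL false ^ 2 from Subtype.ext (cL_pow 2).symm] at h

theorem uz_notMem_common : uE false * cE false ^ 2 ∉ c.common d := fun h => p.z_notMem_common (by
  have := mul_mem (inv_mem p.u_mem_common) h
  rwa [inv_mul_cancel_left] at this)

theorem common_normal {t r : PE false} (ht : t ∈ c.common d) (hr : r ∈ TT false) :
    ∃ q ∈ c.common d, t * r = q * (r * t) := by
  refine ⟨t * (r * t⁻¹ * r⁻¹), mul_mem ht ⟨mul_mem (mul_mem hr (inv_mem ht.1)) (inv_mem hr), ?_⟩, by group⟩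
  have h := d.conj_K (p.tt_mem_N hr) (inv_mem ht.2)
  rw [← map_inv, ← map_inv, ← map_mul, ← map_mul] at h
  exact h

theorem common_four {y : PE false} (hy : y ∈ c.common d) (h1 : y ≠ 1) (hu : y ≠ uE false) :
    Cand0 false y ∧ ∀ t ∈ c.common d, Four false y t :=
  common_bound (Y := (c.common d : Set (PE false))) (fun t ht => ht.1) (fun a ha b hb => mul_mem ha hb)
    (fun a ha => inv_mem ha) p.z_notMem_common p.uz_notMem_common
    (fun t ht r hr => p.common_normal ht hr) y hy h1 hu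

theorem card_common : Nat.card (c.common d) ≤ 4 ∧
    (3 ≤ Nat.card (c.common d) → ∃ y ∈ c.common d, Cand0 false y ∧ ∀ t ∈ c.common d, Four false y t) := by
  classical
  by_cases h : ∃ y ∈ c.common d, y ≠ 1 ∧ y ≠ uE false
  · obtain ⟨y, hy, h1, hu⟩ := h
    obtain ⟨hC, hF⟩ := p.common_four hy h1 hu
    refine ⟨?_, fun _ => ⟨y, hy, hC, hF⟩⟩
    have hsub : (c.common d : Set (PE false)) ⊆
        (({1, uE false, y, y * uE false} : Finset (PE false)) : Set (PE false)) := fun t ht => by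
      rcases hF t ht with e | e | e | e <;> simp [e]
    have := Set.ncard_le_ncard hsub (Finset.finite_toSet _)
    rw [Set.ncard_coe_finset, ← Nat.card_coe_set_eq] at this
    exact this.trans Finset.card_le_four
  · push Not at h
    have hsub : (c.common d : Set (PE false)) ⊆ (({1, uE false} : Finset (PE false)) : Set (PE false)) := by
      intro t ht
      by_cases e : t = 1
      · simp [e]
      · simp [h t ht e]
    have := Set.ncard_le_ncard hsub (Finset.finite_toSet _)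
    rw [Set.ncard_coe_finset, ← Nat.card_coe_set_eq] at this
    have h2 := this.trans Finset.card_le_two
    change Nat.card (c.common d) ≤ 2 at h2
    exact ⟨by omega, fun h3 => by omega⟩

theorem img_le : c.img d ≤ XX false := by
  rintro _ ⟨q, hq, rfl⟩
  exact hq.2.1

theorem card_img : Nat.card (c.img d) * Nat.card (c.common d) = 512 := by
  classical
  let f1 : c.relA d →* TT false :=
    ((MonoidHom.fst _ _).comp (c.relA d).subtype).codRestrict _ fun q => q.2.1
  let f2 : c.relA d →* PE false := (MonoidHom.snd _ _).comp (c.relA d).subtype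
  have hs : Function.Surjective f1 := fun t => by
    obtain ⟨x, hx⟩ := d.exists_act (p.tt_mem_N t.2)
    refine ⟨⟨(t, x), t.2, d.act_XX hx ?_, hx⟩, rfl⟩
    rw [← p.hc]
    exact c.iota_comm_z _
  have hk1 : Nat.card f1.ker = 4 := by
    let g : Fin 4 → f1.ker := fun l => ⟨⟨(1, cE false ^ (l : ℕ)), one_mem _,
      pow_mem (show cE false ∈ XX false from ⟨eL_le false (cE_mem false), mem_cent_iff.2 (cE_comm false (uE_mem false))⟩) _, by
        show d.Acts (c.ι ⟨1, _⟩) _
        rw [show (⟨1, (one_mem (TT false)).1⟩ : eL false) = 1 from rfl, map_one, ← one_mul (cE false ^ (l : ℕ))]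
        exact d.acts_isZ d.acts_one (isZ_pow false l)⟩, by rw [MonoidHom.mem_ker]; exact Subtype.ext rfl⟩
    have hg : Function.Bijective g := by
      refine ⟨fun a b e => ?_, fun q => ?_⟩
      · have e' := congrArg (fun r : f1.ker => ((r : c.relA d) : PE false × PE false).2) e
        simp only [g] at e'
        by_contra hne
        rcases Nat.lt_or_ge (a : ℕ) b with h | h
        · refine cE_pow_ne false (l := b - a) (by omega) (by omega) (mul_left_cancel (a := cE false ^ (a : ℕ)) ?_)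
          rw [← pow_add, Nat.add_sub_cancel' h.le, mul_one, e']
        · refine cE_pow_ne false (l := a - b) (by omega) (by omega) (mul_left_cancel (a := cE false ^ (b : ℕ)) ?_)
          rw [← pow_add, Nat.add_sub_cancel' h, mul_one, e']
      · obtain ⟨⟨⟨t, x⟩, ht, hx, hA⟩, hq⟩ := q
        have ht1 : t = 1 := congrArg Subtype.val (MonoidHom.mem_ker.1 hq)
        subst ht1
        change d.Acts (c.ι 1) x at hA
        rw [map_one] at hA
        obtain ⟨l, hl, e⟩ := (d.acts_K_iff hA).1 d.K.one_mem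
        exact ⟨⟨l, hl⟩, Subtype.ext (Subtype.ext (Prod.ext rfl e.symm))⟩
    rw [← Nat.card_eq_of_bijective g hg, Nat.card_fin]
  have hr2 : Nat.card f2.range = Nat.card (c.img d) := by
    rw [show f2.range = c.img d by rw [MonoidHom.range_comp, Subgroup.range_subtype]; rfl]
  have hk2 : Nat.card f2.ker = Nat.card (c.common d) := by
    refine Nat.card_congr
      { toFun := fun q => ⟨((q : c.relA d) : PE false × PE false).1, ?_⟩
        invFun := fun t => ⟨⟨((t : PE false), 1), t.2.1, one_mem _, d.acts_K t.2.2⟩,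
          by rw [MonoidHom.mem_ker]; rfl⟩
        left_inv := fun q => ?_
        right_inv := fun t => rfl }
    · obtain ⟨⟨⟨t, x⟩, ht, hx, hA⟩, hq⟩ := q
      have hx1 : x = 1 := MonoidHom.mem_ker.1 hq
      subst hx1
      exact ⟨ht, (d.acts_K_iff hA).2 ⟨0, by norm_num, (pow_zero _).symm⟩⟩
    · obtain ⟨⟨⟨t, x⟩, ht, hx, hA⟩, hq⟩ := q
      have hx1 : x = 1 := MonoidHom.mem_ker.1 hq
      subst hx1
      rfl
  have h1 := f1.ker.card_mul_index
  rw [Subgroup.index_ker, hk1, MonoidHom.range_eq_top.2 hs, Subgroup.card_top, (card_cent false).2.1] at h1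
  have h2 := f2.ker.card_mul_index
  rw [Subgroup.index_ker, hk2, hr2] at h2
  rw [mul_comm, h2, ← h1]

/-- An element of `K` squaring to `1` or to the central generator acts as an element of the four. -/
theorem small {v : G} (hv : v ∈ c.K) (hsq : v * v = 1 ∨ v * v = c.cc) :
    ∃ y2, Cand0 false y2 ∧ d.Acts c.cc y2 ∧
      ∃ f, d.Acts v f ∧ ∃ z, IsZ false z ∧ Four false y2 (f * z) := by
  classical
  obtain ⟨y2, hy2, k2, hk2, hC, ecc, -⟩ := p.symm.root_weak
  have hA2 : d.Acts c.cc y2 := by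
    have := d.acts_mul (d.acts_iota ⟨y2, hy2⟩) (d.acts_K hk2)
    rw [mul_one] at this
    rw [ecc]; exact this
  obtain ⟨hCy, hyy⟩ := cand0_facts hC
  refine ⟨y2, hC, hA2, ?_⟩
  have hvN : v ∈ d.N := d.mem_N.2 (by rw [p.hd]; exact (c.mem_K.1 hv (uL false)).symm)
  obtain ⟨f, hf⟩ := d.exists_act hvN
  have hfX : f ∈ XX false := d.act_XX hf (by rw [← p.hc]; exact (c.mem_K.1 hv _).symm)
  refine ⟨f, hf, ?_⟩
  by_contra hno
  push Not at hno
  have hfy : ComZ false f y2 := d.comZ_of_comm hf hA2 (c.mem_K.1 hv (cL false)).symm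
  have hne : ∀ z, IsZ false z → f * z ≠ 1 ∧ f * z ≠ uE false ∧ f * z ≠ y2 ∧ f * z ≠ y2 * uE false :=
    fun z hz => ⟨fun e => hno z hz (Or.inl e), fun e => hno z hz (Or.inr (Or.inl e)),
      fun e => hno z hz (Or.inr (Or.inr (Or.inl e))), fun e => hno z hz (Or.inr (Or.inr (Or.inr e)))⟩
  have hff : ∃ z, IsZ false z ∧ (f * f * z = 1 ∨ f * f * z = y2 ∨ f * f * z = y2 * (y2 * y2)) := by
    have h1 := d.acts_mul hf hf
    rcases hsq with e | e <;> rw [e] at h1
    · exact ⟨_, d.acts_unique h1 d.acts_one, Or.inl (mul_inv_cancel_left _ _)⟩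
    · exact ⟨_, d.acts_unique h1 hA2, Or.inr (Or.inl (mul_inv_cancel_left _ _))⟩
  have h128 := three_fact hCy hfX hfy hff hne
  have himg : ∀ x ∈ c.img d, x ∈ XX false ∧ ComZ false x y2 ∧ ComZ false x f := by
    rintro _ ⟨⟨t, x⟩, ⟨ht, hx, hA⟩, rfl⟩
    exact ⟨hx, d.comZ_of_comm hA hA2 (c.mem_K.1 c.cc_mem_K _), d.comZ_of_comm hA hf (c.mem_K.1 hv _)⟩
  let g : c.img d → {x : PE false // x ∈ XX false ∧ ComZ false x y2 ∧ ComZ false x f} :=
    fun x => ⟨x, himg x x.2⟩
  have hg : Function.Injective g := fun a b e => Subtype.ext (show (g a).1 = (g b).1 from congrArg Subtype.val e)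
  have hle := (Nat.card_le_card_of_injective g hg).trans h128
  have hcI := p.card_img
  obtain ⟨h4, h4'⟩ := p.card_common
  have hc4 : Nat.card (c.common d) = 4 := by nlinarith
  have hi128 : Nat.card (c.img d) = 128 := by rw [hc4] at hcI; omega
  have hb : Function.Bijective g :=
    hg.bijective_of_nat_card_le (by rw [hi128]; exact h128)
  obtain ⟨⟨x0, hx0⟩, ex⟩ := hb.2 ⟨f, hfX, hfy, ⟨1, ⟨0, by norm_num, (pow_zero _).symm⟩, by rw [mul_one]⟩⟩
  obtain ⟨⟨t, x⟩, ⟨ht, hx, hA⟩, e0⟩ := hx0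
  have hxf : x = f := e0.trans (congrArg Subtype.val ex)
  obtain ⟨y, hy, hyC, hyF⟩ := h4' (by omega)
  have hcomm : ∀ r ∈ TT false, ∃ q, Four false y q ∧ t * r = q * (r * t) := by
    intro r hr
    obtain ⟨xr, hxr⟩ := d.exists_act (p.tt_mem_N hr)
    have hxrX : xr ∈ XX false := d.act_XX hxr (by rw [← p.hc]; exact c.iota_comm_z _)
    obtain ⟨z, hz, e⟩ := (himg xr ⟨(r, xr), ⟨hr, hxrX, hxr⟩, rfl⟩).2.2
    refine ⟨t * (r * t⁻¹ * r⁻¹), hyF _ ⟨mul_mem ht (mul_mem (mul_mem hr (inv_mem ht)) (inv_mem hr)), ?_⟩,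
      by group⟩
    have h1 := d.acts_mul hA (d.acts_mul (d.acts_mul hxr (d.acts_inv hA)) (d.acts_inv hxr))
    rw [← map_inv, ← map_inv, ← map_mul, ← map_mul, ← map_mul] at h1
    refine (d.acts_K_iff h1).2 ?_
    rw [hxf, show f * (xr * f⁻¹ * xr⁻¹) = f * xr * (xr * f)⁻¹ by group, e,
      show f * xr * (f * xr * z)⁻¹ = f * xr * z⁻¹ * (f * xr)⁻¹ by group]
    obtain ⟨l, -, el⟩ := isZ_inv false hz
    rw [el]
    refine isZ_of_central false (mul_mem (mul_mem (mul_mem hf.1 hxr.1) (eL_le false (pow_mem (cE_mem false) l)))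
      (inv_mem (mul_mem hf.1 hxr.1))) fun y hy => ?_
    have hy' : (f * xr)⁻¹ * y * (f * xr) ∈ eL false := by
      have := eL_normal false (inv_mem (mul_mem hf.1 hxr.1)) hy
      rwa [inv_inv] at this
    calc f * xr * cE false ^ l * (f * xr)⁻¹ * y
        = f * xr * (cE false ^ l * ((f * xr)⁻¹ * y * (f * xr))) * (f * xr)⁻¹ := by group
      _ = f * xr * (((f * xr)⁻¹ * y * (f * xr)) * cE false ^ l) * (f * xr)⁻¹ := by rw [cE_pow_comm false l hy']
      _ = _ := by group
  obtain ⟨_, ⟨l, hl, rfl⟩, q, hq, et⟩ := common_centre hyC ht hcomm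
  have hqc : q ∈ c.common d := by
    rcases hq with rfl | rfl | rfl | rfl
    exacts [one_mem _, p.u_mem_common, hy, mul_mem hy p.u_mem_common]
  have hA' : d.Acts (c.ι ⟨t, ht.1⟩) (y2 ^ l) := by
    rw [show (⟨t, ht.1⟩ : eL false) = ⟨q, hqc.1.1⟩ * cL false ^ l from Subtype.ext (by
      rw [Subgroup.coe_mul, cL_pow]; exact et), map_mul, map_pow, ← one_mul (y2 ^ l)]
    exact d.acts_mul (d.acts_K hqc.2) (d.acts_pow hA2 l)
  rw [hxf] at hA
  refine hno _ (d.acts_unique hA hA') ?_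
  rw [mul_inv_cancel_left]
  interval_cases l
  · exact Or.inl (pow_zero _)
  · exact Or.inr (Or.inr (Or.inl (pow_one _)))
  · exact Or.inr (Or.inl (by rw [pow_two, hyy]))
  · exact Or.inr (Or.inr (Or.inr (by rw [pow_succ', pow_two, hyy])))

/-- The centraliser of a copy has one involution. -/
theorem K_invol {v : G} (hv : v ∈ c.K) (h2 : v * v = 1) : v = 1 ∨ v = c.z := by
  obtain ⟨y2, hC, -, f, hf, z, hz, hfour⟩ := p.small hv (Or.inl h2)
  obtain ⟨hnZ, hnu⟩ := cand0_four_notZ hC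
  obtain ⟨hCy, hyy⟩ := cand0_facts hC
  have hym := (cand_mem hCy).1
  have hfm : f = f * z * z⁻¹ := (mul_inv_cancel_right f z).symm
  have hffZ : IsZ false (f * f) :=
    (d.acts_K_iff (d.acts_mul hf hf)).1 (by rw [h2]; exact one_mem _)
  have contra : ∀ w ∈ eL false, w * w = uE false → f = w * z⁻¹ → False := fun w hw hww e => by
    refine uE_not_isZ false ?_
    rw [e, four_pow_sq (isZ_inv false hz) hw, hww] at hffZ
    have := isZ_mul false hffZ (isZ_mul false hz hz)
    rwa [show uE false * (z⁻¹ * z⁻¹) * (z * z) = uE false by group] at this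
  rcases hfour with e | e | e | e <;> rw [e] at hfm
  · left
    refine p.link v hv ((d.acts_K_iff hf).2 ?_) h2
    rw [hfm, one_mul]; exact isZ_inv false hz
  · right
    have hvz : v * c.z = 1 := by
      refine p.link _ (mul_mem hv c.z_mem_K) ((d.acts_K_iff (d.acts_mul hf
        (show d.Acts c.z (uE false) by rw [p.hc]; exact d.acts_iota (uL false)))).2 ?_) ?_
      · rw [hfm, mul_assoc, isZ_comm (isZ_inv false hz) (uE_mem false), ← mul_assoc, uE_sq, one_mul]
        exact isZ_inv false hz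
      · calc v * c.z * (v * c.z) = v * (c.z * v) * c.z := by group
          _ = v * (v * c.z) * c.z := by
            rw [show c.z * v = v * c.z from c.mem_K.1 hv (cL false ^ 2)]
          _ = v * v * (c.z * c.z) := by group
          _ = 1 := by rw [h2, c.z_sq, mul_one]
    exact (eq_inv_of_mul_eq_one_left hvz).trans (inv_eq_of_mul_eq_one_left c.z_sq)
  · exact (contra y2 hym hyy hfm).elim
  · refine (contra (y2 * uE false) (mul_mem hym (uE_mem false)) ?_ hfm).elim
    have hyu : uE false * y2 = y2 * uE false := by rw [← hyy]; group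
    calc y2 * uE false * (y2 * uE false) = y2 * (uE false * y2) * uE false := by group
      _ = y2 * (y2 * uE false) * uE false := by rw [hyu]
      _ = y2 * y2 * (uE false * uE false) := by group
      _ = _ := by rw [hyy, uE_sq, mul_one]

/-- No element of the centraliser of a copy squares to the central generator. -/
theorem K_no_eight {v : G} (hv : v ∈ c.K) : v * v ≠ c.cc := by
  intro h2
  obtain ⟨y2, hC, hA2, f, hf, z, hz, hfour⟩ := p.small hv (Or.inr h2)
  obtain ⟨hnZ, hnu⟩ := cand0_four_notZ hC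
  obtain ⟨hCy, hyy⟩ := cand0_facts hC
  have hym := (cand_mem hCy).1
  have hff : IsZ false ((f * f)⁻¹ * y2) :=
    d.acts_unique (d.acts_mul hf hf) (by rw [h2]; exact hA2)
  have hfm : f = f * z * z⁻¹ := (mul_inv_cancel_right f z).symm
  have hyu : uE false * y2 = y2 * uE false := by rw [← hyy]; group
  obtain ⟨w, hw, hww, hfw⟩ : ∃ w ∈ eL false, (w * w = 1 ∨ w * w = uE false) ∧ f = w * z⁻¹ := by
    rcases hfour with e | e | e | e <;> rw [e] at hfm
    · exact ⟨1, one_mem _, Or.inl (one_mul 1), hfm⟩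
    · exact ⟨_, uE_mem false, Or.inl (uE_sq false), hfm⟩
    · exact ⟨_, hym, Or.inr hyy, hfm⟩
    · refine ⟨_, mul_mem hym (uE_mem false), Or.inr ?_, hfm⟩
      calc y2 * uE false * (y2 * uE false) = y2 * (uE false * y2) * uE false := by group
        _ = y2 * (y2 * uE false) * uE false := by rw [hyu]
        _ = y2 * y2 * (uE false * uE false) := by group
        _ = _ := by rw [hyy, uE_sq, mul_one]
  rw [hfw, four_pow_sq (isZ_inv false hz) hw] at hff
  have hz2 := isZ_mul false (isZ_inv false hz) (isZ_inv false hz)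
  rcases hww with e | e <;> rw [e] at hff
  · refine hnZ ?_
    have := isZ_mul false hz2 hff
    rwa [one_mul, mul_inv_cancel_left] at this
  · obtain hZ := isZ_mul false hz2 hff
    rw [show (uE false * (z⁻¹ * z⁻¹))⁻¹ = (z⁻¹ * z⁻¹)⁻¹ * (uE false)⁻¹ from mul_inv_rev _ _] at hZ
    rw [← mul_assoc, ← mul_assoc, mul_inv_cancel, one_mul, inv_eq_of_mul_eq_one_left (uE_sq false)] at hZ
    refine hnu _ (isZ_inv false hZ) ?_
    rw [mul_inv_rev, inv_eq_of_mul_eq_one_left (uE_sq false), mul_inv_cancel_left]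

/-- The central element of the other copy is a root of the inner involution. -/
theorem root : ∃ y, ∃ hy : y ∈ eL false, Cand0 false y ∧ d.cc = c.ι ⟨y, hy⟩ := by
  obtain ⟨y, hy, k, hk, hC, e, h2⟩ := p.root_weak
  rcases p.K_invol hk h2 with rfl | rfl
  · exact ⟨y, hy, hC, by rw [e, mul_one]⟩
  · have hy' : y * cE false ^ 2 ∈ eL false := mul_mem hy (pow_mem (cE_mem false) 2)
    have e' : d.cc = c.ι ⟨y * cE false ^ 2, hy'⟩ := by
      rw [e, show (⟨y * cE false ^ 2, hy'⟩ : eL false) = ⟨y, hy⟩ * cL false ^ 2 from Subtype.ext (by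
        rw [Subgroup.coe_mul, cL_pow]), map_mul]
      rfl
    refine ⟨_, hy', cand0_of (p.cand_of_act (f := y * cE false ^ 2) ?_) ?_, e'⟩
    · rw [e']; exact c.acts_iota ⟨_, hy'⟩
    · rw [four_pow_sq (isZ_pow false 2) hy, (cand0_facts hC).2, ← pow_add, cE_four, mul_one]

end Pair

end CfsgLib.ONStd
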