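import Cfsg.Agent.Lib.ONStd.Tau

/-!
A centraliser made of the cover and one outer element has the shape asked for by the models.
-/

set_option autoImplicit false
set_option linter.style.haveILetI false
set_option linter.unusedSectionVars false
set_option maxRecDepth 8000

open scoped MatrixGroups

namespace CfsgLib.ONStd

open CfsgLib.ONUnique

universe u

variable {s : Bool}

theorem center_eL : Subgroup.center (eL s) = Subgroup.zpowers (cL s) := by
  refine le_antisymm (fun x hx => ?_) ?_
  · obtain ⟨l, -, e⟩ := center_eq.1 hx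
    rw [show x = cL s ^ l from Subtype.ext (by rw [cL_pow]; exact e)]
    exact Subgroup.npow_mem_zpowers _ l
  · rw [Subgroup.zpowers_le]
    exact center_eq.2 ⟨1, by norm_num, (pow_one _).symm⟩

theorem orderOf_cL : orderOf (cL s) = 4 := by
  haveI : Fact (Nat.Prime 2) := ⟨Nat.prime_two⟩
  have h := orderOf_eq_prime_pow (x := cL s) (p := 2) (n := 1) (fun e => cE_pow_ne s (l := 2)
    (by norm_num) (by norm_num) (by rw [← cL_pow]; exact congrArg Subtype.val e)) (Subtype.ext (by
      rw [cL_pow]; exact cE_four s))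
  exact h

theorem center_card : Nat.card (Subgroup.center (eL s)) = 4 := by
  rw [center_eL, Nat.card_zpowers, orderOf_cL]

theorem center_cyclic : IsCyclic (Subgroup.center (eL s)) := by
  rw [center_eL]
  infer_instance

theorem quot_iso : Nonempty (eL s ⧸ Subgroup.center (eL s) ≃* PSL(3, F4)) := by
  classical
  letI : Fintype F4 := Fintype.ofFinite F4
  obtain ⟨code, π, -, -, -, -, hπs, hπk, -⟩ := exists_piU (F := F4) card_F4
  let f : U →* eL s ⧸ Subgroup.center (eL s) :=
    (QuotientGroup.mk' _).comp (rhoE s).rangeRestrict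
  have hf : Function.Surjective f :=
    (QuotientGroup.mk'_surjective _).comp (rhoE s).rangeRestrict_surjective
  have hk : f.ker = π.ker := by
    rw [hπk]
    refine le_antisymm (fun x hx => ?_) fun x hx => ?_
    · have hx : ((rhoE s).rangeRestrict x : eL s) ∈ Subgroup.center (eL s) :=
        (QuotientGroup.eq_one_iff (G := eL s) _).1 (MonoidHom.mem_ker.1 hx)
      obtain ⟨l, -, e⟩ := center_eq.1 hx
      change rhoE s x = _ at e
      have hb : rhoE s (zb ^ l) = cE s ^ l := by
        have h := rhoE_z s 0 l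
        rw [pow_zero, one_mul] at h
        rw [h, cE_pow]; rfl
      have hm : x * (zb ^ l)⁻¹ ∈ (rhoE s).ker := by
        rw [MonoidHom.mem_ker, map_mul, map_inv, hb, e, mul_inv_cancel]
      have hzb : zb ^ l ∈ Z0 := pow_mem (show zb ∈ Z0 from ⟨0, 1, by simp⟩) l
      simpa using mul_mem (rhoE_ker_le s hm) hzb
    · refine MonoidHom.mem_ker.2 ((QuotientGroup.eq_one_iff _).2 (Subgroup.mem_center_iff.2 ?_))
      intro y
      obtain ⟨y', rfl⟩ := (rhoE s).rangeRestrict_surjective y
      have := congrArg (rhoE s).rangeRestrict (Subgroup.mem_center_iff.1 (Z0_le_center hx) y')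
      rw [map_mul, map_mul] at this
      exact this
  exact ⟨(QuotientGroup.quotientKerEquivOfSurjective f hf).symm.trans
    ((QuotientGroup.quotientMulEquivOfEq hk).trans (QuotientGroup.quotientKerEquivOfSurjective π hπs))⟩

/-- the cover and one outer element making up the centraliser of the central involution -/
structure StdC {H : Type u} [Group H] (ψ : eL s →* H) (v : H) : Prop where
  inj : Function.Injective ψ
  perf : commutator (eL s) = ⊤
  norm : ∀ x, v * ψ x * v⁻¹ ∈ ψ.range
  out : v ∉ ψ.range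
  vz : v * ψ (cL s ^ 2) = ψ (cL s ^ 2) * v
  cent : ∀ n, n * ψ (cL s ^ 2) = ψ (cL s ^ 2) * n → n ∈ ψ.range ∨ n * v⁻¹ ∈ ψ.range
  self : ∀ n, n * ψ (cL s ^ 2) = ψ (cL s ^ 2) * n → (∀ x, n * ψ x = ψ x * n) → n ∈ ψ.range

namespace StdC

variable {H : Type u} [Group H] [Finite H] {ψ : eL s →* H} {v : H} (S : StdC ψ v)

/-- the image of the cover in the centraliser -/
noncomputable def M (ψ : eL s →* H) : Subgroup (Subgroup.centralizer ({ψ (cL s ^ 2)} : Set H)) :=
  ψ.range.subgroupOf _

theorem range_le (ψ : eL s →* H) : ψ.range ≤ Subgroup.centralizer ({ψ (cL s ^ 2)} : Set H) := by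
  rintro _ ⟨x, rfl⟩
  rw [Subgroup.mem_centralizer_singleton_iff, ← map_mul, ← map_mul, pow_two,
    show x * (cL s * cL s) = cL s * cL s * x by
      rw [← mul_assoc, ← cL_comm, mul_assoc, ← cL_comm, ← mul_assoc]]

/-- the cover as the subgroup -/
noncomputable def equiv : eL s ≃* M ψ :=
  (MonoidHom.ofInjective S.inj).trans (Subgroup.subgroupOfEquivOfLe (range_le ψ)).symm

include S

theorem order_t : orderOf (ψ (cL s ^ 2)) = 2 := by
  rw [orderOf_injective ψ S.inj, orderOf_pow' _ (by norm_num), orderOf_cL]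
  norm_num

theorem index : (M ψ).index = 2 := by
  rw [Subgroup.index_eq_two_iff]
  refine ⟨⟨v, Subgroup.mem_centralizer_singleton_iff.2 S.vz⟩, fun b => ?_⟩
  have hb := Subgroup.mem_centralizer_singleton_iff.1 b.2
  have hbv : ((b : H) * v) * ψ (cL s ^ 2) = ψ (cL s ^ 2) * ((b : H) * v) := by
    rw [mul_assoc, S.vz, ← mul_assoc, hb, mul_assoc]
  rcases S.cent _ hb with h | h
  · refine Or.inr ⟨h, fun h' => S.out ?_⟩
    have := mul_mem (inv_mem h) (show (b : H) * v ∈ ψ.range from h')
    rwa [inv_mul_cancel_left] at this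
  · refine Or.inl ⟨?_, fun h' => S.out ?_⟩
    · show (b : H) * v ∈ ψ.range
      rcases S.cent _ hbv with h2 | h2
      · exact h2
      · rw [mul_inv_cancel_right] at h2
        exact (S.out (by simpa using mul_mem (inv_mem h) h2)).elim
    · have := mul_mem (inv_mem h) (show (b : H) ∈ ψ.range from h')
      simpa using this

theorem normal : (M ψ).Normal := Subgroup.normal_of_index_eq_two S.index

theorem hout : Subgroup.centralizer ((M ψ) : Set (Subgroup.centralizer ({ψ (cL s ^ 2)} : Set H))) ≤ M ψ := by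
  intro n hn
  refine S.self _ (Subgroup.mem_centralizer_singleton_iff.1 n.2) fun x => ?_
  have := Subgroup.mem_centralizer_iff.1 hn ⟨ψ x, range_le ψ ⟨x, rfl⟩⟩ ⟨x, rfl⟩
  exact (congrArg Subtype.val this).symm

theorem zcard : Nat.card (Subgroup.center (M ψ)) = 4 := by
  rw [← Nat.card_congr (Subgroup.centerCongr S.equiv).toEquiv, center_card]

theorem zcyclic : IsCyclic (Subgroup.center (M ψ)) := by
  haveI := center_cyclic (s := s)
  exact isCyclic_of_surjective (Subgroup.centerCongr S.equiv).toMonoidHom (Subgroup.centerCongr S.equiv).surjective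

theorem perfect : commutator (M ψ) = ⊤ := by
  haveI : Group.IsPerfect (eL s) := ⟨S.perf⟩
  haveI := Group.IsPerfect.ofSurjective (f := S.equiv.toMonoidHom) S.equiv.surjective
  exact Group.IsPerfect.commutator_eq_top

theorem quot : Nonempty (M ψ ⧸ Subgroup.center (M ψ) ≃* PSL(3, F4)) := by
  obtain ⟨e⟩ := quot_iso
  refine ⟨(QuotientGroup.congr _ _ S.equiv ?_).symm.trans e⟩
  ext x
  constructor
  · rintro ⟨y, hy, rfl⟩
    exact (Subgroup.centerCongr S.equiv ⟨y, hy⟩).2
  · intro hx
    exact ⟨_, ((Subgroup.centerCongr S.equiv).symm ⟨x, hx⟩).2, S.equiv.apply_symm_apply x⟩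

end StdC

end CfsgLib.ONStd
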