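import Cfsg.Agent.Lib.ONStd.Quot
import Cfsg.Agent.Lib.ONStd.Recog
import Cfsg.Agent.Lib.ONUnique.Top

/-!
The odd part of the centraliser of the copy is trivial, and the group is the O'Nan group.
-/

set_option autoImplicit false
set_option linter.style.haveILetI false
set_option linter.unusedSectionVars false
set_option maxRecDepth 8000

open scoped MatrixGroups

namespace CfsgLib.ONStd

open CfsgLib.ONUnique

universe u

theorem StdC.cent_card {H : Type u} [Group H] [Finite H] {ψ : eL false →* H} {v : H} (S : StdC ψ v) :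
    Nat.card (Subgroup.centralizer ({ψ (cL false ^ 2)} : Set H)) = 161280 := by
  have h := (StdC.M ψ).card_mul_index
  rw [S.index, ← Nat.card_congr S.equiv.toEquiv, card_eL] at h
  omega

variable {G : Type u} [Group G] [Finite G] [IsSimpleGroup G] {c : Ctx G false} {a h : G}

/-- A simple group with a pair of copies is the O'Nan group. -/
theorem iso_on_of_pair (p : Pair c ((c.conj h).conj a)) : Cfsg.Spor.IsoON G := by
  classical
  letI : Fintype F4 := Fintype.ofFinite F4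
  set d := (c.conj h).conj a with hd
  set g := a * h with hgd
  have hgu : g * c.z * g⁻¹ = c.u := by
    rw [← p.hd, hd, Ctx.conj_z, Ctx.conj_z, hgd]; group
  have hconj : ∃ g : G, g * c.z * g⁻¹ = c.u := ⟨g, hgu⟩
  set M := Subgroup.normalizer (p.oddPart : Set G) with hM
  have hsub : ∀ k ∈ p.oddPart, g * k * g⁻¹ ∈ p.oddPart := by
    intro k hk
    have ho : Odd (orderOf (g * k * g⁻¹)) := by rw [← MulAut.conj_apply, MulEquiv.orderOf_eq]; exact hk.2
    refine ⟨(p.odd_iff.2 ⟨?_, ho⟩).1, ho⟩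
    rw [show g * k * g⁻¹ = a * (h * k * h⁻¹) * a⁻¹ by rw [hgd]; group]
    exact Ctx.conj_K_mem (c.conj h) (Ctx.conj_K_mem c hk.1)
  have hgM : g ∈ M := Subgroup.mem_normalizer_fintype fun k hk => hsub k hk
  have hNM : c.N ≤ M := p.N_le
  have hzM : c.z ∈ M := hNM (c.iota_mem_N _)
  by_cases hbot : p.oddPart = ⊥
  · have hker : ∀ m : (⊤ : Subgroup G), (⊤ : Subgroup G).subtype m = 1 ↔ (m : G) ∈ p.oddPart := fun m => by
      rw [hbot, Subgroup.mem_bot]; rfl
    obtain ⟨v, S⟩ := p.stdC_of hconj (M := ⊤) le_top (Subgroup.subtype ⊤)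
      (fun x => ⟨⟨x, trivial⟩, rfl⟩) hker
    haveI := S.normal
    obtain ⟨e⟩ := S.quot
    exact iso_on _ S.order_t (StdC.M _) S.index S.hout S.zcyclic S.zcard S.perfect card_F4 e
  exfalso
  have hMtop : M ≠ ⊤ := fun e => by
    haveI : p.oddPart.Normal := Subgroup.normalizer_eq_top_iff.mp e
    have ht : p.oddPart = ⊤ := (Subgroup.Normal.eq_bot_or_eq_top inferInstance).resolve_left hbot
    have hz : c.z ∈ p.oddPart := ht ▸ Subgroup.mem_top _
    have ho := hz.2
    rw [c.orderOf_z] at ho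
    exact absurd ho (by decide)
  have heven : Even (Nat.card M) :=
    even_iff_two_dvd.mpr (c.orderOf_z ▸ Subgroup.orderOf_dvd_natCard _ hzM)
  have hinv : ∀ v ∈ M, orderOf v = 2 → ∃ k ∈ M, k * v * k⁻¹ = c.z := fun v hv h2 =>
    p.invol_conj hconj ⟨g, hgM, hgu⟩ hv h2
  have hse : Cfsg.IsStronglyEmbedded M := (CfsgLib.Invol.strongly_iff_centralizer_fusion hMtop heven).2
    ⟨fun v hv hv2 x hx => by
      obtain ⟨k, hk, ek⟩ := hinv v hv hv2
      have hx' : k * x * k⁻¹ ∈ c.N := c.mem_N.mpr (by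
        rw [← ek]
        calc k * x * k⁻¹ * (k * v * k⁻¹) = k * (x * v) * k⁻¹ := by group
          _ = k * (v * x) * k⁻¹ := by rw [Subgroup.mem_centralizer_singleton_iff.1 hx]
          _ = _ := by group)
      rw [show x = k⁻¹ * (k * x * k⁻¹) * k by group]
      exact mul_mem (mul_mem (inv_mem hk) (hNM hx')) hk,
    fun v hv w hw hv2 hw2 _ => by
      obtain ⟨k, hk, ek⟩ := hinv v hv hv2
      obtain ⟨k', hk', ek'⟩ := hinv w hw hw2
      refine ⟨k'⁻¹ * k, mul_mem (inv_mem hk') hk, ?_⟩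
      rw [show k'⁻¹ * k * v * (k'⁻¹ * k)⁻¹ = k'⁻¹ * (k * v * k⁻¹) * k' by group, ek, ← ek']
      group⟩
  set E := p.oddPart.subgroupOf M with hE
  haveI hEn : E.Normal := Subgroup.normal_in_normalizer
  set π := QuotientGroup.mk' E with hπ
  have hker : ∀ m : M, π m = 1 ↔ (m : G) ∈ p.oddPart := fun m => by
    rw [hπ, QuotientGroup.mk'_apply, QuotientGroup.eq_one_iff, hE, Subgroup.mem_subgroupOf]
  obtain ⟨v, S⟩ := p.stdC_of hconj hNM π (QuotientGroup.mk'_surjective E) hker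
  set ψ := π.comp (c.ι.codRestrict M fun x => hNM (c.iota_mem_N x)) with hψ
  haveI := S.normal
  obtain ⟨e⟩ := S.quot
  obtain ⟨y, hy, hC, -⟩ := p.root
  have hyy : (⟨y, hy⟩ : eL false) * ⟨y, hy⟩ = uL false := Subtype.ext (cand0_facts hC).2
  have hfus : ∃ w : Subgroup.centralizer ({ψ (cL false ^ 2)} : Set (M ⧸ E)), w ∈ StdC.M ψ ∧
      ((w : M ⧸ E) * w) * ((w : M ⧸ E) * w) = 1 ∧ (w : M ⧸ E) * w ≠ 1 ∧ (w : M ⧸ E) * w ≠ ψ (cL false ^ 2) ∧
      ∃ q : M ⧸ E, q * ((w : M ⧸ E) * w) * q⁻¹ = ψ (cL false ^ 2) := by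
    have hu : ψ ⟨y, hy⟩ * ψ ⟨y, hy⟩ = ψ (uL false) := by rw [← map_mul, hyy]
    refine ⟨⟨ψ ⟨y, hy⟩, StdC.range_le ψ ⟨_, rfl⟩⟩, ⟨_, rfl⟩, ?_, ?_, ?_, ?_⟩
    · rw [hu, ← map_mul, show uL false * uL false = 1 from Subtype.ext (uE_sq false), map_one]
    · rw [hu]
      intro h1
      exact uE_ne_one false (congrArg Subtype.val (S.inj (h1.trans (map_one ψ).symm)))
    · rw [hu]
      intro h1
      refine c.u_notMem_K ?_
      rw [Ctx.u, S.inj h1]
      exact c.z_mem_K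
    · refine ⟨(π ⟨g, hgM⟩)⁻¹, ?_⟩
      rw [hu, inv_inv, hψ, MonoidHom.comp_apply, MonoidHom.comp_apply, ← map_inv, ← map_mul, ← map_mul]
      refine congrArg π (Subtype.ext ?_)
      show g⁻¹ * c.u * g = c.z
      rw [← hgu]; group
  obtain ⟨f, hf⟩ := exists_onto _ S.order_t (StdC.M ψ) S.index S.hout S.zcyclic S.zcard S.perfect card_F4 e hfus
  exact strongly_absurd hse E c.orderOf_z hzM f hf (by
    rw [show QuotientGroup.mk' E ⟨c.z, hzM⟩ = ψ (cL false ^ 2) from rfl]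
    exact S.cent_card)

end CfsgLib.ONStd
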