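import Cfsg.Agent.Lib.ONStd.Types
import Cfsg.Agent.Lib.ONStd.ChkH

/-!
The type of an element of the normaliser of a copy, and the inner conjugates of its central involution.
-/

set_option autoImplicit false
set_option linter.style.haveILetI false
set_option linter.unusedSectionVars false
set_option maxRecDepth 8000

namespace CfsgLib.ONStd

open CfsgLib.ONUnique

universe u

theorem move_fact {y : PE false} (hy : Cand0 false y) :
    ∃ t ∈ TT false, t * t = 1 ∧ t * y ≠ y * t := by
  obtain ⟨k, hk, rfl⟩ := hy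
  have h := move_false
  simp only [okMove, List.all_eq_true, List.any_eq_true, Bool.and_eq_true, Bool.not_eq_true', Nat.beq_eq] at h
  obtain ⟨t, ht, hty, htt⟩ := h k hk
  have hkl : k < 512 := (show ∀ k ∈ y0I false, k < 512 by decide +kernel) k hk
  refine ⟨xE false t, (mem_TT false).2 ⟨t, ht, rfl⟩, ?_, fun e => ?_⟩
  · rw [← (xE_mu (tList_lt ht) (tList_lt ht)).2, htt, xE_zc0]
  · rw [(comE_iff (tList_lt ht) hkl).2 e] at hty
    exact absurd hty (by simp)

theorem eL_invol {w : PE false} (hw : w ∈ eL false) (h2 : w * w = 1) :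
    w = 1 ∨ w = cE false ^ 2 ∨ ∃ v ∈ eL false, w = v * uE false * v⁻¹ := by
  by_cases hZ : IsZ false w
  · obtain ⟨l, hl, rfl⟩ := hZ
    rw [← pow_add] at h2
    interval_cases l
    · exact Or.inl (pow_zero _)
    · exact absurd h2 (cE_pow_ne false (by norm_num) (by norm_num))
    · exact Or.inr (Or.inl rfl)
    · rw [show 3 + 3 = 4 + 2 from rfl, pow_add, cE_four, one_mul] at h2
      exact absurd h2 (cE_pow_ne false (by norm_num) (by norm_num))
  obtain ⟨v, hv, l, hl, e⟩ := (lstFacts false).classes w hw ⟨0, by norm_num, by rw [h2, pow_zero]⟩ hZ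
  have h1 : cE false ^ (l + l) = 1 := by
    have h := h2
    rw [e, show v * (uE false * cE false ^ l) * v⁻¹ * (v * (uE false * cE false ^ l) * v⁻¹) =
      v * (uE false * (cE false ^ l * uE false) * cE false ^ l) * v⁻¹ by group,
      cE_pow_comm false l (uE_mem false), show v * (uE false * (uE false * cE false ^ l) * cE false ^ l) * v⁻¹ =
        v * (uE false * uE false * (cE false ^ l * cE false ^ l)) * v⁻¹ by group,
      uE_sq, one_mul, ← pow_add, conj_eq_one_iff] at h
    exact h
  refine Or.inr (Or.inr ?_)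
  interval_cases l
  · exact ⟨v, hv, by rw [e, pow_zero, mul_one]⟩
  · exact absurd h1 (cE_pow_ne false (by norm_num) (by norm_num))
  · obtain ⟨q, hq, eq'⟩ := uE_conj (s := false)
    exact ⟨v * q, mul_mem hv hq, by rw [e, ← eq']; group⟩
  · rw [show 3 + 3 = 4 + 2 from rfl, pow_add, cE_four, one_mul] at h1
    exact absurd h1 (cE_pow_ne false (by norm_num) (by norm_num))

/-- The action on the central generator is given by the type. -/
theorem cE_act {e : PE false} (he : e ∈ (eS false).G) : if Nat.testBit (typE false e) 1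
    then e * cE false = cE false ^ 2 * (cE false * e) else e * cE false = cE false * e := by
  obtain ⟨i, hi, hti⟩ := (lstFacts false).trep _ (typE_spec false he).1
  set r := xE false i with hr
  have hrX : r ∈ XX false := (mem_XX false).2 ⟨i, hi, rfl⟩
  have hrt : typE false r = typE false e := (xE_typ false hi).trans hti
  have hy : e * r⁻¹ ∈ eL false := by
    refine (typE_eq_zero false (mul_mem he (inv_mem hrX.1))).1 ?_
    rw [typE_mul false he (inv_mem hrX.1), typE_inv hrX.1, hrt]
    exact xor_self_zero _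
  have h := typeFacts.cact r hrX
  rw [hrt] at h
  set y := e * r⁻¹ with hyd
  have ey : e = y * r := by rw [hyd, inv_mul_cancel_right]
  split_ifs at h ⊢ with ht
  · calc e * cE false = y * (r * cE false) := by rw [ey, mul_assoc]
      _ = y * (cE false ^ 2 * (cE false * r)) := by rw [h]
      _ = (y * (cE false ^ 2 * cE false)) * r := by group
      _ = (cE false ^ 2 * cE false * y) * r := by
        rw [show cE false ^ 2 * cE false = cE false ^ 3 from (pow_succ _ 2).symm, cE_pow_comm false 3 hy]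
      _ = _ := by rw [ey]; group
  · calc e * cE false = y * (r * cE false) := by rw [ey, mul_assoc]
      _ = (y * cE false) * r := by rw [h, ← mul_assoc]
      _ = (cE false * y) * r := by rw [cE_comm false hy]
      _ = _ := by rw [ey, mul_assoc]

namespace Ctx

variable {G : Type u} [Group G] [Finite G] (c : Ctx G false)

/-- the type of an element of the normaliser -/
noncomputable def tau (n : G) : ℕ := typE false (Classical.epsilon (c.Acts n))

theorem tau_eq {n : G} {e : PE false} (h : c.Acts n e) : c.tau n = typE false e := by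
  have h' : c.Acts n (Classical.epsilon (c.Acts n)) := Classical.epsilon_spec ⟨e, h⟩
  have hz := c.acts_unique h' h
  set e' := Classical.epsilon (c.Acts n) with he'
  show typE false e' = _
  have h0 := (typE_eq_zero false (mul_mem (inv_mem h'.1) h.1)).2 (isZ_mem false hz)
  rw [typE_mul false (inv_mem h'.1) h.1, typE_inv h'.1] at h0
  exact Nat.eq_of_testBit_eq fun i => by
    have := congrArg (fun m => Nat.testBit m i) (show typE false e' ^^^ typE false e = 0 from h0)
    simpa [Nat.testBit_xor] using this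

theorem tau_lt {n : G} (hn : n ∈ c.N) : c.tau n < 4 := by
  obtain ⟨e, he⟩ := c.exists_act hn
  rw [c.tau_eq he]; exact typE_lt he.1

theorem tau_mul {n m : G} (hn : n ∈ c.N) (hm : m ∈ c.N) : c.tau (n * m) = Nat.xor (c.tau n) (c.tau m) := by
  obtain ⟨e, he⟩ := c.exists_act hn
  obtain ⟨f, hf⟩ := c.exists_act hm
  rw [c.tau_eq (c.acts_mul he hf), c.tau_eq he, c.tau_eq hf]
  exact typE_mul false he.1 hf.1

theorem tau_inv {n : G} (hn : n ∈ c.N) : c.tau n⁻¹ = c.tau n := by
  obtain ⟨e, he⟩ := c.exists_act hn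
  rw [c.tau_eq (c.acts_inv he), c.tau_eq he, typE_inv he.1]

theorem tau_iota (x : eL false) : c.tau (c.ι x) = 0 := by
  rw [c.tau_eq (c.acts_iota x)]
  exact (typE_eq_zero false (eL_le false x.2)).2 x.2

theorem tau_K {k : G} (hk : k ∈ c.K) : c.tau k = 0 := by
  rw [c.tau_eq (c.acts_K hk)]
  exact (typE_eq_zero false (one_mem _)).2 (one_mem _)

theorem tau_zero {n : G} (hn : n ∈ c.N) (h : c.tau n = 0) : ∃ x : eL false, ∃ k ∈ c.K, n = c.ι x * k := by
  obtain ⟨e, he⟩ := c.exists_act hn
  rw [c.tau_eq he] at h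
  have hm := (typE_eq_zero false he.1).1 h
  refine ⟨⟨e, hm⟩, (c.ι ⟨e, hm⟩)⁻¹ * n, ?_, (mul_inv_cancel_left _ _).symm⟩
  exact (c.acts_K_iff (c.acts_mul (c.acts_inv (c.acts_iota ⟨e, hm⟩)) he)).2
    ⟨0, by norm_num, by rw [pow_zero]; exact inv_mul_cancel _⟩

theorem tau_conj {n m : G} (hn : n ∈ c.N) (hm : m ∈ c.N) : c.tau (n * m * n⁻¹) = c.tau m := by
  rw [c.tau_mul (mul_mem hn hm) (inv_mem hn), c.tau_mul hn hm, c.tau_inv hn]
  show (c.tau n ^^^ c.tau m) ^^^ c.tau n = c.tau m
  rw [Nat.xor_comm (c.tau n), Nat.xor_assoc, Nat.xor_self, Nat.xor_zero]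

theorem cc_act {n : G} (hn : n ∈ c.N) : if Nat.testBit (c.tau n) 1
    then n * c.cc * n⁻¹ = c.cc⁻¹ else n * c.cc * n⁻¹ = c.cc := by
  obtain ⟨e, he⟩ := c.exists_act hn
  have h := cE_act he.1
  rw [c.tau_eq he]
  split_ifs at h ⊢ with ht
  · refine ((he.2 (cL false) (cL false ^ 3) ?_).trans ?_)
    · rw [cL_pow, cL]
      refine mul_inv_eq_iff_eq_mul.2 (h.trans ?_)
      rw [← mul_assoc, ← pow_succ]
    · rw [map_pow]
      exact eq_inv_of_mul_eq_one_left (by rw [show c.ι (cL false) = c.cc from rfl, ← pow_succ, c.cc_four])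
  · refine he.2 (cL false) (cL false) ?_
    rw [cL]
    exact mul_inv_eq_iff_eq_mul.2 h

/-- A conjugate of the central involution commuting with the central generator is inner. -/
theorem tau_conj_z {g : G} (hw : c.cc * (g * c.z * g⁻¹) = (g * c.z * g⁻¹) * c.cc) :
    g * c.z * g⁻¹ ∈ c.N ∧ c.tau (g * c.z * g⁻¹) = 0 := by
  set d := c.conj g with hd
  have hz : d.z = g * c.z * g⁻¹ := by rw [hd, conj_z]
  have hn : c.cc ∈ d.N := d.mem_N.2 (by rw [hz]; exact hw)
  obtain ⟨x, hx⟩ := d.sq_inner hn
  obtain ⟨x', k', hk', e⟩ := d.inner_symm c (x := x) hx (by rw [mul_inv_cancel_left, c.z_eq])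
  rw [hz] at e
  refine ⟨e ▸ mul_mem (c.iota_mem_N x') (c.K_le_N hk'), ?_⟩
  rw [e, c.tau_mul (c.iota_mem_N x') (c.K_le_N hk'), c.tau_iota, c.tau_K hk']
  rfl

end Ctx

namespace Pair

variable {G : Type u} [Group G] [Finite G] {c d : Ctx G false} (p : Pair c d)

include p

/-- An inner involution is the central one or conjugate to the inner one. -/
theorem inner_cases {v : G} (hv : v ∈ c.N) (h0 : c.tau v = 0) (h2 : v * v = 1) (h1 : v ≠ 1) :
    v = c.z ∨ ∃ x : eL false, v = c.ι x * c.u * (c.ι x)⁻¹ := by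
  obtain ⟨x, k, hk, e⟩ := c.tau_zero hv h0
  obtain ⟨w, rfl⟩ := p.inner_invol hk e h2
  have hw2 : (w : PE false) * w = 1 := congrArg Subtype.val (c.inj (by rw [map_mul, h2, map_one]) : w * w = 1)
  rcases eL_invol w.2 hw2 with e1 | e1 | ⟨q, hq, e1⟩
  · exact absurd (by rw [show w = 1 from Subtype.ext e1, map_one]) h1
  · exact Or.inl (congrArg c.ι (Subtype.ext (e1.trans (cL_pow 2).symm)))
  · refine Or.inr ⟨⟨q, hq⟩, ?_⟩
    rw [Ctx.u, ← map_inv, ← map_mul, ← map_mul]
    exact congrArg c.ι (Subtype.ext e1)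

end Pair

end CfsgLib.ONStd
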