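import Cfsg.Agent.Lib.ONStd.Strong
import Cfsg.Agent.Lib.ONStd.Inner
import Cfsg.Agent.Lib.ONStd.Init

/-!
A standard fourfold cover of the linear group on a four element field makes an O'Nan group.
-/

set_option autoImplicit false

namespace CfsgLib.ONStd

universe u

theorem iso_on_of_ctx {G : Type u} [Group G] [Finite G] [IsSimpleGroup G] {s : Bool} (c : Ctx G s) :
    Cfsg.Spor.IsoON G := by
  obtain ⟨h, x, k, hk, e, hne⟩ := c.exists_inner
  obtain ⟨a, p⟩ := exists_pair c (c.conj h) (Ctx.link_of_conj c hne) hk (by rw [Ctx.conj_z]; exact e)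
  obtain rfl := p.cls_false
  exact iso_on_of_pair p

end CfsgLib.ONStd
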