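import Cfsg.Agent.Lib.ONStd.Root
import Mathlib.GroupTheory.Perm.Cycle.Type

/-!
The odd part of the centraliser of a copy, and the types of the inner part of the other copy.
-/

set_option autoImplicit false
set_option linter.style.haveILetI false
set_option linter.unusedSectionVars false
set_option maxRecDepth 8000

namespace CfsgLib.ONStd

open CfsgLib.ONUnique

universe u

variable {G : Type u} [Group G] [Finite G]

theorem typE_lt {x : PE false} (hx : x ∈ (eS false).G) : typE false x < 4 := (typE_spec false hx).1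

theorem typE_inv {x : PE false} (hx : x ∈ (eS false).G) : typE false x⁻¹ = typE false x := by
  have h := typE_mul false (inv_mem hx) hx
  rw [inv_mul_cancel, (typE_eq_zero false (one_mem _)).2 (one_mem _)] at h
  have h2 : typE false x⁻¹ ^^^ typE false x = 0 := h.symm
  have := congrArg (· ^^^ typE false x) h2
  simpa [Nat.xor_assoc] using this

theorem cand0_ne {y : PE false} (h : Cand0 false y) : y ≠ 1 ∧ y ≠ uE false := by
  obtain ⟨h1, h2⟩ := cand0_four_notZ h
  refine ⟨fun e => h1 (e ▸ ⟨0, by norm_num, (pow_zero _).symm⟩), fun e => h2 1 ⟨0, by norm_num, (pow_zero _).symm⟩ ?_⟩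
  rw [mul_one, e]

theorem tt_pow {t : PE false} (ht : t ∈ TT false) : t ^ 2 ^ 7 = 1 := by
  have h := orderOf_dvd_natCard (⟨t, ht⟩ : TT false)
  rw [(card_cent false).2.1, ← Subgroup.orderOf_coe] at h
  exact orderOf_dvd_iff_pow_eq_one.1 h

namespace Pair

variable {c d : Ctx G false} (p : Pair c d)

include p

/-- Elements of two-power order of the centraliser of a copy are central in it. -/
theorem K_two : ∀ (e : ℕ) {r : G}, r ∈ c.K → r ^ 2 ^ e = 1 → ∃ i : ℕ, r = c.cc ^ i
  | 0, r, _, h => ⟨0, by simpa using h⟩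
  | e + 1, r, hr, h => by
    obtain ⟨j, hj⟩ := K_two e (c.K.mul_mem hr hr) (by rw [← pow_two, ← pow_mul, ← pow_succ']; exact h)
    have hrc : c.cc * r = r * c.cc := c.mem_K.1 hr (cL false)
    rw [pow_eq_pow_mod j c.cc_four] at hj
    have h4 := Nat.mod_lt j (show 4 > 0 by norm_num)
    interval_cases h' : j % 4
    · rcases p.K_invol hr (by rw [hj, pow_zero]) with rfl | rfl
      · exact ⟨0, (pow_zero _).symm⟩
      · exact ⟨2, by rw [pow_two, ← c.z_eq]⟩
    · rw [pow_one] at hj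
      exact absurd hj (p.K_no_eight hr)
    · have h1 : r * c.cc * (r * c.cc) = 1 := by
        calc r * c.cc * (r * c.cc) = r * (c.cc * r) * c.cc := by group
          _ = r * (r * c.cc) * c.cc := by rw [hrc]
          _ = r * r * (c.cc * c.cc) := by group
          _ = 1 := by rw [hj, ← pow_two, ← pow_add, c.cc_four]
      rcases p.K_invol (c.K.mul_mem hr c.cc_mem_K) h1 with e1 | e1
      · refine ⟨3, ?_⟩
        rw [eq_inv_of_mul_eq_one_left e1]
        exact inv_eq_of_mul_eq_one_left (by rw [← pow_succ, c.cc_four])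
      · refine ⟨1, ?_⟩
        rw [c.z_eq] at e1
        rw [pow_one, mul_right_cancel e1]
    · refine absurd ?_ (p.K_no_eight (v := r⁻¹) (c.K.inv_mem hr))
      rw [← mul_inv_rev, hj]
      exact inv_eq_of_mul_eq_one_right (by rw [← pow_succ, c.cc_four])

/-- An element of the centraliser of a copy is a central element times one of odd order. -/
theorem K_decomp {k : G} (hk : k ∈ c.K) :
    ∃ (i : ℕ) (r : G), r ∈ c.K ∧ Odd (orderOf r) ∧ k = c.cc ^ i * r := by
  obtain ⟨e, m, hm, hord⟩ := Nat.exists_eq_two_pow_mul_odd (n := orderOf k) (orderOf_pos k).ne'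
  obtain ⟨i, hi⟩ := p.K_two e (r := k ^ m) (c.K.pow_mem hk m)
    (by rw [← pow_mul, mul_comm, ← hord, pow_orderOf_eq_one])
  have hco : Nat.Coprime (2 ^ e) m := (Nat.coprime_two_left.2 hm).pow_left e
  obtain ⟨a, ha1, ha2⟩ := Nat.chineseRemainder hco 0 1
  set r := k ^ a with hr
  have hrm : r ^ m = 1 := by
    rw [hr, ← pow_mul]
    obtain ⟨b, hb⟩ := (Nat.modEq_zero_iff_dvd.1 ha1)
    rw [hb, mul_assoc, mul_comm b, ← mul_assoc, ← hord, pow_mul, pow_orderOf_eq_one, one_pow]
  have hq : (k * r⁻¹) ^ 2 ^ e = 1 := by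
    rw [(show Commute k r⁻¹ from ((Commute.refl k).pow_right a).inv_right).mul_pow, inv_pow, hr,
      ← pow_mul, mul_inv_eq_one, pow_eq_pow_iff_modEq, hord]
    have h := Nat.ModEq.mul_left' (2 ^ e) ha2.symm
    simpa [mul_comm] using h
  obtain ⟨j, hj⟩ := p.K_two e (c.K.mul_mem hk (c.K.inv_mem (c.K.pow_mem hk a))) hq
  exact ⟨j, r, c.K.pow_mem hk a, hm.of_dvd_nat (orderOf_dvd_of_pow_eq_one hrm),
    by rw [← hj, inv_mul_cancel_right]⟩

theorem odd_mul {a b : G} (ha : a ∈ c.K) (hoa : Odd (orderOf a)) (hb : b ∈ c.K) (hob : Odd (orderOf b)) :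
    Odd (orderOf (a * b)) := by
  classical
  haveI : Fact (Nat.Prime 2) := ⟨Nat.prime_two⟩
  have hodd : ¬ 2 ∣ (Subgroup.center c.K).index := by
    intro h2
    obtain ⟨q, hq⟩ := exists_prime_orderOf_dvd_card' (G := c.K ⧸ Subgroup.center c.K) 2 h2
    obtain ⟨⟨k, hk⟩, rfl⟩ := QuotientGroup.mk'_surjective _ q
    obtain ⟨i, r, hr, hor, rfl⟩ := p.K_decomp hk
    have hcm : (⟨c.cc ^ i, c.K.pow_mem c.cc_mem_K i⟩ : c.K) ∈ Subgroup.center c.K :=
      Subgroup.mem_center_iff.2 fun w => Subtype.ext (by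
        have := c.mem_K.1 w.2 (cL false ^ i)
        rw [map_pow] at this
        exact this.symm)
    have e : (⟨c.cc ^ i * r, hk⟩ : c.K) = ⟨c.cc ^ i, c.K.pow_mem c.cc_mem_K i⟩ * ⟨r, hr⟩ := rfl
    rw [e, map_mul, show QuotientGroup.mk' (Subgroup.center c.K) ⟨c.cc ^ i, c.K.pow_mem c.cc_mem_K i⟩ = 1
      from (QuotientGroup.eq_one_iff _).2 hcm, one_mul] at hq
    have h3 : 2 ∣ orderOf (⟨r, hr⟩ : c.K) := hq ▸ orderOf_map_dvd _ _
    rw [← Subgroup.orderOf_coe] at h3
    exact Nat.not_even_iff_odd.2 hor (even_iff_two_dvd.2 h3)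
  set n := (Subgroup.center c.K).index with hn
  have hnodd : Odd n := Nat.not_even_iff_odd.1 fun h => hodd (even_iff_two_dvd.1 h)
  let τ : c.K →* Subgroup.center c.K := MonoidHom.transferCenterPow c.K
  set x : c.K := ⟨a, ha⟩ with hx
  set y : c.K := ⟨b, hb⟩ with hy
  have hox : Odd (orderOf x) := by rw [← Subgroup.orderOf_coe]; exact hoa
  have hoy : Odd (orderOf y) := by rw [← Subgroup.orderOf_coe]; exact hob
  have h1 : (((τ x) * (τ y) : Subgroup.center c.K) : c.K) = (x * y) ^ n := by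
    rw [← map_mul]; exact MonoidHom.transferCenterPow_apply _
  have hodd1 : Odd (orderOf ((x * y) ^ n)) := by
    rw [← h1, Subgroup.orderOf_coe]
    refine Odd.of_dvd_nat ?_ ((show Commute (τ x) (τ y) from Subtype.ext (Subgroup.mem_center_iff.1 (τ y).2 _)).orderOf_mul_dvd_mul_orderOf)
    exact (hox.of_dvd_nat (orderOf_map_dvd τ x)).mul (hoy.of_dvd_nat (orderOf_map_dvd τ y))
  have h2 : orderOf (x * y) ∣ n * orderOf ((x * y) ^ n) :=
    orderOf_dvd_of_pow_eq_one (by rw [pow_mul, pow_orderOf_eq_one])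
  rw [show a * b = ((x * y : c.K) : G) from rfl, Subgroup.orderOf_coe]
  exact (hnodd.mul hodd1).of_dvd_nat h2

/-- the odd part of the centraliser of the copy -/
noncomputable def oddPart : Subgroup G where
  carrier := {k | k ∈ c.K ∧ Odd (orderOf k)}
  one_mem' := ⟨c.K.one_mem, by rw [orderOf_one]; exact odd_one⟩
  mul_mem' := fun ha hb => ⟨c.K.mul_mem ha.1 hb.1, p.odd_mul ha.1 ha.2 hb.1 hb.2⟩
  inv_mem' := fun ha => ⟨c.K.inv_mem ha.1, by rw [orderOf_inv]; exact ha.2⟩

/-- An odd element commuting with both central involutions centralises the copy. -/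
theorem odd_cent {n : G} (hn : n ∈ c.N) (hu : n * c.u = c.u * n) (ho : Odd (orderOf n)) : n ∈ c.K := by
  obtain ⟨e, he⟩ := c.exists_act hn
  have heX := c.act_XX he hu
  have h512 : e ^ 2 ^ 9 = 1 := by
    have h := orderOf_dvd_natCard (⟨e, heX⟩ : XX false)
    rw [(card_cent false).1, ← Subgroup.orderOf_coe] at h
    exact orderOf_dvd_iff_pow_eq_one.1 h
  obtain ⟨l, hl, el⟩ : IsZ false (e ^ orderOf n) :=
    (c.acts_K_iff (c.acts_pow he _)).1 (by rw [pow_orderOf_eq_one]; exact c.K.one_mem)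
  have h4 : e ^ (orderOf n * 4) = 1 := by
    rw [pow_mul, el, ← pow_mul, mul_comm, pow_mul, cE_four, one_pow]
  have hgcd : orderOf e ∣ 4 := by
    have hd := Nat.dvd_gcd (orderOf_dvd_of_pow_eq_one h4) (orderOf_dvd_of_pow_eq_one h512)
    rw [mul_comm, show (2 : ℕ) ^ 9 = 4 * 2 ^ 7 by norm_num, Nat.gcd_mul_left,
      ((Nat.coprime_two_right.2 ho).pow_right 7).gcd_eq_one, mul_one] at hd
    exact hd
  refine (c.acts_K_iff he).2 ?_
  have e4 : e ^ 4 = 1 := orderOf_dvd_iff_pow_eq_one.1 hgcd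
  obtain ⟨j, hj⟩ := ho
  have hmm : e = (e ^ orderOf n) ^ orderOf n := by
    rw [← pow_mul, hj, show (2 * j + 1) * (2 * j + 1) = 4 * (j * j + j) + 1 by ring, pow_succ, pow_mul, e4,
      one_pow, one_mul]
  rw [hmm, el, ← pow_mul]
  exact isZ_pow false _

theorem odd_iff {k : G} : (k ∈ c.K ∧ Odd (orderOf k)) ↔ (k ∈ d.K ∧ Odd (orderOf k)) := by
  constructor
  · rintro ⟨hk, ho⟩
    refine ⟨p.symm.odd_cent (d.mem_N.2 ?_) ?_ ho, ho⟩
    · rw [p.hd]; exact (c.mem_K.1 hk (uL false)).symm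
    · rw [← p.hc]; exact (c.mem_K.1 hk _).symm
  · rintro ⟨hk, ho⟩
    refine ⟨p.odd_cent (c.mem_N.2 ?_) ?_ ho, ho⟩
    · rw [p.hc]; exact (d.mem_K.1 hk (uL false)).symm
    · rw [← p.hd]; exact (d.mem_K.1 hk _).symm

theorem oddPart_symm : p.oddPart = p.symm.oddPart := by
  ext k
  exact p.odd_iff

/-- An inner involution lies in the copy. -/
theorem inner_invol {v : G} {x : eL false} {k : G} (hk : k ∈ c.K) (e : v = c.ι x * k) (h2 : v * v = 1) :
    ∃ w : eL false, v = c.ι w := by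
  obtain ⟨i, r, hr, hor, rfl⟩ := p.K_decomp hk
  set w := x * cL false ^ i with hw
  have ev : v = c.ι w * r := by rw [e, hw, map_mul, map_pow, mul_assoc]; rfl
  have hrr : r * r = (c.ι (w * w))⁻¹ := by
    refine eq_inv_of_mul_eq_one_right ?_
    rw [map_mul, ← h2, ev]
    calc c.ι w * c.ι w * (r * r) = c.ι w * (c.ι w * r) * r := by group
      _ = c.ι w * (r * c.ι w) * r := by rw [c.mem_K.1 hr w]
      _ = _ := by group
  have hK : c.ι (w * w) ∈ c.K := by
    have := c.K.inv_mem (c.K.mul_mem hr hr)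
    rwa [hrr, inv_inv] at this
  obtain ⟨l, -, el⟩ := (c.acts_K_iff (c.acts_iota _)).1 hK
  have h4 : (r * r) ^ 4 = 1 := by
    rw [hrr, inv_pow, ← map_pow, show (w * w) ^ 4 = 1 from Subtype.ext (by
      rw [SubgroupClass.coe_pow, el, ← pow_mul, mul_comm, pow_mul, cE_four, one_pow]; rfl), map_one, inv_one]
  have hr1 : r = 1 := orderOf_eq_one_iff.1 (Nat.eq_one_of_dvd_coprimes
    ((Nat.coprime_two_right.2 hor).pow_right 3) dvd_rfl
    (orderOf_dvd_of_pow_eq_one (by rw [show (2 : ℕ) ^ 3 = 2 * 4 by norm_num, pow_mul, pow_two, h4])))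
  exact ⟨w, by rw [ev, hr1, mul_one]⟩

/-- The inner part of the other copy acts as the centraliser of a root in the classes `0` and `3`. -/
theorem img_types : ∃ y, ∃ hy : y ∈ eL false, Cand0 false y ∧ d.cc = c.ι ⟨y, hy⟩ ∧
    (∀ x ∈ d.img c, typE false x = 0 ∨ typE false x = 3) ∧
    ∀ x ∈ XX false, x * y = y * x → (typE false x = 0 ∨ typE false x = 3) → x ∈ d.img c := by
  classical
  obtain ⟨y, hy, hC, ey⟩ := p.root
  obtain ⟨y2, hy2, hC2, ey2⟩ := p.symm.root
  refine ⟨y, hy, hC, ey, ?_⟩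
  set S := d.img c with hS
  have hyT := cand_mem (cand0_facts hC).1
  have hy2T := cand_mem (cand0_facts hC2).1
  have hmem : ∀ x ∈ S, ∃ t, ∃ ht : t ∈ TT false, x ∈ XX false ∧ c.Acts (d.ι ⟨t, ht.1⟩) x := by
    rintro _ ⟨⟨t, x⟩, ⟨ht, hx, hA⟩, rfl⟩
    exact ⟨t, ht, hx, hA⟩
  have hSy : ∀ x ∈ S, x * y = y * x := fun x hx => by
    obtain ⟨t, ht, -, hA⟩ := hmem x hx
    refine (c.acts_comm_iff hA ⟨y, hy⟩).1 ?_
    rw [← ey]; exact d.mem_K.1 d.cc_mem_K _
  have hcc : ∀ x ∈ S, ∀ t (ht : t ∈ TT false), c.Acts (d.ι ⟨t, ht.1⟩) x →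
      (t * y2 = y2 * t ↔ x * cE false = cE false * x) := by
    intro x _ t ht hA
    refine Iff.trans ?_ (c.acts_comm_iff hA (cL false))
    rw [show c.ι (cL false) = c.cc from rfl, ey2, ← map_mul, ← map_mul]
    exact ⟨fun e => congrArg d.ι (Subtype.ext e), fun e => congrArg Subtype.val (d.inj e)⟩
  have hc4 : Nat.card (d.common c) = 4 := by
    have hm : y2 ∈ d.common c := ⟨hy2T, by
      show d.ι ⟨y2, _⟩ ∈ c.K
      rw [← ey2]; exact c.cc_mem_K⟩
    have h3 : 3 ≤ Nat.card (d.common c) := by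
      obtain ⟨n1, nu⟩ := cand0_ne hC2
      have hsub : (({1, uE false, y2} : Finset (PE false)) : Set (PE false)) ⊆ (d.common c : Set (PE false)) := by
        intro t ht
        simp only [Finset.coe_insert, Finset.coe_singleton, Set.mem_insert_iff, Set.mem_singleton_iff] at ht
        rcases ht with rfl | rfl | rfl
        exacts [one_mem _, p.symm.u_mem_common, hm]
      have := Set.ncard_le_ncard hsub (Set.toFinite _)
      rw [Set.ncard_coe_finset, ← Nat.card_coe_set_eq,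
        Finset.card_insert_of_notMem (by simp [Ne.symm (uE_ne_one false), Ne.symm n1]),
        Finset.card_insert_of_notMem (by simp [Ne.symm nu]), Finset.card_singleton] at this
      exact this
    obtain ⟨h4, h⟩ := p.symm.card_common
    have := p.symm.card_img
    interval_cases hh : Nat.card (d.common c)
    · omega
    · rfl
  have hS128 : Nat.card S = 128 := by
    have := p.symm.card_img
    rw [hc4] at this
    change Nat.card S * 4 = 512 at this
    omega
  set A := S ⊓ eL false with hA'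
  -- counting by classes
  have hbound : ∀ (Q : Finset ℕ), (∀ x ∈ S, typE false x ∈ Q) → 128 ≤ Q.card * Nat.card A := by
    intro Q hQ
    rw [← hS128, ← Fintype.card_coe Q, ← Nat.card_eq_fintype_card, ← Nat.card_prod]
    let r : Q → S := fun t => if h : ∃ x : S, typE false (x : PE false) = t then h.choose else 1
    have hr : ∀ x : S, typE false (r ⟨_, hQ x x.2⟩ : PE false) = typE false (x : PE false) := fun x => by
      have h : ∃ w : S, typE false (w : PE false) = typE false (x : PE false) := ⟨x, rfl⟩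
      simp only [r, dif_pos h]
      exact h.choose_spec
    have hG : ∀ x : S, (x : PE false) ∈ (eS false).G := fun x => ((hmem x x.2).choose_spec.choose_spec).2.1
    let f : Q × A → S := fun q => r q.1 * ⟨q.2, q.2.2.1⟩
    refine Nat.card_le_card_of_surjective f fun x => ?_
    set w := r ⟨_, hQ x x.2⟩ with hw
    refine ⟨(⟨_, hQ x x.2⟩, ⟨((w⁻¹ * x : S) : PE false), (w⁻¹ * x).2, ?_⟩), Subtype.ext ?_⟩
    · refine (typE_eq_zero false (hG _)).1 ?_
      rw [Subgroup.coe_mul, Subgroup.coe_inv, typE_mul false (inv_mem (hG w)) (hG x), typE_inv (hG w), hw, hr]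
      exact xor_self_zero _
    · show (w : PE false) * ((w⁻¹ * x : S) : PE false) = x
      rw [Subgroup.coe_mul, Subgroup.coe_inv, mul_inv_cancel_left]
  have hXG : ∀ x ∈ S, x ∈ (eS false).G := fun x hx => ((hmem x hx).choose_spec.choose_spec).2.1
  have hA16 : 32 ≤ Nat.card A := by
    have := hbound (Finset.range 4) fun x hx => Finset.mem_range.2 (typE_lt (hXG x hx))
    rw [Finset.card_range] at this
    omega
  have hAT : ∀ a ∈ A, a ∈ TT false := fun a ha =>
    ⟨ha.2, (hmem a ha.1).choose_spec.choose_spec.1.2⟩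
  -- no element of the first class
  have hno1 : ∀ x ∈ S, typE false x ≠ 1 := by
    intro x hx ht1
    obtain ⟨t, ht, hxX, hAx⟩ := hmem x hx
    have hxc : x * cE false = cE false * x := by
      have := typeFacts.cact x hxX
      rwa [ht1, if_neg (by decide)] at this
    have h16 := cand0_outer hC hxX ht1 (hSy x hx)
    have : Nat.card A ≤ 16 := by
      refine le_trans (Nat.card_le_card_of_injective
        (fun a : A => (⟨a, hAT a a.2, hSy a a.2.1, ?_⟩ :
          {w : PE false // w ∈ TT false ∧ w * y = y * w ∧ ComZ false w x}))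
        fun a b e => Subtype.ext (congrArg (fun q => q.1) e)) h16
      obtain ⟨t', ht', -, hAa⟩ := hmem a a.2.1
      refine c.comZ_of_comm hAa hAx ?_
      rw [← map_mul, ← map_mul]
      exact congrArg d.ι (Subtype.ext (cand0_abelian hC2 ht' ht
        ((hcc a a.2.1 t' ht' hAa).2 (cE_comm false a.2.2).symm) ((hcc x hx t ht hAx).2 hxc)))
    omega
  -- some element inverts
  obtain ⟨t0, hx0⟩ : ∃ t0, ∃ x ∈ S, typE false x = t0 ∧ (t0 = 2 ∨ t0 = 3) := by
    obtain ⟨t, ht, hne⟩ := typeFacts.nc y2 (cand0_facts hC2).1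
    obtain ⟨x, hx⟩ := c.exists_act (p.symm.tt_mem_N ht)
    have hxX : x ∈ XX false := c.act_XX hx (by rw [← p.hd]; exact d.iota_comm_z _)
    have hxS : x ∈ S := ⟨(t, x), ⟨ht, hxX, hx⟩, rfl⟩
    refine ⟨_, x, hxS, rfl, ?_⟩
    have hn : ¬ x * cE false = cE false * x := fun e => hne ((hcc x hxS t ht hx).2 e).symm
    have hc := typeFacts.cact x hxX
    have hlt := typE_lt hxX.1
    generalize typE false x = n at hc hlt ⊢
    interval_cases n
    · exact absurd (by rwa [if_neg (by decide)] at hc) hn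
    · exact absurd (by rwa [if_neg (by decide)] at hc) hn
    · exact Or.inl rfl
    · exact Or.inr rfl
  obtain ⟨x0, hx0S, hx0t, ht0⟩ := hx0
  have htyp : ∀ x ∈ S, typE false x = 0 ∨ typE false x = t0 := by
    intro x hx
    have h1 := hno1 x hx
    have h2 := hno1 (x0 * x) (mul_mem hx0S hx)
    rw [typE_mul false (hXG _ hx0S) (hXG _ hx), hx0t] at h2
    have hlt := typE_lt (hXG x hx)
    generalize typE false x = n at h1 h2 hlt ⊢
    rcases ht0 with rfl | rfl <;> interval_cases n <;> first | omega | exact absurd (by decide) h2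
  have hA64 : 64 ≤ Nat.card A := by
    have := hbound {0, t0} fun x hx => by rcases htyp x hx with e | e <;> simp [e]
    have h2 : ({0, t0} : Finset ℕ).card ≤ 2 := Finset.card_le_two
    nlinarith
  have hC0 : ∀ x ∈ XX false, x * y = y * x → typE false x = 0 → x ∈ A := by
    intro x hx hxy hxt
    let g : A → {w : PE false // w ∈ XX false ∧ typE false w = 0 ∧ w * y = y * w} := fun a =>
      ⟨a, TT_le false (hAT a a.2), (typE_eq_zero false (hXG a a.2.1)).2 a.2.2, hSy a a.2.1⟩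
    have hg : Function.Injective g := fun a b e => Subtype.ext (congrArg (fun q => q.1) e)
    have hb := hg.bijective_of_nat_card_le (by rw [typeFacts.cnt y hC 0 (by norm_num)]; exact hA64)
    obtain ⟨a, ha⟩ := hb.2 ⟨x, hx, hxt, hxy⟩
    have : (a : PE false) = x := congrArg (fun q => q.1) ha
    exact this ▸ a.2
  have hCt : ∀ x ∈ XX false, x * y = y * x → typE false x = t0 → x ∈ S := by
    intro x hx hxy hxt
    have hx0X : x0 ∈ XX false := (hmem x0 hx0S).choose_spec.choose_spec.1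
    have hm := hC0 (x0⁻¹ * x) (mul_mem (inv_mem hx0X) hx) (by
      have h0 : Commute x0⁻¹ y := Commute.inv_left (hSy x0 hx0S)
      exact (h0.mul_left hxy).eq) (by
      rw [typE_mul false (inv_mem hx0X.1) hx.1, typE_inv hx0X.1, hx0t, hxt]; exact xor_self_zero _)
    have := mul_mem hx0S hm.1
    rwa [mul_inv_cancel_left] at this
  rcases ht0 with rfl | rfl
  · exfalso
    obtain ⟨a, ha, b, hb, q, hq, hbt, hay, hby, hab, hqq⟩ := typeFacts.gcomm y hC
    obtain ⟨ta, hta, -, hAa⟩ := hmem a (hC0 a (TT_le false ha) hay ((typE_eq_zero false (eL_le false ha.1)).2 ha.1)).1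
    obtain ⟨tb, htb, -, hAb⟩ := hmem b (hCt b hb hby hbt)
    obtain ⟨q', hq', he', hq'2⟩ := typeFacts.tcomm ta hta tb htb
    set na := d.ι ⟨ta, hta.1⟩ with hna
    set nb := d.ι ⟨tb, htb.1⟩ with hnb
    set k := (c.ι ⟨a, ha.1⟩)⁻¹ * na with hk
    have hkK : k ∈ c.K := (c.acts_K_iff (c.acts_mul (c.acts_inv (c.acts_iota ⟨a, ha.1⟩)) hAa)).2
      ⟨0, by norm_num, by rw [pow_zero]; exact inv_mul_cancel _⟩
    have hk2 : k ^ 2 ^ 7 = 1 := by
      have hcom : Commute (c.ι ⟨a, ha.1⟩) na := by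
        show c.ι ⟨a, ha.1⟩ * na = na * c.ι ⟨a, ha.1⟩
        have hn : na = c.ι ⟨a, ha.1⟩ * k := by rw [hk, mul_inv_cancel_left]
        rw [hn, mul_assoc, ← c.mem_K.1 hkK, ← mul_assoc]
      rw [hk, hcom.inv_left.mul_pow, inv_pow, ← map_pow, hna, ← map_pow,
        show (⟨a, ha.1⟩ : eL false) ^ 2 ^ 7 = 1 from Subtype.ext (by rw [SubgroupClass.coe_pow]; exact tt_pow ha),
        show (⟨ta, hta.1⟩ : eL false) ^ 2 ^ 7 = 1 from Subtype.ext (by rw [SubgroupClass.coe_pow]; exact tt_pow hta),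
        map_one, map_one, inv_one, mul_one]
    obtain ⟨i, hi⟩ := p.K_two 7 hkK hk2
    set k' := k * nb * k⁻¹ * nb⁻¹ with hk'
    have hk'2 : k' * k' = 1 := by
      have hnbN : nb ∈ c.N := c.acts_mem_N hAb
      have hconj : nb * k⁻¹ * nb⁻¹ = k⁻¹ ∨ nb * k⁻¹ * nb⁻¹ = k := by
        rw [hi]
        rcases c.cc_conj hnbN with e | e
        · left
          rw [← inv_pow, ← conj_pow, ← MulAut.conj_apply, map_inv, MulAut.conj_apply, e]
        · right
          rw [← inv_pow, ← conj_pow, ← MulAut.conj_apply, map_inv, MulAut.conj_apply, e, inv_inv]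
      rcases hconj with e | e
      · rw [hk', show k * nb * k⁻¹ * nb⁻¹ = k * (nb * k⁻¹ * nb⁻¹) by group, e, mul_inv_cancel, one_mul]
      · rw [hk', show k * nb * k⁻¹ * nb⁻¹ = k * (nb * k⁻¹ * nb⁻¹) by group, e, hi, ← pow_add, ← pow_add,
          show i + i + (i + i) = 4 * i by ring, pow_mul, c.cc_four, one_pow]
    have hk'K : k' ∈ c.K := by
      rw [hk', show k * nb * k⁻¹ * nb⁻¹ = k * (nb * k⁻¹ * nb⁻¹) by group]
      exact c.K.mul_mem hkK (c.conj_K (c.acts_mem_N hAb) (c.K.inv_mem hkK))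
    have hcomm : d.ι ⟨q', hq'.1⟩ = c.ι ⟨q, hq.1⟩ * k' := by
      have e1 : d.ι ⟨q', hq'.1⟩ = na * nb * na⁻¹ * nb⁻¹ := by
        rw [hna, hnb, ← map_inv, ← map_inv, ← map_mul, ← map_mul, ← map_mul]
        refine congrArg d.ι (Subtype.ext ?_)
        show q' = ta * tb * ta⁻¹ * tb⁻¹
        rw [he']; group
      have e2 := c.acts_apply hAb (⟨a, ha.1⟩ : eL false)⁻¹
      rw [map_inv] at e2
      have hn : na = c.ι ⟨a, ha.1⟩ * k := by rw [hk, mul_inv_cancel_left]
      have e3 : na * nb * na⁻¹ * nb⁻¹ = c.ι ⟨a, ha.1⟩ * (k' * (nb * (c.ι ⟨a, ha.1⟩)⁻¹ * nb⁻¹)) := by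
        rw [hn, hk']; group
      rw [e1, e3, e2, ← c.mem_K.1 hk'K, ← mul_assoc, ← map_mul]
      refine congrArg (fun w => c.ι w * k') (Subtype.ext ?_)
      show a * (b * ((⟨a, ha.1⟩ : eL false)⁻¹ : eL false) * b⁻¹) = q
      rw [Subgroup.coe_inv, ← mul_inv_cancel_right q (b * a), ← hab]
      group
    have hsq : d.ι ⟨q', hq'.1⟩ * d.ι ⟨q', hq'.1⟩ = c.z := by
      rw [hcomm]
      calc c.ι ⟨q, hq.1⟩ * k' * (c.ι ⟨q, hq.1⟩ * k')
          = c.ι ⟨q, hq.1⟩ * (k' * c.ι ⟨q, hq.1⟩) * k' := by group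
        _ = c.ι ⟨q, hq.1⟩ * (c.ι ⟨q, hq.1⟩ * k') * k' := by rw [c.mem_K.1 hk'K]
        _ = c.ι ⟨q, hq.1⟩ * c.ι ⟨q, hq.1⟩ * (k' * k') := by group
        _ = c.z := by
          rw [hk'2, mul_one, ← map_mul]
          exact congrArg c.ι (Subtype.ext (by rw [Subgroup.coe_mul, cL_pow]; exact hqq))
    rw [← map_mul] at hsq
    rcases hq'2 with e | e
    · rw [show (⟨q', hq'.1⟩ : eL false) * ⟨q', hq'.1⟩ = 1 from Subtype.ext e, map_one] at hsq
      exact c.z_ne hsq.symm
    · rw [show (⟨q', hq'.1⟩ : eL false) * ⟨q', hq'.1⟩ = cL false ^ 2 from Subtype.ext (by rw [cL_pow]; exact e)] at hsq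
      refine c.u_notMem_K ?_
      rw [← p.hd, show d.z = c.z from hsq]
      exact c.z_mem_K
  · refine ⟨htyp, fun x hx hxy ht => ?_⟩
    rcases ht with e | e
    · exact (hC0 x hx hxy e).1
    · exact hCt x hx hxy e

end Pair

end CfsgLib.ONStd
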